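import Cfsg.Agent.OddChar.TypeOne.Gap.Local.Glue
import Cfsg.Agent.S1545
import Cfsg.Agent.OddLocal.P2ElemAux
import Cfsg.Agent.S1367
import Cfsg.Agent.OddLocal.NonTIMain

/-!
# Arithmetic of `L` at a pair
-/

set_option autoImplicit false
set_option linter.unusedSectionVars false
set_option linter.style.haveILetI false

namespace Cfsg.Agent.OddChar.TypeOne.Gap.Local

open Cfsg Subgroup
open Cfsg.Agent.OddLocal Cfsg.Agent.OddLocal.Signalizer Cfsg.Agent.OddLocal.SigmaParts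

variable {G : Type*} [Group G] [Fintype G] {M L A : Subgroup G} {p : ℕ} [hp : Fact p.Prime] {u : G}

namespace Pair

variable (d : Pair p M L A u)
include d

theorem not_ideal : ¬ IsIdealPrime p G := fun h => by
  obtain ⟨S, hAS⟩ := d.ctx.hA.isPGroup.exists_le_sylow
  obtain ⟨B, -, hBe, hAB⟩ := h.2.2 S A hAS d.ctx.hA.el d.ctx.hA.card
  refine hAB.not_ge fun b hb => d.ctx.hA.omega b (mem_centralizer_iff.mpr fun a ha => ?_) (hBe.2 b hb)
  exact Components.Hyperplane.mem_comm hBe (hAB.le ha) hb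

theorem two_le_index : 3 ≤ (coreIn L).index := by
  have hodd : Odd (coreIn L).index := ((d.hG.1).of_dvd_nat (card_subgroup_dvd_card L)).of_dvd_nat
    (coreIn L).index_dvd_card
  have hne : (coreIn L).index ≠ 1 := by
    rw [ne_eq, index_eq_one, subgroupOf_eq_top]
    intro hle
    exact (Cfsg.Agent.Coprime.commutator_lt_of_isSolvable (Transitivity.isSolvable_of_ne_top d.hG d.hL.1)
      (fun e => Sigma.sigmaCore_ne_bot d.hG d.hL (le_bot_iff.mp (e ▸ Sigma.sigmaCore_le L)))).not_ge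
      (hle.trans (Sigma.sigmaCore_le_commutator d.hG d.hL))
  obtain ⟨k, hk⟩ := hodd
  omega

/-- A Sylow `p`-subgroup of `G` inside `L_σ` containing `A`. -/
theorem exists_sylow : ∃ P : Sylow p G, A ≤ (P : Subgroup G) ∧ (P : Subgroup G) ≤ sigmaCore L := by
  obtain ⟨S₀, hS₀L, -⟩ := Sigma.exists_sylow_normalizer_le d.p_sigma
  have hS₀ := Sigma.sylow_le_sigmaCore d.hG d.hL d.p_sigma S₀.isPGroup' hS₀L
  obtain ⟨Q, hQ⟩ := (d.ctx.hA.isPGroup.comap_subtype (K := sigmaCore L)).exists_le_sylow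
  obtain ⟨P, hP⟩ := (Q.isPGroup'.map (sigmaCore L).subtype).exists_le_sylow
  have heq : (Q : Subgroup (sigmaCore L)).map (sigmaCore L).subtype = (P : Subgroup G) := by
    refine eq_of_le_of_card_ge hP ?_
    rw [card_map_of_injective (sigmaCore L).subtype_injective,
      P.card_eq_multiplicity, ← S₀.card_eq_multiplicity,
      ← Nat.card_congr (subgroupOfEquivOfLe hS₀).toEquiv, Q.card_eq_multiplicity]
    obtain ⟨Q', hQ'⟩ := (S₀.isPGroup'.comap_subtype (K := sigmaCore L)).exists_le_sylow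
    rw [← Q'.card_eq_multiplicity]
    exact Nat.le_of_dvd Nat.card_pos (card_dvd_of_le hQ')
  refine ⟨P, fun a ha => ?_, heq ▸ map_subtype_le _⟩
  exact heq ▸ ⟨⟨a, d.AL ha⟩, hQ ha, rfl⟩

/-- Every element of `L` is in `L_σ N_L(P)`. -/
theorem cover {P : Sylow p G} (hP : (P : Subgroup G) ≤ sigmaCore L) {l : G} (hl : l ∈ L) :
    ∃ h ∈ sigmaCore L, h⁻¹ * l ∈ L ⊓ normalizer ((P : Subgroup G) : Set G) := by
  haveI := coreIn_normal L
  have hPL : (P : Subgroup G) ≤ L := hP.trans (Sigma.sigmaCore_le L)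
  let S : Sylow p ↥(coreIn L) := ((P.subtype hPL).subtype fun x hx => mem_subgroupOf.2 (hP hx))
  have htop := Sylow.normalizer_sup_eq_top S
  have hSmap : (S : Subgroup ↥(coreIn L)).map (coreIn L).subtype = (P : Subgroup G).subgroupOf L := by
    show (((P : Subgroup G).subgroupOf L).subgroupOf (coreIn L)).map (coreIn L).subtype = _
    rw [map_subgroupOf_eq_of_le fun x hx => mem_subgroupOf.2 (hP hx)]
  rw [hSmap, sup_comm] at htop
  have hmem : (⟨l, hl⟩ : L) ∈ coreIn L ⊔ normalizer (((P : Subgroup G).subgroupOf L : Subgroup L) : Set L) :=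
    htop.ge (mem_top _)
  rw [← SetLike.mem_coe, normal_mul] at hmem
  obtain ⟨h, hh, n, hn, e⟩ := Set.mem_mul.1 hmem
  refine ⟨h, mem_subgroupOf.1 hh, ?_⟩
  have en : (h : G)⁻¹ * l = n := by
    rw [inv_mul_eq_iff_eq_mul]; exact (congrArg Subtype.val e).symm
  rw [en]
  refine mem_inf.2 ⟨n.2, mem_normalizer_iff.2 fun x => ?_⟩
  by_cases hx : x ∈ L
  · exact (mem_normalizer_iff.1 hn ⟨x, hx⟩)
  · refine iff_of_false (fun h' => hx (hPL h')) fun h' => hx ?_
    have := mul_mem (mul_mem (inv_mem n.2) (hPL h')) n.2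
    simpa [mul_assoc] using this

/-- An element outside `L_σ` commuting with an element of `L_σ` gives one in the complement. -/
theorem fixed_conj {K U : Subgroup G} (hKU : IsSigmaDecomposition L K U) {c a : G} (hc : c ∈ L)
    (hcσ : c ∉ sigmaCore L) (ha : a ∈ sigmaCore L) (hca : c * a = a * c) :
    ∃ k ∈ U ⊔ K, k ≠ 1 ∧ ∃ x ∈ sigmaCore L, k * (x * a * x⁻¹) = x * a * x⁻¹ * k := by
  have hE := KappaDecomp.isCompl hKU
  obtain ⟨k, hk, h, hh, rfl⟩ := hE.2.2.2 c hc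
  have hkh : k * h * k⁻¹ ∈ sigmaCore L :=
    (mem_normalizer_iff.mp (Sigma.le_normalizer_sigmaCore L (hE.1 hk)) h).mp hh
  have hcop : Nat.Coprime (orderOf k) (Nat.card (sigmaCore L)) :=
    Nat.coprime_of_dvd fun r hr h1 h2 => Compl.not_sigma d.hG d.hL hE hr
      (h1.trans (orderOf_dvd_natCard _ hk)) (Transitivity.isPi_piCoreOf (sigma L) L r hr h2)
  obtain ⟨x, hx, c', hc', hck, hconj⟩ := S1496.result (sigmaCore L) k
    (Sigma.le_normalizer_sigmaCore L (hE.1 hk)) hcop _ hkh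
  rw [show k * h * k⁻¹ * k = k * h by group] at hconj
  refine ⟨k, hk, fun e => hcσ (by rw [e, one_mul]; exact hh), x, hx, ?_⟩
  have h1 : Commute (c' * k) (x * a * x⁻¹) := by
    rw [← hconj]
    exact (Commute.conj_iff x).2 hca
  obtain ⟨n, hn0, hn1⟩ := Nat.chineseRemainder (m := orderOf k) (n := Nat.card (sigmaCore L))
    hcop.symm 0 1
  have hpow : (c' * k) ^ n = k := by
    rw [(show Commute c' k from hck).mul_pow, show c' ^ n = 1 from orderOf_dvd_iff_pow_eq_one.1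
      ((orderOf_dvd_natCard _ hc').trans (Nat.modEq_zero_iff_dvd.1 hn0)), one_mul]
    conv_rhs => rw [← pow_one k]
    exact pow_eq_pow_iff_modEq.2 hn1
  have h2 := h1.pow_left n
  rw [hpow] at h2
  exact h2.eq

theorem normalizer_line_le : normalizer ((zpowers u : Subgroup G) : Set G) ≤ M := by
  intro n hn
  have hu' : centralizer ({u} : Set G) ≤ M.map (MulAut.conj n).toMonoidHom := by
    intro c hc
    refine ⟨n⁻¹ * c * n, d.centralizer_le (mem_centralizer_singleton_iff.mpr ?_), by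
      simp only [MulEquiv.coe_toMonoidHom, MulAut.conj_apply]; group⟩
    obtain ⟨i, hi⟩ := mem_zpowers_iff.mp ((mem_normalizer_iff.mp hn u).mp (mem_zpowers u))
    have h2 := (((show Commute c u from mem_centralizer_singleton_iff.mp hc).zpow_right i)).eq
    rw [hi] at h2
    calc n⁻¹ * c * n * u = n⁻¹ * (c * (n * u * n⁻¹)) * n := by group
      _ = n⁻¹ * (n * u * n⁻¹ * c) * n := by rw [h2]
      _ = u * (n⁻¹ * c * n) := by group
  exact (SigmaParts.mem_iff_conj_eq d.hG d.hM).mpr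
    (d.sig.uniq _ (Unique.isCoatom_map_conj d.hM n) hu')

/-- `L ∩ M` normalises `A`. -/
theorem normalizes {n a : G} (hnE : n ∈ L ⊓ M) (ha : a ∈ A) : n * a * n⁻¹ ∈ A := by
  have h1 : n * a * n⁻¹ ∈ sigmaCore M ⊔ A :=
    (mem_normalizer_iff.mp ((S1417.result d.hG M d.hM p d.ctx.hτ A
      ⟨d.ctx.hAM, d.ctx.hA.el, d.ctx.hA.card⟩).2.2.1 (mem_inf.mp hnE).2) a).mp (mem_sup_right ha)
  obtain ⟨w, hw, b, hb, e'⟩ := KappaDecomp.exists_mul_sup
    (d.ctx.hAM.trans (Sigma.le_normalizer_sigmaCore M)) h1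
  have hwE : w ∈ L ⊓ M := by
    rw [eq_mul_inv_of_mul_eq e'.symm]
    exact mul_mem (mul_mem (mul_mem hnE (d.A_le ha)) (inv_mem hnE)) (inv_mem (d.A_le hb))
  have hw1 : w = 1 := mem_bot.mp (d.compl.2.2.1.le (mem_inf.mpr ⟨hwE, hw⟩))
  rw [e', hw1, one_mul]; exact hb

/-- An elementwise semiregular action on `A` puts `L ∩ M` inside `L_σ`. -/
theorem E_le (hτL : tau2 L = ∅)
    (hsemi : ∀ c ∈ L, c ∉ sigmaCore L → ∀ a ∈ A, a ≠ 1 → c * a ≠ a * c) : L ⊓ M ≤ sigmaCore L := by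
  by_contra hle
  obtain ⟨e, he, heσ⟩ := SetLike.not_le_iff_exists.mp hle
  obtain ⟨r, hr, hrd, hrσ⟩ : ∃ r : ℕ, r.Prime ∧ r ∣ orderOf e ∧ r ∉ sigma L := by
    by_contra h
    push Not at h
    exact heσ ((DadeSets.mem_core_iff d.hG d.hL (mem_inf.mp he).1).mp h)
  haveI := Fact.mk hr
  set k := e ^ (orderOf e / r) with hk'
  have hko : orderOf k = r := orderOf_pow_orderOf_div (orderOf_pos e).ne' hrd
  have hk : k ∈ L ⊓ M := pow_mem he _
  have hk1 : k ≠ 1 := fun h => hr.ne_one (by rw [← hko, h, orderOf_one])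
  have hkσ : k ∉ sigmaCore L := fun h =>
    hrσ ((DadeSets.mem_core_iff d.hG d.hL (mem_inf.mp hk).1).mpr h r hr (hko ▸ dvd_rfl))
  have hWk : sigmaCore M ⊓ centralizer ({k} : Set G) = ⊥ := by
    by_contra hne
    obtain ⟨y, hy, hy1⟩ := (bot_or_exists_ne_one _).resolve_left hne
    exact hkσ (d.fixed_mem hτL hk hk1 (mem_inf.mp hy).1 hy1
      (mem_centralizer_singleton_iff.mp (mem_inf.mp hy).2).symm).1
  have hkA : ∀ n ∈ zpowers k, ∀ a ∈ A, n * a * n⁻¹ ∈ A :=
    fun n hn a ha => d.normalizes (zpowers_le.mpr hk hn) ha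
  have hfpf : ∀ n ∈ zpowers k, n ≠ 1 → ∀ a ∈ A, n * a = a * n → a = 1 := by
    intro n hn hn1 a ha hna
    by_contra ha1
    refine hsemi k (mem_inf.mp hk).1 hkσ a ha ha1 ?_
    obtain ⟨i, hi⟩ := mem_zpowers_iff.mp
      ((ZGroupCore.zpowers_eq_of_prime (A := zpowers k) (by rw [Nat.card_zpowers, hko]; exact hr) hn hn1).ge
        (mem_zpowers k))
    rw [← hi]
    exact ((show Commute n a from hna).zpow_left i).eq
  set X := zpowers k with hX
  have hXE : A ⊔ X ≤ L ⊓ M := sup_le d.A_le (zpowers_le.mpr hk)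
  have hAX : A ⊓ X = ⊥ := eq_bot_iff.mpr fun z hz => mem_bot.mpr <| by
    by_contra hz1
    exact hz1 (hfpf z (mem_inf.mp hz).2 hz1 z (mem_inf.mp hz).1 rfl)
  have hformula := S1545.result A X (sigmaCore M) d.ctx.hA.ne_bot
    (fun h => hk1 (zpowers_eq_bot.mp h)) hAX hkA hfpf
    (fun x hx h hh => (mem_normalizer_iff.mp (Sigma.le_normalizer_sigmaCore M (mem_inf.mp (hXE hx)).2) h).mp hh)
    (le_bot_iff.mp ((inf_le_inf_left _ hXE).trans (by rw [inf_comm]; exact d.compl.2.2.1.le)))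
    (Transitivity.isSolvable_of_ne_top d.hG fun h => d.hM.1 (top_le_iff.mp (h ▸ Sigma.sigmaCore_le M)))
    (((SigmaMeet.coprime_card d.hG d.hM d.compl).coprime_dvd_left (card_dvd_of_le hXE)).symm)
  have h1 : sigmaCore M ⊓ centralizer ((A ⊔ X : Subgroup G) : Set G) = ⊥ :=
    le_bot_iff.mp ((inf_le_inf_left _ (Subgroup.centralizer_le (SetLike.coe_subset_coe.2 (le_sup_left : A ≤ A ⊔ X)))).trans d.ctx.inf_centralizer.le)
  have h2 : sigmaCore M ⊓ centralizer ((X : Subgroup G) : Set G) = ⊥ := by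
    rw [hX, TauTwo.centralizer_zpowers]; exact hWk
  rw [h1, h2, d.ctx.inf_centralizer] at hformula
  simp only [card_bot, one_pow, one_mul] at hformula
  exact Sigma.sigmaCore_ne_bot d.hG d.hM (card_eq_one.mp hformula)

theorem omega_abelian {P : Sylow p G} (hAP : A ≤ (P : Subgroup G)) (hab : IsMulCommutative (P : Subgroup G)) :
    normalizer ((P : Subgroup G) : Set G) ≤ normalizer (A : Set G) := by
  rw [le_normalizer_iff]
  intro n hn a ha
  have hna : n * a * n⁻¹ ∈ (P : Subgroup G) := (mem_normalizer_iff.mp hn a).mp (hAP ha)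
  refine d.ctx.hA.omega _ (mem_centralizer_iff.mpr fun b hb => ?_) (by
    rw [conj_pow, d.ctx.hA.el.2 a ha, mul_one, mul_inv_cancel])
  exact congrArg Subtype.val (hab.is_comm.comm ⟨b, hAP hb⟩ ⟨_, hna⟩)

/-- A subgroup of `L` covering `L / L_σ`. -/
theorem index_dvd_of_ker {N : Subgroup G} (hN : N ≤ L)
    (hcov : ∀ l ∈ L, ∃ h ∈ sigmaCore L, h⁻¹ * l ∈ N) :
    ((sigmaCore L).subgroupOf N).index = (coreIn L).index := by
  haveI := coreIn_normal L
  set ψ : N →* L ⧸ coreIn L := (QuotientGroup.mk' (coreIn L)).comp (inclusion hN) with hψ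
  have hker : ψ.ker = (sigmaCore L).subgroupOf N := Subgroup.ext fun n =>
    (MonoidHom.mem_ker.trans (QuotientGroup.eq_one_iff _)).trans (mem_subgroupOf.trans mem_subgroupOf.symm)
  rw [← hker, index_ker, MonoidHom.range_eq_top.mpr, card_top, index_eq_card]
  intro q
  obtain ⟨⟨l, hl⟩, rfl⟩ := QuotientGroup.mk'_surjective (coreIn L) q
  obtain ⟨h, hh, hn⟩ := hcov l hl
  refine ⟨⟨_, hn⟩, (QuotientGroup.mk'_eq_mk' _).mpr ?_⟩
  have hnL : h⁻¹ * l ∈ L := hN hn
  refine ⟨⟨(h⁻¹ * l)⁻¹ * l, mul_mem (inv_mem hnL) hl⟩, mem_subgroupOf.mpr ?_, ?_⟩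
  · show (h⁻¹ * l)⁻¹ * l ∈ sigmaCore L
    rw [mul_inv_rev, inv_inv]
    have := (mem_normalizer_iff''.mp (Sigma.le_normalizer_sigmaCore L hl) h).mp hh
    simpa [mul_assoc] using this
  · exact Subtype.ext (mul_inv_cancel_left _ _)

theorem index_dvd_pred {Z : Subgroup G} (hZ : Nat.card Z = p)
    (hcov : ∀ l ∈ L, ∃ h ∈ sigmaCore L, h⁻¹ * l ∈ L ⊓ normalizer (Z : Set G))
    (hstab : ∀ c ∈ L, (∀ z ∈ Z, c * z = z * c) → c ∈ sigmaCore L) : (coreIn L).index ∣ p - 1 := by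
  have hψ := d.index_dvd_of_ker inf_le_left hcov
  let φ : ↥(L ⊓ normalizer (Z : Set G)) →* MulAut Z :=
    Z.normalizerMonoidHom.comp (inclusion inf_le_right)
  have hle : φ.ker ≤ (sigmaCore L).subgroupOf _ := fun n hn => by
    refine mem_subgroupOf.mpr (hstab n n.2.1 fun z hz => ?_)
    have h1 : (φ n ⟨z, hz⟩ : G) = z := by rw [MonoidHom.mem_ker.mp hn]; rfl
    exact mul_inv_eq_iff_eq_mul.mp (h1 : (n : G) * z * (n : G)⁻¹ = z)
  have : IsCyclic Z := isCyclic_of_prime_card (p := p) hZ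
  have h1 : φ.ker.index ∣ Nat.card (MulAut Z) := index_ker φ ▸ φ.range.card_subgroup_dvd_card
  rw [Nat.card_congr (IsCyclic.mulAutMulEquiv Z).toEquiv, Nat.card_eq_fintype_card (α := (ZMod _)ˣ),
    ZMod.card_units_eq_totient, hZ, Nat.totient_prime hp.out] at h1
  exact hψ ▸ (index_dvd_of_le hle).trans h1

theorem index_dvd_sq (hcov : ∀ l ∈ L, ∃ h ∈ sigmaCore L, h⁻¹ * l ∈ L ⊓ normalizer (A : Set G))
    (hsemi : ∀ c ∈ L, c ∉ sigmaCore L → ∀ a ∈ A, a ≠ 1 → c * a ≠ a * c) :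
    (coreIn L).index ∣ p ^ 2 - 1 := by
  classical
  have hψ := d.index_dvd_of_ker inf_le_left hcov
  set N := L ⊓ normalizer (A : Set G) with hN
  letI : MulAction N {a : A // a ≠ 1} :=
    { smul := fun n a => ⟨⟨(n : G) * (a.1 : G) * (n : G)⁻¹,
        (mem_normalizer_iff.mp n.2.2 _).mp a.1.2⟩,
        fun e => a.2 (Subtype.ext (conj_eq_one_iff.mp (congrArg Subtype.val e)))⟩
      one_smul := fun a => Subtype.ext (Subtype.ext (show (1 : G) * _ * (1 : G)⁻¹ = _ by simp))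
      mul_smul := fun m n a => Subtype.ext (Subtype.ext (show ((m : G) * n) * _ * ((m : G) * n)⁻¹ =
        (m : G) * ((n : G) * _ * (n : G)⁻¹) * (m : G)⁻¹ by group)) }
  have hcard : Nat.card {a : A // a ≠ 1} = p ^ 2 - 1 := by
    rw [Nat.card_eq_fintype_card, Fintype.card_subtype_compl, ← Nat.card_eq_fintype_card, d.ctx.hA.card,
      Fintype.card_unique]
  have hstab : ∀ a : {a : A // a ≠ 1}, MulAction.stabilizer N a ≤ (sigmaCore L).subgroupOf N := fun a n hn => by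
    refine mem_subgroupOf.mpr (by_contra fun hnσ => ?_)
    refine hsemi n n.2.1 hnσ a.1 a.1.2 (fun e => a.2 (Subtype.ext e)) ?_
    have h1 : (n : G) * (a.1 : G) * (n : G)⁻¹ = a.1 :=
      congrArg (fun b : {a : A // a ≠ 1} => ((b.1 : A) : G)) (MulAction.mem_stabilizer_iff.mp hn)
    exact mul_inv_eq_iff_eq_mul.mp h1
  haveI := Fintype.ofFinite (Quotient (MulAction.orbitRel N {a : A // a ≠ 1}))
  rw [← hcard, Nat.card_congr (MulAction.selfEquivSigmaOrbitsQuotientStabilizer N {a : A // a ≠ 1}),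
    Nat.card_sigma]
  exact Finset.dvd_sum fun ω _ => hψ ▸ index_dvd_of_le (hstab _)

theorem index_le_succ (hcov : ∀ l ∈ L, ∃ h ∈ sigmaCore L, h⁻¹ * l ∈ L ⊓ normalizer (A : Set G))
    (hE : L ⊓ M ≤ sigmaCore L) : (coreIn L).index ≤ p + 1 := by
  classical
  have hψ := d.index_dvd_of_ker inf_le_left hcov
  have hinj : Function.Injective fun z : (↥(L ⊓ normalizer (A : Set G)) ⧸ (sigmaCore L).subgroupOf (L ⊓ normalizer (A : Set G))) ×
      {b : zpowers u // b ≠ 1} => (⟨⟨(z.1.out : G) * (z.2.1 : G) * (z.1.out : G)⁻¹,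
        (mem_normalizer_iff.mp z.1.out.2.2 _).mp (zpowers_le.mpr d.hu z.2.1.2)⟩,
        fun e => z.2.2 (Subtype.ext (conj_eq_one_iff.mp (congrArg Subtype.val e)))⟩ : {a : A // a ≠ 1}) := by
    rintro ⟨q, b⟩ ⟨q', b'⟩ e
    have e' : (q.out : G) * (b.1 : G) * (q.out : G)⁻¹ = (q'.out : G) * (b'.1 : G) * (q'.out : G)⁻¹ :=
      congrArg (fun a : {a : A // a ≠ 1} => ((a.1 : A) : G)) e
    set n := (q'.out)⁻¹ * q.out
    have hnb : (n : G) * (b.1 : G) * (n : G)⁻¹ = b'.1 := by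
      show ((q'.out : G)⁻¹ * (q.out : G)) * (b.1 : G) * ((q'.out : G)⁻¹ * (q.out : G))⁻¹ = _
      calc _ = (q'.out : G)⁻¹ * ((q.out : G) * (b.1 : G) * (q.out : G)⁻¹) * (q'.out : G) := by group
        _ = _ := by rw [e']; group
    have hnu : (n : G) ∈ normalizer ((zpowers u : Subgroup G) : Set G) := by
      have hb : zpowers (b.1 : G) = zpowers u := ZGroupCore.zpowers_eq_of_prime
        (by rw [Nat.card_zpowers, d.orderOf_u]; exact hp.out) b.1.2 (fun h => b.2 (Subtype.ext h))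
      have hb' : zpowers (b'.1 : G) = zpowers u := ZGroupCore.zpowers_eq_of_prime
        (by rw [Nat.card_zpowers, d.orderOf_u]; exact hp.out) b'.1.2 (fun h => b'.2 (Subtype.ext h))
      refine Transfer.Fusion.map_conj_eq_self_iff.mp ?_
      calc (zpowers u).map (MulAut.conj (n : G)).toMonoidHom
          = (zpowers (b.1 : G)).map (MulAut.conj (n : G)).toMonoidHom := by rw [hb]
        _ = zpowers (b'.1 : G) := by rw [MonoidHom.map_zpowers]; exact congrArg zpowers hnb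
        _ = _ := hb'
    have hker : n ∈ (sigmaCore L).subgroupOf (L ⊓ normalizer (A : Set G)) :=
      mem_subgroupOf.mpr (hE (mem_inf.mpr ⟨n.2.1, d.normalizer_line_le hnu⟩))
    have hqq : q = q' := by
      rw [← q.out_eq', ← q'.out_eq']
      exact (QuotientGroup.eq.mpr hker).symm
    subst hqq
    exact Prod.ext rfl (Subtype.ext (Subtype.ext (mul_left_cancel (mul_right_cancel e'))))
  have h1 := Nat.card_le_card_of_injective _ hinj
  have hcnt : ∀ X : Subgroup G, Nat.card {a : X // a ≠ 1} = Nat.card X - 1 := fun X => by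
    rw [Nat.card_eq_fintype_card, Fintype.card_subtype_compl, Fintype.card_subtype_eq,
      Nat.card_eq_fintype_card]
  rw [Nat.card_prod, ← index_eq_card, hψ, hcnt A, hcnt (zpowers u), d.ctx.hA.card, Nat.card_zpowers,
    d.orderOf_u, show p ^ 2 - 1 = (p + 1) * (p - 1) by rw [← Nat.sq_sub_sq, one_pow]] at h1
  exact Nat.le_of_mul_le_mul_right h1 (by have := hp.out.two_le; omega)

theorem center_line {P : Sylow p G} (hAP : A ≤ (P : Subgroup G))
    (hab : ¬ IsMulCommutative (P : Subgroup G)) :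
    P2Elem.omegaCenter p (P : Subgroup G) ≤ A ∧
      Nat.card (P2Elem.omegaCenter p (P : Subgroup G)) = p := by
  have hle : P2Elem.omegaCenter p (P : Subgroup G) ≤ A := fun z hz =>
    d.ctx.hA.omega z (Subgroup.centralizer_le (SetLike.coe_subset_coe.2 hAP) hz.2.1) hz.2.2
  refine ⟨hle, d.ctx.hA.card_eq_of_lt hle (P2Elem.omegaCenter_ne_bot P.isPGroup' fun e =>
    d.ctx.hA.ne_bot (le_bot_iff.mp (e ▸ hAP))) fun e => hab ?_⟩
  have hPM : (P : Subgroup G) ≤ M := fun x hx => d.ctx.hCA (mem_centralizer_iff.mpr fun a ha => by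
    have := (e.ge ha).2.1
    exact (mem_centralizer_iff.mp this x hx).symm)
  obtain ⟨S, hS⟩ := (P.isPGroup'.comap_subtype (K := M)).exists_le_sylow
  have hSc := ((S1417.result d.hG M d.hM p d.ctx.hτ A ⟨d.ctx.hAM, d.ctx.hA.el, d.ctx.hA.card⟩).2.1 S).1
  refine ⟨⟨fun x y => Subtype.ext ?_⟩⟩
  exact congrArg (fun z : (S : Subgroup M) => ((z : M) : G)) (hSc.is_comm.comm
    ⟨⟨x, hPM x.2⟩, hS x.2⟩ ⟨⟨y, hPM y.2⟩, hS y.2⟩)

/-- With a semiregular action the index is small against `p`. -/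
theorem index_small (hτL : tau2 L = ∅)
    (hsemi : ∀ c ∈ L, c ∉ sigmaCore L → ∀ a ∈ A, a ≠ 1 → c * a ≠ a * c) :
    (coreIn L).index + 1 < p ∧ (coreIn L).index ∣ p ^ 2 - 1 := by
  obtain ⟨P, hAP, hPσ⟩ := d.exists_sylow
  have h3 := d.two_le_index
  have hodd : Odd (coreIn L).index := ((d.hG.1).of_dvd_nat (card_subgroup_dvd_card L)).of_dvd_nat
    (coreIn L).index_dvd_card
  have hpodd : Odd p := hp.out.odd_of_ne_two (d.ctx.hA.ne_two d.hG)
  by_cases hab : IsMulCommutative (P : Subgroup G)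
  · have hcov : ∀ l ∈ L, ∃ h ∈ sigmaCore L, h⁻¹ * l ∈ L ⊓ normalizer (A : Set G) := fun l hl => by
      obtain ⟨h, hh, hn⟩ := d.cover hPσ hl
      exact ⟨h, hh, (inf_le_inf_left L (d.omega_abelian hAP hab)) hn⟩
    have h1 := d.index_dvd_sq hcov hsemi
    have h2 := d.index_le_succ hcov (d.E_le hτL hsemi)
    refine ⟨?_, h1⟩
    obtain ⟨i, hi⟩ := hodd
    obtain ⟨j, hj⟩ := hpodd
    rcases eq_or_ne (coreIn L).index p with e | e
    · exfalso
      rw [e] at h1
      have h0 : 1 ≤ p ^ 2 := Nat.one_le_pow _ _ hp.out.pos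
      exact hp.out.ne_one (Nat.dvd_one.mp
        (by simpa [Nat.sub_sub_self h0] using Nat.dvd_sub (dvd_pow_self p two_ne_zero) h1))
    · omega
  · obtain ⟨hZA, hZ⟩ := d.center_line hAP hab
    have h1 := d.index_dvd_pred hZ (fun l hl => by
      obtain ⟨h, hh, hn⟩ := d.cover hPσ hl
      exact ⟨h, hh, (inf_le_inf_left L (P2Elem.normalizer_le_normalizer_omegaCenter _)) hn⟩)
      (fun c hc hcz => by
        by_contra hcσ
        obtain ⟨z, hz, hz1⟩ := (bot_or_exists_ne_one (P2Elem.omegaCenter p (P : Subgroup G))).resolve_left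
          fun e => by rw [e, card_bot] at hZ; exact hp.out.ne_one hZ.symm
        exact hsemi c hc hcσ z (hZA hz) hz1 (hcz z hz))
    have hp2 := hp.out.two_le
    refine ⟨?_, h1.trans ⟨p + 1, by rw [mul_comm, ← Nat.sq_sub_sq, one_pow]⟩⟩
    obtain ⟨k, hk⟩ := h1
    obtain ⟨i, hi⟩ := hodd
    obtain ⟨j, hj⟩ := hpodd
    rcases k with _ | _ | k
    · omega
    · omega
    · have : p - 1 + 1 = p := by omega
      nlinarith

end Pair

end Cfsg.Agent.OddChar.TypeOne.Gap.Local
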