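import Cfsg.Agent.OddChar.TypeOne.Gap.Local.Glue

/-!
# The general contradiction for a pair
-/

set_option autoImplicit false
set_option linter.unusedSectionVars false
set_option linter.style.haveILetI false

namespace Cfsg.Agent.OddChar.TypeOne.Gap.Local

open Cfsg Subgroup
open Cfsg.Agent.OddLocal Cfsg.Agent.OddLocal.Signalizer Cfsg.Agent.OddLocal.SigmaParts
open Cfsg.Agent.Characters Cfsg.Agent.OddChar

universe v

variable {G : Type v} [Group G] [Fintype G] {M L A : Subgroup G} {p : ℕ} [hp : Fact p.Prime] {u : G}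

theorem dade_L (hG : IsMinSimpleOddOrder G) (hL : IsCoatom L) :
    Cfsg.DadeHypothesis (hashSet ((sigmaCore L).subgroupOf L)) L (supportR L) := by
  obtain ⟨-, hD⟩ := DadeSets.main hG hL (typeA1 L) (Or.inl rfl)
  haveI := coreIn_normal L
  refine dade_mono hD ?_ ?_
  · rintro a ⟨h, h1, rfl⟩
    rw [typeA1, Types.typeCore_eq hG hL]
    exact ⟨mem_subgroupOf.1 h.2, fun e => h1 (Subtype.ext (Subtype.ext e))⟩
  · rintro x hx a ⟨h, h1, rfl⟩
    exact ⟨⟨(⟨x, hx⟩ : L) * h * (⟨x, hx⟩ : L)⁻¹, Subgroup.Normal.conj_mem inferInstance _ h.2 _⟩,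
      fun e => h1 (Subtype.ext (conj_eq_one_iff.mp (congrArg Subtype.val e))), rfl⟩

theorem card_modEq_one {K : Subgroup G} {a : G} (hao : orderOf a = p) (han : a ∈ normalizer (K : Set G))
    (hfix : K ⊓ centralizer ({a} : Set G) = ⊥) : Nat.card K ≡ 1 [MOD p] := by
  classical
  set τ : Equiv.Perm G := (MulAut.conj a).toEquiv with hτ
  have hτapp : ∀ g : G, τ g = a * g * a⁻¹ := fun g => MulAut.conj_apply _ _
  have hτpow : τ ^ p = 1 := by
    have hi : ∀ (i : ℕ) (g : G), (τ ^ i) g = a ^ i * g * (a ^ i)⁻¹ := fun i => by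
      induction i with
      | zero => intro g; simp
      | succ i ih => intro g; rw [pow_succ', Equiv.Perm.mul_apply, hτapp, ih, pow_succ']; group
    exact Equiv.ext fun g => by rw [hi, ← hao, pow_orderOf_eq_one]; simp
  set S := Finset.univ.filter (fun k : G => k ∈ K) with hS
  have hfixS : S.filter (fun k => τ k = k) = {1} := by
    refine Finset.eq_singleton_iff_unique_mem.2 ⟨by simp [hS, hτapp], fun k hk => ?_⟩
    obtain ⟨hk1, hk2⟩ := Finset.mem_filter.1 hk
    rw [hτapp, mul_inv_eq_iff_eq_mul] at hk2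
    exact mem_bot.1 (hfix.le (mem_inf.2 ⟨(Finset.mem_filter.1 hk1).2,
      mem_centralizer_singleton_iff.2 hk2.symm⟩))
  have := Cong.sum_fixed hp.out τ hτpow S (fun k hk => Finset.mem_filter.2 ⟨Finset.mem_univ _, by
      rw [hτapp]; exact (mem_normalizer_iff.1 han k).1 (Finset.mem_filter.1 hk).2⟩)
    (fun _ => (1 : ℂ)) (fun _ _ => rfl) hp.out.not_dvd_one
    (fun _ _ => by rw [Nat.cast_one, one_mul]; exact isIntegral_one)
  rw [hfixS, Finset.sum_singleton, Finset.sum_const, nsmul_one,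
    show S.card = Nat.card K by rw [Nat.card_eq_fintype_card, Fintype.card_subtype]] at this
  have h' := Cong.dvd hp.out (a := (Nat.card K : ℤ)) (b := 1) (by exact_mod_cast this)
  exact (Nat.modEq_iff_dvd.2 (by simpa using h')).symm

namespace Pair

variable (d : Pair p M L A u)
include d

/-- `|W : W'|` exceeds `p`. -/
theorem lt_index_commutator [Fintype M] : p < (commutator (coreIn M)).index := by
  obtain ⟨a, ha, ha1, hfix⟩ := d.exists_regular
  have hao := Components.Hyperplane.orderOf_eq d.ctx.hA.el ha ha1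
  have han : a ∈ normalizer (sigmaCore M : Set G) := Sigma.le_normalizer_sigmaCore M (d.ctx.hAM ha)
  set W' : Subgroup G := ⁅sigmaCore M, sigmaCore M⁆ with hW'
  have hW'le : W' ≤ sigmaCore M := Subgroup.commutator_le.2 fun x hx y hy => by
    rw [commutatorElement_def]; exact mul_mem (mul_mem (mul_mem hx hy) (inv_mem hx)) (inv_mem hy)
  have h1 := card_modEq_one hao han hfix
  have h2 := card_modEq_one hao (OddLocal.Coprime.le_normalizer_commutator_self
    (Sigma.le_normalizer_sigmaCore M) (d.ctx.hAM ha)) (K := W')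
    (le_bot_iff.1 ((inf_le_inf_right _ hW'le).trans hfix.le))
  set j : ↥(coreIn M) →* G := M.subtype.comp (coreIn M).subtype with hj
  have hjinj : Function.Injective j := M.subtype_injective.comp (coreIn M).subtype_injective
  have hrange : (⊤ : Subgroup ↥(coreIn M)).map j = sigmaCore M := by
    rw [hj, ← map_map, ← MonoidHom.range_eq_map, range_subtype, subgroupOf_map_subtype,
      inf_eq_left.2 (Sigma.sigmaCore_le M)]
  have hcard' : Nat.card (commutator (coreIn M)) = Nat.card W' := by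
    rw [← card_map_of_injective hjinj, _root_.commutator_def, map_commutator, hrange]
  have hcard : (commutator (coreIn M)).index * Nat.card W' = Nat.card (sigmaCore M) := by
    rw [← hcard', mul_comm, card_mul_index]
    exact Nat.card_congr (subgroupOfEquivOfLe (Sigma.sigmaCore_le M)).toEquiv
  have hne : (commutator (coreIn M)).index ≠ 1 := fun e => d.uW <| by
    rw [e, one_mul] at hcard
    exact inf_le_left.trans (eq_of_le_of_card_ge hW'le hcard.ge).ge
  have hmod : (commutator (coreIn M)).index ≡ 1 [MOD p] := by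
    have := Nat.ModEq.mul_left (commutator (coreIn M)).index h2
    rw [mul_one, hcard] at this
    exact this.symm.trans h1
  have hv0 : (commutator (coreIn M)).index ≠ 0 := index_ne_zero_of_finite
  have hd : p ∣ (commutator (coreIn M)).index - 1 := (Nat.modEq_iff_dvd' (by omega)).1 hmod.symm
  have := Nat.le_of_dvd (by omega) hd
  omega

open Classical in
/-- The general contradiction. -/
theorem absurd_family [Fintype L] [(coreIn L).Normal]
    [Fintype (Cfsg.IrrCharacter ↥(coreIn L))] (hτL : tau2 L = ∅)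
    {T : Finset (Cfsg.IrrCharacter ↥(coreIn L))} (hT : Fam (coreIn L) T)
    {σ : (L → ℂ) → (G → ℂ)}
    (hσ : Cfsg.IsLinearIsometryOn
      (Cfsg.zspan (↑(img (coreIn L) T) : Set (L → ℂ))) σ)
    (hagree : ∀ α ∈ Cfsg.zspanOn (↑(img (coreIn L) T) : Set (L → ℂ)) {1}ᶜ,
      σ α = Cfsg.dadeIsometry (hashSet (coreIn L)) L (supportR L) α)
    (θ : Fin 3 → Cfsg.IrrCharacter ↥(coreIn L)) (hθT : ∀ i, θ i ∈ T)
    (hθ1 : ∀ i, (θ i : coreIn L → ℂ) 1 = 1)
    (hθne : ∀ i j, i ≠ j → Cfsg.indFun (coreIn L) (θ i : coreIn L → ℂ) ≠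
      Cfsg.indFun (coreIn L) (θ j : coreIn L → ℂ))
    (hout : ∀ η : Cfsg.IrrCharacter ↥(coreIn L), η ∉ T →
      η ≠ trivIrr (coreIn L) → Cong p ((η : coreIn L → ℂ)
        ⟨⟨u, Sigma.sigmaCore_le L d.u_mem⟩, mem_subgroupOf.2 d.u_mem⟩) 0)
    (he : 2 ≤ (coreIn L).index) (hep : (coreIn L).index + 1 < p)
    (hdvd : (coreIn L).index ∣ p ^ 2 - 1) (hp2 : p ^ 2 ≤ weight T)
    (hcase : Nat.card ↥(L ⊓ M) ≤ weight T ∨ (Nat.card ↥(L ⊓ M) ≤ Nat.card (sigmaCore L) ∧
      ∀ η : Cfsg.IrrCharacter ↥(coreIn L), η ∉ T →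
      η ≠ trivIrr (coreIn L) →
      2 * (coreIn L).index * Cfsg.charDegree (η : coreIn L → ℂ) ≤ weight T)) : False := by
  haveI : Fintype M := Fintype.ofFinite M
  haveI := coreIn_normal M
  haveI : Fintype (coreIn M) := Fintype.ofFinite _
  have hD := dade_L d.hG d.hL
  let χ : Fin 3 → L → ℂ := fun i => Cfsg.indFun (coreIn L) (θ i : coreIn L → ℂ)
  have hmem : ∀ i, χ i ∈ Cfsg.zspan (↑(img (coreIn L) T) : Set (L → ℂ)) :=
    fun i => Submodule.subset_span (mem_img (hθT i))
  have hdiff : ∀ i j, σ (χ i) - σ (χ j) =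
      Cfsg.dadeIsometry (hashSet (coreIn L)) L (supportR L) (χ i - χ j) := by
    intro i j
    have h := sigma_diff hT hD (fun h h1 => ⟨h, h1, rfl⟩) hσ hagree (hθT i) (hθT j) (hθ1 j) (d := 1)
      (by rw [hθ1 i]; simp)
    simpa [χ] using h.symm
  have h := d.mhyp (ψ := fun i => σ (χ i)) (fun i => hσ.2.2.2 _ (hmem i)) (fun i j => by
    rw [hσ.2.2.1 _ (hmem i) _ (hmem j)]
    by_cases hij : i = j
    · rw [if_pos hij, hij, classInner_isIrr_self (hT.irr _ (hθT j))]
    · rw [if_neg hij, classInner_isIrr_ne (hT.irr _ (hθT i)) (hT.irr _ (hθT j)) (hθne i j hij)])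
    hτL rfl rfl hD (fun i j => χ i - χ j) (fun i j => isGen_isClassFunction
      (isGen_sub (isGen_of_isCharacter (isCharacter_of_isIrr (hT.irr _ (hθT i))))
        (isGen_of_isCharacter (isCharacter_of_isIrr (hT.irr _ (hθT j)))))) hdiff
  have hv := d.lt_index_commutator
  obtain ⟨a, ha⟩ := h.exists_level (fun e => by rw [e, index_top] at hv; have := hp.out.two_le; omega)
  set uM : M := ⟨u, d.ctx.hAM d.hu⟩ with huM
  have hcardW : Nat.card (coreIn M) = Nat.card (sigmaCore M) :=
    Nat.card_congr (subgroupOfEquivOfLe (Sigma.sigmaCore_le M)).toEquiv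
  have hpW : ¬ p ∣ Nat.card (coreIn M) := fun hd => d.ctx.hσ
    (Transitivity.isPi_piCoreOf (sigma M) M p hp.out (hcardW ▸ hd))
  have hy : ∃ y : coreIn M, y ∉ commutator (coreIn M) ∧ uM * y = y * uM := by
    obtain ⟨y, hy, hyW⟩ := SetLike.not_le_iff_exists.mp d.uW
    obtain ⟨hyσ, hyu⟩ := mem_inf.mp hy
    refine ⟨⟨⟨y, Sigma.sigmaCore_le M hyσ⟩, mem_subgroupOf.2 hyσ⟩, fun hc => hyW ?_, Subtype.ext
      (mem_centralizer_singleton_iff.1 hyu).symm⟩
    have := mem_map_of_mem (M.subtype.comp (coreIn M).subtype) hc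
    rw [_root_.commutator_def, map_commutator, ← map_map, ← MonoidHom.range_eq_map, range_subtype,
      subgroupOf_map_subtype, inf_eq_left.2 (Sigma.sigmaCore_le M)] at this
    exact this
  have hcong := h.cong_level hp.out hpW (u := uM)
    ((Subgroup.orderOf_coe uM).symm.trans d.orderOf_u) ha hy
  have hrho : ((centIn (coreIn M) uM).card : ℂ)⁻¹ *
      ∑ c ∈ centIn (coreIn M) uM, σ (χ 0) (((c : M) * uM : M) : G) =
      rho (supportR L) (σ (χ 0)) u := by
    have hmemR : ∀ r : G, r ∈ supportR L u ↔ r ∈ sigmaCore M ∧ r * u = u * r := fun r => by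
      rw [d.sig.supportR_eq d.hG d.hL, mem_inf, mem_centralizer_singleton_iff]
    unfold rho
    have hb : ∀ g : G → ℂ, ∑ c ∈ centIn (coreIn M) uM, g ((c : M) : G) =
        ∑ r ∈ Finset.univ.filter (fun r => r ∈ supportR L u), g r := fun g => by
      refine Finset.sum_bij (fun c _ => ((c : M) : G)) ?_ ?_ ?_ (fun _ _ => rfl)
      · intro c hc
        refine Finset.mem_filter.2 ⟨Finset.mem_univ _, (hmemR _).2 ⟨mem_subgroupOf.1 c.2, ?_⟩⟩
        exact (congrArg Subtype.val (mem_centIn.1 hc)).symm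
      · exact fun c _ c' _ e => Subtype.ext (Subtype.ext e)
      · intro r hr
        obtain ⟨hrσ, hru⟩ := (hmemR r).1 (Finset.mem_filter.1 hr).2
        exact ⟨⟨⟨r, Sigma.sigmaCore_le M hrσ⟩, mem_subgroupOf.2 hrσ⟩,
          mem_centIn.2 (Subtype.ext hru.symm), rfl⟩
    have hcard : (centIn (coreIn M) uM).card = Nat.card (supportR L u) := by
      have := hb fun _ => 1
      rw [Finset.sum_const, Finset.sum_const, nsmul_one, nsmul_one, ← Fintype.card_subtype,
        ← Nat.card_eq_fintype_card] at this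
      exact_mod_cast this
    rw [hcard]
    congr 1
    refine (Finset.sum_congr rfl fun c hc => ?_).trans (hb fun g => σ (χ 0) (u * g))
    congr 1
    exact (congrArg Subtype.val (mem_centIn.1 hc)).symm
  rw [hrho] at hcong
  set B : Set G := {g | ∃ w : coreIn M, w ∉ commutator (coreIn M) ∧ g = ((w : M) : G)} with hB
  have hBfix : B ⊆ fixSet (coreIn M) := by
    rintro g ⟨w, hw, rfl⟩
    exact mem_fixSet_self w.2 fun e => hw (by rw [show w = 1 from Subtype.ext e]; exact one_mem _)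
  have hD' : Cfsg.DadeHypothesis B M (supportR M) := by
    refine dade_mono h.dade hBfix ?_
    rintro x hx g ⟨w, hw, rfl⟩
    set e : ↥(coreIn M) ≃* ↥(coreIn M) := MulAut.conjNormal (⟨x, hx⟩ : M) with he'
    refine ⟨e w, fun hc => hw ?_, ?_⟩
    · have hch : (commutator (coreIn M)).comap e.toMonoidHom = commutator (coreIn M) :=
        Subgroup.characteristic_iff_comap_eq.1 inferInstance _
      rw [← hch]; exact hc
    · simp [he', MulAut.conjNormal_apply]
  have hdisj : ∀ g ∈ Dade.support (hashSet (coreIn L)) (supportR L), g ∉ Dade.support B (supportR M) := by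
    rintro g ⟨b, ⟨k, hk1, rfl⟩, r, hr, x, e⟩ ⟨c, ⟨w, hw, rfl⟩, s, hs, y, e'⟩
    have hdisj := SupportR.tilde_disjoint d.hG d.hM d.hL fun g hg => d.sig.hne g⁻¹ (by
      rw [hg, Transfer.Fusion.map_conj_inv_cancel])
    refine Set.eq_empty_iff_forall_notMem.1 hdisj g
      ⟨⟨((w : M) : G), ⟨mem_subgroupOf.1 w.2, fun e0 => hw ?_⟩, s, hs, y⁻¹, ?_⟩,
      ⟨((k : L) : G), ⟨mem_subgroupOf.1 k.2, fun e0 => hk1 (Subtype.ext (Subtype.ext e0))⟩, r, hr,
        x⁻¹, ?_⟩⟩
    · rw [show w = 1 from Subtype.ext (Subtype.ext e0)]; exact one_mem _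
    · rw [← e']; group
    · rw [← e]; group
  have hHcard : Nat.card (coreIn L) = Nat.card (sigmaCore L) :=
    Nat.card_congr (subgroupOfEquivOfLe (Sigma.sigmaCore_le L)).toEquiv
  have hm : (coreIn M).index = Nat.card ↥(L ⊓ M) := by
    have h1 := (coreIn M).card_mul_index
    rw [hcardW, ← Compl.card_mul d.compl, mul_comm (Nat.card ↥(L ⊓ M))] at h1
    exact Nat.eq_of_mul_eq_mul_left Nat.card_pos h1
  refine contradiction_small hT hD (fun h h1 => ⟨h, h1, rfl⟩) hσ hagree (hθT 0) (hθ1 0) hD' hdisj hp.out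
    (u := ⟨⟨u, Sigma.sigmaCore_le L d.u_mem⟩, mem_subgroupOf.2 d.u_mem⟩) ?_ hcong
    (h.norm_core ha hB) hout he hep hdvd ((by omega : (coreIn L).index + 1 < (commutator (coreIn M)).index))
    Nat.card_pos ?_ hp2 ?_
  · rw [← Subgroup.orderOf_coe, ← Subgroup.orderOf_coe]; exact d.orderOf_u
  · rw [hm]; exact Nat.card_pos
  · rw [hm, hHcard]; exact hcase

end Pair

end Cfsg.Agent.OddChar.TypeOne.Gap.Local
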