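import Cfsg.Agent.Lib.CN.Degree
import Cfsg.Agent.Lib.Characters.Normal
import Cfsg.Agent.OddChar.TypeOne.Gap.Cong
import Cfsg.Agent.OddChar.Constituent
import Cfsg.Agent.OddLocal.ZGroupCore

/-!
# Auxiliary facts for a core that is not nilpotent
-/

set_option autoImplicit false
set_option linter.unusedSectionVars false
set_option linter.style.haveILetI false

namespace Cfsg.Agent.OddChar.TypeOne.Gap.Local

open Cfsg Subgroup Module
open Cfsg.Agent.Characters Cfsg.Agent.OddLocal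
open scoped ComplexConjugate commutatorElement

universe v

variable {X : Type v} [Group X] [Finite X]

theorem central_mul {χ : X → ℂ} (h : Cfsg.IsIrrCharacter X χ) {z : X} (hz : z ∈ center X) :
    ∃ c : ℂ, ‖c‖ = 1 ∧ ∀ g : X, χ (z * g) = c * χ g := by
  obtain ⟨d, ρ, hρ, rfl⟩ := h
  obtain ⟨c, hc⟩ := schur_scalar ρ (ρ z) fun a v => by
    rw [← Module.End.mul_apply, ← Module.End.mul_apply, ← map_mul, ← map_mul, mem_center_iff.1 hz a]
  have hmul : ∀ g : X, ρ.character (z * g) = c * ρ.character g := fun g => by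
    simp [Representation.character, map_mul, hc, Module.End.mul_eq_comp, LinearMap.smul_comp]
  refine ⟨c, ?_, hmul⟩
  have hk : ∀ k : ℕ, ρ.character (z ^ k) = c ^ k * ρ.character 1 := fun k => by
    induction k with
    | zero => simp
    | succ k ih => rw [pow_succ', hmul, ih, pow_succ']; ring
  have h1 := hk (orderOf z)
  rw [pow_orderOf_eq_one] at h1
  have h2 : c ^ orderOf z = 1 :=
    mul_right_cancel₀ (irr_one_ne_zero (isIrrCharacter_character ρ)) (h1.symm.trans (one_mul _).symm)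
  exact Complex.norm_eq_one_of_pow_eq_one h2 (orderOf_pos z).ne'

/-- A derived subgroup of prime order that is central makes `|X : Z(X)|` a square. -/
theorem center_index_sq {q : ℕ} (hq : q.Prime) (hcard : Nat.card (commutator X) = q)
    (hle : commutator X ≤ center X) : ∃ n : ℕ, (center X).index = n ^ 2 := by
  classical
  haveI := Fintype.ofFinite X
  haveI := Fact.mk hq
  obtain ⟨z, hz, hz1⟩ := (bot_or_exists_ne_one (commutator X)).resolve_left fun e => hq.ne_one (by
    rw [← hcard, e, card_bot])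
  obtain ⟨χ₀, hχ₀, hχ⟩ := exists_irr_ne (g := z) fun e => hz1 e
  set χ : Cfsg.IrrCharacter X := ⟨χ₀, hχ₀⟩
  obtain ⟨n, hn0, hn⟩ := irr_one_pos χ.2
  have hgen : ∀ w ∈ commutator X, w ≠ 1 → (χ : X → ℂ) w ≠ (χ : X → ℂ) 1 := by
    intro w hw hw1 e
    have hz' : z ∈ zpowers w := (ZGroupCore.zpowers_eq_of_prime (A := commutator X) (hcard ▸ hq) hw hw1).ge hz
    obtain ⟨i, rfl⟩ := mem_zpowers_iff.1 hz'
    exact hχ (mem_charKernel.1 ((charKernel (χ : X → ℂ) (irr_isCharacter χ)).zpow_mem (mem_charKernel.2 e) i))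
  have hzero : ∀ g : X, g ∉ center X → (χ : X → ℂ) g = 0 := by
    intro g hg
    obtain ⟨b, hb⟩ : ∃ b : X, b * g ≠ g * b := by
      by_contra h
      push Not at h
      exact hg (mem_center_iff.2 h)
    set w := b * g * b⁻¹ * g⁻¹ with hw
    have hwD : w ∈ commutator X := by
      rw [hw, _root_.commutator_def, ← commutatorElement_def]
      exact commutator_mem_commutator (mem_top _) (mem_top _)
    have hw1 : w ≠ 1 := fun e => hb (by
      rw [hw, mul_inv_eq_one, mul_inv_eq_iff_eq_mul] at e; exact e)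
    obtain ⟨c, -, hc⟩ := central_mul χ.2 (hle hwD)
    have h1 : (χ : X → ℂ) g = c * (χ : X → ℂ) g := by
      rw [← hc, show w * g = b * g * b⁻¹ by rw [hw]; group]
      exact (char_isClassFunction (irr_isCharacter χ) g b).symm
    have hc1 : c ≠ 1 := fun e => hgen w hwD hw1 (by
      have := hc 1
      rwa [mul_one, e, one_mul] at this)
    exact (mul_left_eq_self₀.1 h1.symm).resolve_left hc1
  have hval : ∀ g : X, (χ : X → ℂ) g * conj ((χ : X → ℂ) g) =
      if g ∈ center X then ((n : ℂ)) ^ 2 else 0 := by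
    intro g
    split_ifs with hg
    · obtain ⟨c, hc, hmul⟩ := central_mul χ.2 hg
      have h1 := hmul 1
      rw [mul_one] at h1
      rw [h1, hn, Complex.mul_conj', norm_mul, hc, one_mul, Complex.norm_natCast]
      norm_num
    · rw [hzero g hg, zero_mul]
  have h1 := classInner_isIrr_self χ.2
  rw [classInner_def, inv_mul_eq_one₀ natCard_ne_zero, Finset.sum_congr rfl fun g _ => hval g,
    ← Finset.sum_filter, Finset.sum_const, nsmul_eq_mul, ← Fintype.card_subtype,
    ← Nat.card_eq_fintype_card] at h1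
  refine ⟨n, ?_⟩
  have h2 : Nat.card (center X) * n ^ 2 = Nat.card X := by exact_mod_cast h1.symm
  rw [← (center X).card_mul_index] at h2
  exact (Nat.eq_of_mul_eq_mul_left Nat.card_pos h2).symm

/-- A normal abelian subgroup without fixed linear characters under a `p`-group. -/
theorem dvd_degree_of_no_fixed {p : ℕ} [hp : Fact p.Prime] (N P : Subgroup X) [N.Normal]
    (hab : ∀ a ∈ N, ∀ b ∈ N, a * b = b * a) (hP : IsPGroup p P) (hgen : N ≤ ⁅N, P⁆)
    {θ : X → ℂ} (hθ : Cfsg.IsIrrCharacter X θ) {x : X} (hx : x ∈ N) (hne : θ x ≠ θ 1) {d : ℕ}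
    (hd : θ 1 = (d : ℂ)) : p ∣ d := by
  classical
  haveI := Fintype.ofFinite X
  haveI := Fintype.ofFinite N
  haveI := Fintype.ofFinite (Cfsg.IrrCharacter N)
  set f : N → ℂ := fun y => θ y with hf
  have hfc : Cfsg.IsCharacter N f := isCharacter_restrict N (isCharacter_of_isIrr hθ)
  obtain ⟨μ₀, hμ₀, hμ₀in, hμ₀x⟩ := OddChar.Constituent.exists_constituent_ne hfc (g := ⟨x, hx⟩) hne
  let S := {μ : Cfsg.IrrCharacter N // Cfsg.classInner f (μ : N → ℂ) ≠ 0}
  haveI : Finite S := Subtype.finite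
  haveI := Fintype.ofFinite S
  have hθc := char_isClassFunction (isCharacter_of_isIrr hθ)
  have hone : ∀ μ : Cfsg.IrrCharacter N, (μ : N → ℂ) 1 = 1 := fun μ =>
    irr_degree_one_of_comm (fun a b => Subtype.ext (hab a a.2 b b.2)) μ.2
  letI : MulAction P S :=
    { smul := fun g μ => ⟨⟨Cfsg.Agent.Characters.conjFun N (μ.1 : N → ℂ) ((g : X)⁻¹), isIrrCharacter_conjFun N μ.1.2 _⟩, by
        show Cfsg.classInner f (Cfsg.Agent.Characters.conjFun N (μ.1 : N → ℂ) ((g : X)⁻¹)) ≠ 0
        rw [classInner_conjFun N hθc]; exact μ.2⟩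
      one_smul := fun μ => Subtype.ext (Subtype.ext (funext fun n => by
        show Cfsg.Agent.Characters.conjFun N (μ.1 : N → ℂ) ((1 : P) : X)⁻¹ n = _
        simp [Cfsg.Agent.Characters.conjFun]))
      mul_smul := fun g h μ => Subtype.ext (Subtype.ext (by
        show Cfsg.Agent.Characters.conjFun N (μ.1 : N → ℂ) (((g * h : P) : X))⁻¹ =
          Cfsg.Agent.Characters.conjFun N (Cfsg.Agent.Characters.conjFun N (μ.1 : N → ℂ) ((h : X)⁻¹)) ((g : X)⁻¹)
        rw [← conjFun_mul, Subgroup.coe_mul, mul_inv_rev])) }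
  have hfix : IsEmpty (MulAction.fixedPoints P S) := ⟨fun ⟨μ, hμ⟩ => by
    obtain ⟨g₀, hg₀⟩ := exists_conjugate_of_constituents N hθ μ.1.2 hμ₀ μ.2 hμ₀in
    refine hμ₀x ?_
    set lam := linearOfDegreeOne (irr_isCharacter μ.1) (hone μ.1)
    have hlam : ∀ y : N, (lam y : ℂ) = (μ.1 : N → ℂ) y := fun y => linearOfDegreeOne_apply _ _ y
    have hker : ⁅N, P⁆ ≤ lam.ker.map N.subtype := by
      refine commutator_le.2 fun a ha g hg => ?_
      have hmem : a * g * a⁻¹ * g⁻¹ ∈ N := by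
        rw [show a * g * a⁻¹ * g⁻¹ = a * (g * a⁻¹ * g⁻¹) by group]
        exact mul_mem ha (Subgroup.Normal.conj_mem inferInstance _ (inv_mem ha) g)
      refine ⟨⟨_, hmem⟩, MonoidHom.mem_ker.2 ?_, (commutatorElement_def a g).symm⟩
      have hμg := congrFun (congrArg (fun ν : S => (ν.1 : N → ℂ)) (hμ ⟨g⁻¹, inv_mem hg⟩)) ⟨a⁻¹, inv_mem ha⟩
      change Cfsg.Agent.Characters.conjFun N (μ.1 : N → ℂ) ((g⁻¹ : X))⁻¹ ⟨a⁻¹, inv_mem ha⟩ = _ at hμg
      rw [show (⟨a * g * a⁻¹ * g⁻¹, hmem⟩ : N) = ⟨a, ha⟩ *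
        ⟨g * a⁻¹ * g⁻¹, Subgroup.Normal.conj_mem inferInstance _ (inv_mem ha) g⟩ from Subtype.ext (by
          push_cast; group), map_mul]
      refine Units.ext ?_
      rw [Units.val_mul, hlam, hlam]
      simp only [Cfsg.Agent.Characters.conjFun, inv_inv] at hμg
      rw [hμg, ← hlam, ← hlam, ← Units.val_mul, ← map_mul,
        show (⟨a, ha⟩ : N) * ⟨a⁻¹, inv_mem ha⟩ = 1 from Subtype.ext (mul_inv_cancel a), map_one]
    have hμ1 : ∀ y : N, (μ.1 : N → ℂ) y = 1 := fun y => by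
      obtain ⟨w, hw, e⟩ := hker (hgen y.2)
      rw [← hlam, show y = w from Subtype.ext e.symm, MonoidHom.mem_ker.1 hw, Units.val_one]
    rw [hg₀]
    show (μ.1 : N → ℂ) _ = (μ.1 : N → ℂ) _
    rw [hμ1, hμ1]⟩
  have hcard : p ∣ Fintype.card S := by
    have h := hP.card_modEq_card_fixedPoints (α := S)
    rw [Nat.card_of_isEmpty (α := MulAction.fixedPoints P S)] at h
    rw [← Nat.card_eq_fintype_card]
    exact (Nat.modEq_zero_iff_dvd).1 h
  obtain ⟨m, hm⟩ := classInner_char_nat hfc (isCharacter_of_isIrr hμ₀)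
  have hall : ∀ μ : S, Cfsg.classInner f (μ.1 : N → ℂ) = (m : ℂ) := fun μ => by
    obtain ⟨g, hg⟩ := exists_conjugate_of_constituents N hθ hμ₀ μ.1.2 hμ₀in μ.2
    rw [hg, classInner_conjFun N hθc, hm]
  have hsum := congrFun (classFun_eq_sum (char_isClassFunction hfc)) 1
  simp only [Finset.sum_apply, Pi.smul_apply, smul_eq_mul, hone, mul_one] at hsum
  rw [show f 1 = (d : ℂ) from hd, ← Finset.sum_filter_ne_zero,
    ← Finset.sum_subtype_eq_sum_filter] at hsum
  have h2 : (d : ℂ) = ((Fintype.card S * m : ℕ) : ℂ) := by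
    rw [hsum, Nat.cast_mul]
    refine (Finset.sum_congr rfl fun μ _ => hall ⟨μ.1, μ.2⟩).trans ?_
    rw [Finset.sum_const, nsmul_eq_mul]
    congr 2
    simp [S, Fintype.card_subtype]
  rw [Nat.cast_inj.1 h2]
  exact hcard.mul_right m

end Cfsg.Agent.OddChar.TypeOne.Gap.Local
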