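import Cfsg.Agent.OddChar.TypeOne.Gap.Local.Family
import Cfsg.Agent.OddChar.TypeOne.Gap.LSide
import Cfsg.Agent.OddChar.Induce
import Cfsg.Agent.Lib.CharTheory.IndBasic
import Cfsg.Agent.BlocksChars.Codegree

/-!
# The characters of a Frobenius quotient as a family
-/

set_option autoImplicit false
set_option linter.unusedSectionVars false
set_option linter.style.haveILetI false

namespace Cfsg.Agent.OddChar.TypeOne.Gap.Local

open Cfsg Subgroup
open Cfsg.Agent.Characters Cfsg.Agent.OddChar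
open Cfsg.Agent.CharTheory.IndBasic (extendByZero_of_mem extendByZero_of_notMem)

variable {G : Type*} [Group G] [Fintype G] {L : Subgroup G} [Fintype L] (H N : Subgroup L)
  [H.Normal] [hNn : N.Normal]

/-- `H` over `N`. -/
abbrev barH : Subgroup (L ⧸ N) := H.map (QuotientGroup.mk' N)

instance : (barH H N).Normal := Subgroup.Normal.map inferInstance _ (QuotientGroup.mk'_surjective N)

/-- The projection of `H` onto `H` over `N`. -/
def projH : H →* barH H N := (QuotientGroup.mk' N).subgroupMap H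

theorem projH_surjective : Function.Surjective (projH H N) := MonoidHom.subgroupMap_surjective _ _

theorem projH_apply (h : H) : ((projH H N h : barH H N) : L ⧸ N) = (h : L) := rfl

variable {H N} (hNH : N ≤ H)
include hNH

theorem mem_barH_iff (y : L) : (y : L ⧸ N) ∈ barH H N ↔ y ∈ H := by
  refine ⟨fun ⟨h, hh, e⟩ => ?_, fun h => mem_map_of_mem _ h⟩
  have h1 : h⁻¹ * y ∈ N := QuotientGroup.eq.1 e
  simpa using mul_mem hh (hNH h1)

theorem projH_ker : (projH H N).ker = N.subgroupOf H := by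
  ext h
  rw [MonoidHom.mem_ker, mem_subgroupOf, ← QuotientGroup.eq_one_iff (N := N)]
  exact ⟨fun e => congrArg Subtype.val e, fun e => Subtype.ext e⟩

open Classical in
theorem extend_comp (φ : barH H N → ℂ) (y : L) :
    Cfsg.extendByZero H (φ ∘ projH H N) y = Cfsg.extendByZero (barH H N) φ (y : L ⧸ N) := by
  by_cases hy : y ∈ H
  · rw [extendByZero_of_mem H _ hy, extendByZero_of_mem _ _ ((mem_barH_iff hNH y).2 hy)]
    rfl
  · rw [extendByZero_of_notMem H _ hy,
      extendByZero_of_notMem _ _ fun h => hy ((mem_barH_iff hNH y).1 h)]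

theorem card_barH : Nat.card (barH H N) * Nat.card N = Nat.card H := by
  rw [← Nat.card_congr (QuotientGroup.quotientKerEquivOfSurjective _ (projH_surjective H N)).toEquiv,
    projH_ker hNH, ← Nat.card_congr (subgroupOfEquivOfLe hNH).toEquiv]
  exact (card_eq_card_quotient_mul_card_subgroup (N.subgroupOf H)).symm

open Classical in
theorem indFun_comp [Fintype (L ⧸ N)] (φ : barH H N → ℂ) (g : L) :
    Cfsg.indFun H (φ ∘ projH H N) g = Cfsg.indFun (barH H N) φ (g : L ⧸ N) := by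
  unfold Cfsg.indFun
  set F : L ⧸ N → ℂ := fun y => Cfsg.extendByZero (barH H N) φ (y⁻¹ * (g : L ⧸ N) * y)
  have h1 : ∀ x : L, Cfsg.extendByZero H (φ ∘ projH H N) (x⁻¹ * g * x) = F (x : L ⧸ N) := fun x => by
    rw [extend_comp hNH]; rfl
  have hsum : ∑ x : L, F (x : L ⧸ N) = (Nat.card N : ℂ) * ∑ y : L ⧸ N, F y := by
    rw [← Finset.sum_fiberwise_of_maps_to (g := fun x : L => (x : L ⧸ N)) (t := Finset.univ)
      (fun x _ => Finset.mem_univ _), Finset.mul_sum]
    refine Finset.sum_congr rfl fun y _ => ?_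
    rw [Finset.sum_congr rfl (g := fun _ => F y) fun x hx => by rw [(Finset.mem_filter.1 hx).2],
      Finset.sum_const, nsmul_eq_mul]
    congr 2
    obtain ⟨x₀, rfl⟩ := QuotientGroup.mk_surjective y
    rw [Nat.card_eq_fintype_card, ← Finset.card_univ]
    exact Finset.card_bij' (fun x hx => (⟨x₀⁻¹ * x, QuotientGroup.eq.1 (Finset.mem_filter.1 hx).2.symm⟩ : N))
      (fun k _ => x₀ * k) (fun _ _ => Finset.mem_univ _) (fun k _ => Finset.mem_filter.2
        ⟨Finset.mem_univ _, (QuotientGroup.eq.2 (by simp)).symm⟩) (fun x _ => mul_inv_cancel_left x₀ x)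
      (fun k _ => Subtype.ext (inv_mul_cancel_left x₀ (k : L)))
  rw [Finset.sum_congr rfl fun x _ => h1 x, hsum, ← card_barH hNH, Nat.cast_mul, mul_inv, mul_assoc]
  congr 1
  rw [← mul_assoc, inv_mul_cancel₀ (Nat.cast_ne_zero.2 Nat.card_pos.ne'), one_mul]

open Classical in
/-- The characters of `H / N` other than the principal one. -/
theorem quot_family [Fintype (Cfsg.IrrCharacter H)]
    (hH2 : H ≠ ⊤) (hlt : ¬ H ≤ N)
    (hfrob : ∀ c : L, ∀ h ∈ H, c * h * c⁻¹ * h⁻¹ ∈ N → h ∉ N → c ∈ H)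
    (hodd : Odd (Nat.card L)) {A : Set G} {R : G → Subgroup G} (hD : Cfsg.DadeHypothesis A L R)
    (hHA : ∀ h : H, h ≠ 1 → ((h : L) : G) ∈ A)
    {T : Finset (Cfsg.IrrCharacter H)}
    (hT : ∀ θ : Cfsg.IrrCharacter H, θ ∈ T ↔
      (∀ h : H, (h : L) ∈ N → (θ : H → ℂ) h = (θ : H → ℂ) 1) ∧ (θ : H → ℂ) ≠ fun _ => 1) :
    Fam H T ∧ Group.IsNilpotent (barH H N) ∧ weight T = Nat.card (barH H N) ∧
      (commutator (barH H N)).index ≤
        (T.filter fun θ : Cfsg.IrrCharacter H => (θ : H → ℂ) 1 = 1).card + 1 ∧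
      (Cfsg.IsCoherent (↑(img H T) : Set (L → ℂ)) {1}ᶜ (Cfsg.dadeIsometry A L R) ∨
        ∃ r : ℕ, r.Prime ∧ (∃ m : ℕ, Nat.card (barH H N) = r ^ m) ∧ ¬ IsMulCommutative (barH H N) ∧
          (commutator (barH H N)).index ≤ 4 * H.index ^ 2 + 1) := by
  haveI : Fintype (L ⧸ N) := Fintype.ofFinite _
  haveI : Fintype (barH H N) := Fintype.ofFinite _
  haveI : Fintype (Cfsg.IrrCharacter (barH H N)) := Fintype.ofFinite _
  set π := QuotientGroup.mk' N with hπdef
  have hπs : Function.Surjective π := QuotientGroup.mk'_surjective N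
  have hC : ∀ h ∈ barH H N, h ≠ 1 → Subgroup.centralizer ({h} : Set (L ⧸ N)) ≤ barH H N := by
    rintro _ ⟨h, hh, rfl⟩ hne y hy
    obtain ⟨c, rfl⟩ := hπs y
    refine mem_map_of_mem _ (hfrob c h hh ?_ fun hN' => hne ((QuotientGroup.eq_one_iff h).2 hN'))
    refine (QuotientGroup.eq_one_iff _).1 ?_
    change π (c * h * c⁻¹ * h⁻¹) = 1
    rw [_root_.map_mul, _root_.map_mul, _root_.map_mul, mem_centralizer_singleton_iff.1 hy,
      _root_.map_inv, _root_.map_inv, mul_inv_cancel_right]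
    exact mul_inv_cancel _
  have hB1 : barH H N ≠ ⊥ := fun e => hlt fun h hh => (QuotientGroup.eq_one_iff h).1
    (mem_bot.1 (e.le (mem_map_of_mem π hh)))
  have hB2 : barH H N ≠ ⊤ := fun e => hH2 (eq_top_iff.2 fun x _ =>
    (mem_barH_iff hNH x).1 (e.ge (mem_top _)))
  have hidx : (barH H N).index = H.index := by
    rw [index_map_eq H hπs]
    rwa [QuotientGroup.ker_mk']
  haveI := Coherence.Frobenius.nilpotent _ hC hB2
  -- inflation
  let inf : Cfsg.IrrCharacter (barH H N) → Cfsg.IrrCharacter H := fun φ =>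
    ⟨(φ : barH H N → ℂ) ∘ projH H N, isIrrCharacter_comp_surjective _ (projH_surjective H N) φ.2⟩
  have hinfinj : Function.Injective inf := fun φ ψ e => Subtype.ext (funext fun y => by
    obtain ⟨h, rfl⟩ := projH_surjective H N y
    exact congrFun (congrArg Subtype.val e) h)
  set T₀ : Finset (Cfsg.IrrCharacter (barH H N)) :=
    Finset.univ.filter fun φ : Cfsg.IrrCharacter (barH H N) => (φ : barH H N → ℂ) ≠ fun _ => 1 with hT₀
  have hTeq : T = T₀.image inf := by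
    ext θ
    rw [hT, Finset.mem_image]
    constructor
    · rintro ⟨hker, hne⟩
      obtain ⟨ψ, -, hψ, hirr⟩ := exists_deflate (projH H N) (projH_surjective H N)
        (isCharacter_of_isIrr θ.2) (fun x hx => hker x (by
          rwa [projH_ker hNH, mem_subgroupOf] at hx))
      refine ⟨⟨ψ, hirr θ.2⟩, Finset.mem_filter.2 ⟨Finset.mem_univ _, fun e => hne ?_⟩, Subtype.ext hψ⟩
      have e' : ψ = fun _ => 1 := e
      rw [← hψ, e']
      rfl
    · rintro ⟨φ, hφ, rfl⟩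
      refine ⟨fun h hh => ?_, fun e => (Finset.mem_filter.1 hφ).2 (funext fun y => ?_)⟩
      · show (φ : barH H N → ℂ) (projH H N h) = (φ : barH H N → ℂ) (projH H N 1)
        rw [show projH H N h = 1 from MonoidHom.mem_ker.1 (by rwa [projH_ker hNH, mem_subgroupOf]),
          map_one]
      · obtain ⟨h, rfl⟩ := projH_surjective H N y
        exact congrFun e h
  have hind : ∀ φ : Cfsg.IrrCharacter (barH H N), Cfsg.indFun H ((inf φ : Cfsg.IrrCharacter H) : H → ℂ) =
      fun g : L => Cfsg.indFun (barH H N) (φ : barH H N → ℂ) (g : L ⧸ N) :=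
    fun φ => funext fun g => indFun_comp hNH _ g
  have hFam : Fam H T := by
    refine ⟨fun θ hθ => ?_, fun θ hθ => ((hT θ).1 hθ).2, fun θ hθ η he => ?_⟩
    · rw [hTeq] at hθ
      obtain ⟨φ, hφ, rfl⟩ := Finset.mem_image.1 hθ
      rw [hind]
      exact isIrrCharacter_comp_surjective π hπs
        (Coherence.Frobenius.isIrr_ind _ hC φ.2 (Finset.mem_filter.1 hφ).2)
    · obtain ⟨g, hg⟩ : ∃ g : L, (η : H → ℂ) =
          fun h : H => (θ : H → ℂ) ⟨g * h * g⁻¹, ‹H.Normal›.conj_mem h h.2 g⟩ := by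
        by_contra hno
        have h0 := (S1486.result H (θ : H → ℂ) (η : H → ℂ) θ.2 η.2).2 hno
        have hI : Cfsg.IsIrrCharacter L (Cfsg.indFun H (θ : H → ℂ)) := by
          rw [hTeq] at hθ
          obtain ⟨φ, hφ, rfl⟩ := Finset.mem_image.1 hθ
          rw [hind]
          exact isIrrCharacter_comp_surjective π hπs
            (Coherence.Frobenius.isIrr_ind _ hC φ.2 (Finset.mem_filter.1 hφ).2)
        rw [he, classInner_isIrr_self hI] at h0
        exact one_ne_zero h0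
      obtain ⟨hker, hne⟩ := (hT θ).1 hθ
      refine (hT η).2 ⟨fun h hh => ?_, fun e => hne (funext fun h => ?_)⟩
      · rw [hg]
        show (θ : H → ℂ) _ = (θ : H → ℂ) _
        rw [hker _ (hNn.conj_mem _ hh g),
          hker (⟨g * ((1 : H) : L) * g⁻¹, _⟩ : H) (hNn.conj_mem _ N.one_mem g)]
      · have h2 := congrFun (hg.symm.trans e) ⟨g⁻¹ * h * g, by
          simpa using ‹H.Normal›.conj_mem h h.2 g⁻¹⟩
        rw [← h2]
        exact congrArg _ (Subtype.ext (by simp [mul_assoc]))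
  refine ⟨hFam, inferInstance, ?_, ?_, ?_⟩
  · rw [← BlocksChars.Codegree.sum_degree_sq_nat (G := barH H N), weight, hTeq,
      Finset.sum_image fun _ _ _ _ e => hinfinj e,
      ← Finset.add_sum_erase (a := trivIrr (barH H N)) _ _ (Finset.mem_univ _),
      BlocksChars.Codegree.charDegree_triv, one_pow]
    congr 1
    refine Finset.sum_congr ?_ fun φ _ => ?_
    · ext φ
      simp only [hT₀, Finset.mem_filter, Finset.mem_univ, true_and, Finset.mem_erase, ne_eq, and_true]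
      exact ⟨fun h e => h (congrArg Subtype.val e), fun h e => h (Subtype.ext e)⟩
    · show Cfsg.charDegree ((φ : barH H N → ℂ) ∘ projH H N) ^ 2 = _
      simp [Cfsg.charDegree]
  · refine card_linear_le.trans (Nat.add_le_add_right ?_ 1)
    rw [hTeq, ← Finset.card_image_of_injective _ hinfinj]
    refine Finset.card_le_card fun θ hθ => ?_
    obtain ⟨φ, hφ, rfl⟩ := Finset.mem_image.1 hθ
    simp only [Finset.mem_filter, Finset.mem_univ, true_and] at hφ
    refine Finset.mem_filter.2 ⟨Finset.mem_image.2 ⟨φ, Finset.mem_filter.2 ⟨Finset.mem_univ _, hφ.2⟩, rfl⟩, ?_⟩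
    show (φ : barH H N → ℂ) (projH H N 1) = 1
    rw [map_one]; exact hφ.1
  -- coherence
  set S₀ : Set ((L ⧸ N) → ℂ) :=
    {χ | Cfsg.IsIrrCharacter (L ⧸ N) χ ∧ ∃ h ∈ barH H N, χ h ≠ χ 1} with hS₀
  let P : ((L ⧸ N) → ℂ) →ₗ[ℤ] (L → ℂ) :=
    { toFun := fun f => fun g => f (g : L ⧸ N)
      map_add' := fun _ _ => rfl
      map_smul' := fun _ _ => rfl }
  let D : (L → ℂ) →ₗ[ℤ] ((L ⧸ N) → ℂ) :=
    { toFun := fun f => fun y => f y.out
      map_add' := fun _ _ => rfl
      map_smul' := fun _ _ => rfl }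
  have hPD : ∀ f : (L ⧸ N) → ℂ, D (P f) = f := fun f => funext fun y => by
    show f ((y.out : L) : L ⧸ N) = f y
    rw [show ((y.out : L) : L ⧸ N) = y from y.out_eq']
  have hmemimg : ∀ χ ∈ S₀, P χ ∈ (↑(img H T) : Set (L → ℂ)) := fun χ hχ => by
    obtain ⟨θ, hθ, hne, rfl⟩ := (Coherence.Frobenius.mem_set_iff _ hC).1 hχ
    refine Finset.mem_coe.2 (Finset.mem_image.2 ⟨inf ⟨θ, hθ⟩, ?_, (hind ⟨θ, hθ⟩)⟩)
    rw [hTeq]
    exact Finset.mem_image.2 ⟨_, Finset.mem_filter.2 ⟨Finset.mem_univ _, hne⟩, rfl⟩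
  have himg : ∀ f ∈ (↑(img H T) : Set (L → ℂ)), D f ∈ S₀ ∧ P (D f) = f := fun f hf => by
    obtain ⟨θ, hθ, rfl⟩ := Finset.mem_image.1 (Finset.mem_coe.1 hf)
    rw [hTeq] at hθ
    obtain ⟨φ, hφ, rfl⟩ := Finset.mem_image.1 hθ
    rw [hind]
    rw [show (fun g : L => Cfsg.indFun (barH H N) (φ : barH H N → ℂ) (g : L ⧸ N)) =
      P (Cfsg.indFun (barH H N) (φ : barH H N → ℂ)) from rfl, hPD]
    exact ⟨(Coherence.Frobenius.mem_set_iff _ hC).2 ⟨φ, φ.2, (Finset.mem_filter.1 hφ).2, rfl⟩, rfl⟩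
  have hPspan : ∀ α ∈ Cfsg.zspan S₀, P α ∈ Cfsg.zspan (↑(img H T) : Set (L → ℂ)) := fun α hα => by
    have h1 := Submodule.apply_mem_span_image_of_mem_span P hα
    refine Submodule.span_mono ?_ h1
    rintro _ ⟨χ, hχ, rfl⟩
    exact hmemimg χ hχ
  have hDspan : ∀ f ∈ Cfsg.zspan (↑(img H T) : Set (L → ℂ)), D f ∈ Cfsg.zspan S₀ ∧ P (D f) = f := by
    intro f hf
    refine ⟨?_, ?_⟩
    · have h1 := Submodule.apply_mem_span_image_of_mem_span D hf
      refine Submodule.span_mono ?_ h1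
      rintro _ ⟨χ, hχ, rfl⟩
      exact (himg χ hχ).1
    · refine Submodule.span_induction (p := fun f _ => P (D f) = f) (fun χ hχ => (himg χ hχ).2)
        (by simp) (fun a b _ _ ha hb => ?_) (fun k a _ ha => ?_) hf
      · rw [map_add, map_add, ha, hb]
      · rw [map_smul, map_smul, ha]
  have hP1 : ∀ α ∈ Cfsg.zspanOn S₀ {1}ᶜ, P α ∈ Cfsg.zspanOn (↑(img H T) : Set (L → ℂ)) {1}ᶜ :=
    fun α hα => ⟨hPspan α hα.1, fun x hx => by
      rw [show x = 1 by simpa using hx]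
      exact hα.2 _ (by simp)⟩
  have hDval : ∀ f ∈ Cfsg.zspan (↑(img H T) : Set (L → ℂ)), D f 1 = f 1 := fun f hf => by
    conv_rhs => rw [← (hDspan f hf).2]
    rfl
  have hinner : ∀ a b : (L ⧸ N) → ℂ, Cfsg.classInner (P a) (P b) = Cfsg.classInner a b :=
    fun a b => classInner_comp_surjective π hπs a b
  obtain ⟨hiso, hτ1⟩ := dade_isometry hFam hD hHA
  set τ₀ : ((L ⧸ N) → ℂ) → (G → ℂ) := fun α => Cfsg.dadeIsometry A L R (P α) with hτ₀
  have hiso₀ : Cfsg.IsLinearIsometryOn (Cfsg.zspanOn S₀ {1}ᶜ) τ₀ := by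
    refine ⟨fun α hα β hβ => ?_, fun α hα n => ?_, fun α hα β hβ => ?_, fun α hα => hiso.2.2.2 _ (hP1 α hα)⟩
    · simp only [hτ₀, map_add]; exact hiso.1 _ (hP1 α hα) _ (hP1 β hβ)
    · simp only [hτ₀, map_smul]; exact hiso.2.1 _ (hP1 α hα) n
    · rw [hiso.2.2.1 _ (hP1 α hα) _ (hP1 β hβ), hinner]
  have hne : Nat.card (barH H N) ≠ (barH H N).index + 1 := fun e => by
    have h1 : Odd (Nat.card (L ⧸ N)) := hodd.of_dvd_nat (card_quotient_dvd_card N)
    have h2 := h1.of_dvd_nat (barH H N).card_subgroup_dvd_card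
    have h3 := h1.of_dvd_nat (barH H N).index_dvd_card
    rw [Nat.odd_iff] at h2 h3; omega
  rcases Coherence.Frobenius.feit _ hC hB1 hB2 hne hiso₀ (fun α hα => hτ1 _ (hP1 α hα)) with
    hcoh | ⟨r, hr, hm, hnab, hb⟩
  swap
  · exact Or.inr ⟨r, hr, hm, hnab, hidx ▸ hb⟩
  obtain ⟨⟨α₀, hα₀, hα₀0⟩, τ₁, hτ₁, hag⟩ := hcoh
  refine Or.inl ⟨⟨P α₀, hP1 _ hα₀, fun e => hα₀0 (by rw [← hPD α₀, e, map_zero])⟩,
    fun f => τ₁ (D f), ⟨fun a ha b hb => ?_, fun a ha n => ?_, fun a ha b hb => ?_,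
      fun a ha => hτ₁.2.2.2 _ (hDspan a ha).1⟩, fun a ha => ?_⟩
  · show τ₁ (D (a + b)) = _
    rw [map_add]; exact hτ₁.1 _ (hDspan a ha).1 _ (hDspan b hb).1
  · show τ₁ (D (n • a)) = _
    rw [map_smul]; exact hτ₁.2.1 _ (hDspan a ha).1 n
  · rw [hτ₁.2.2.1 _ (hDspan a ha).1 _ (hDspan b hb).1, ← hinner, (hDspan a ha).2, (hDspan b hb).2]
  · show τ₁ (D a) = _
    rw [hag (D a) ⟨(hDspan a ha.1).1, fun x hx => by
      rw [show x = 1 by simpa using hx, hDval a ha.1]
      exact ha.2 1 (by simp)⟩]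
    show Cfsg.dadeIsometry A L R (P (D a)) = _
    rw [(hDspan a ha.1).2]

end Cfsg.Agent.OddChar.TypeOne.Gap.Local
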