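import Cfsg.Agent.OddChar.TypeOne.Gap.Local.CoreSetup
import Cfsg.Agent.OddChar.TypeOne.Gap.Local.CoreQuot
import Cfsg.Agent.OddChar.TypeOne.Gap.Local.CoreAux
import Cfsg.Agent.OddChar.TypeOne.Gap.Local.Contra
import Cfsg.Agent.Lib.CharTheory.Ito
import Cfsg.Agent.Lib.Coprime.Action

/-!
# `L` with a core that is not nilpotent: the contradiction
-/

set_option autoImplicit false
set_option linter.unusedSectionVars false
set_option linter.style.haveILetI false

namespace Cfsg.Agent.OddChar.TypeOne.Gap.Local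

open Cfsg Subgroup
open scoped commutatorElement
open Cfsg.Agent.OddLocal Cfsg.Agent.OddLocal.Signalizer Cfsg.Agent.OddLocal.SigmaParts
open Cfsg.Agent.Characters Cfsg.Agent.OddChar

variable {G : Type*} [Group G] [Fintype G] {M L A K U Q N : Subgroup G} {p q : ℕ}
  [hp : Fact p.Prime] {u : G}

theorem pow_fix {W : Subgroup G} {g h : G} (hg : g ∈ normalizer (W : Set G))
    (hh : g * h * g⁻¹ * h⁻¹ ∈ W) : ∀ m : ℕ, g ^ m * h * (g ^ m)⁻¹ * h⁻¹ ∈ W
  | 0 => by simp
  | m + 1 => by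
    rw [show g ^ (m + 1) * h * (g ^ (m + 1))⁻¹ * h⁻¹ =
      g * (g ^ m * h * (g ^ m)⁻¹ * h⁻¹) * g⁻¹ * (g * h * g⁻¹ * h⁻¹) by rw [pow_succ']; group]
    exact mul_mem ((mem_normalizer_iff.1 hg _).1 (pow_fix hg hh m)) hh

namespace Pair

variable (d : Pair p M L A u)
include d

theorem frob_quot (cd : CoreData p q L A K Q N) {c h : G} (hc : c ∈ L) (hh : h ∈ sigmaCore L)
    (hch : c * h * c⁻¹ * h⁻¹ ∈ N) (hhN : h ∉ N) : c ∈ sigmaCore L := by
  by_contra hcσ
  have hE := cd.compl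
  obtain ⟨k, hk, h₀, hh₀, rfl⟩ := hE.2.2.2 c hc
  have hkh : k * h₀ * k⁻¹ ∈ sigmaCore L :=
    (mem_normalizer_iff.mp (Sigma.le_normalizer_sigmaCore L (hE.1 hk)) h₀).mp hh₀
  have hcop : Nat.Coprime (orderOf k) (Nat.card (sigmaCore L)) :=
    Nat.coprime_of_dvd fun r hr h1 h2 => Compl.not_sigma d.hG d.hL hE hr
      (h1.trans (orderOf_dvd_natCard _ hk)) (Transitivity.isPi_piCoreOf (sigma L) L r hr h2)
  obtain ⟨x, hx, c', hc', hck, hconj⟩ := S1496.result (sigmaCore L) k
    (Sigma.le_normalizer_sigmaCore L (hE.1 hk)) hcop _ hkh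
  rw [show k * h₀ * k⁻¹ * k = k * h₀ by group] at hconj
  have hk1 : k ≠ 1 := fun e => hcσ (by rw [e, one_mul]; exact hh₀)
  obtain ⟨n, hn0, hn1⟩ := Nat.chineseRemainder (m := orderOf k) (n := Nat.card (sigmaCore L))
    hcop.symm 0 1
  have hpow : (c' * k) ^ n = k := by
    rw [(show Commute c' k from hck).mul_pow, show c' ^ n = 1 from orderOf_dvd_iff_pow_eq_one.1
      ((orderOf_dvd_natCard _ hc').trans (Nat.modEq_zero_iff_dvd.1 hn0)), one_mul]
    conv_rhs => rw [← pow_one k]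
    exact pow_eq_pow_iff_modEq.2 hn1
  rw [← hconj, conj_pow] at hpow
  have hxL : x ∈ L := Sigma.sigmaCore_le L hx
  have h1 : k * (x * h * x⁻¹) * k⁻¹ * (x * h * x⁻¹)⁻¹ ∈ N := by
    have := (mem_normalizer_iff.1 (cd.Nn hxL) _).1 (pow_fix (cd.Nn hc) hch n)
    have e : x * (k * h₀) ^ n * x⁻¹ * (x * h * x⁻¹) * (x * (k * h₀) ^ n * x⁻¹)⁻¹ *
        (x * h * x⁻¹)⁻¹ = x * ((k * h₀) ^ n * h * ((k * h₀) ^ n)⁻¹ * h⁻¹) * x⁻¹ := by group
    rw [hpow] at e
    rw [e]; exact this
  have hkN := cd.Nn (hE.1 hk)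
  obtain ⟨w, hw, hwN⟩ := Coprime.exists_fixed_mod (A := zpowers k) (K := sigmaCore L) (N := N)
    (by rw [Nat.card_zpowers]; exact hcop) (Or.inl (Coprime.isSolvable_of_isMulCommutative _))
    (cd.NQ.trans cd.QH) ((Sigma.sigmaCore_le L).trans cd.Nn) (zpowers_le.2 hkN)
    (mul_mem (mul_mem hx hh) (inv_mem hx)) (fun a ha => by
      obtain ⟨m, rfl⟩ := (Submonoid.mem_powers_iff _ _).1
        ((isOfFinOrder_of_finite k).mem_powers_iff_mem_zpowers.2 ha)
      exact pow_fix hkN h1 m)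
  obtain ⟨hwσ, hwC⟩ := mem_inf.1 hw
  have hwS : w ∈ N := cd.star_le (by
    rw [← cd.fixed k hk hk1]
    exact mem_inf.2 ⟨hwσ, mem_centralizer_singleton_iff.2
      (mem_centralizer_iff.1 hwC k (mem_zpowers k)).symm⟩)
  have h2 : x * h * x⁻¹ ∈ N := by
    have := mul_mem hwS (inv_mem hwN)
    simpa [mul_assoc] using this
  exact hhN ((mem_normalizer_iff.1 (cd.Nn hxL) h).2 h2)

theorem two_mul_index_lt (cd : CoreData p q L A K Q N) {P : Sylow p G} (hAP : A ≤ (P : Subgroup G))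
    (hPσ : (P : Subgroup G) ≤ sigmaCore L) (hab : ¬ IsMulCommutative (P : Subgroup G)) :
    2 * (coreIn L).index < p := by
  obtain ⟨hZA, hZ⟩ := d.center_line hAP hab
  have h1 := d.index_dvd_pred hZ (fun l hl => by
    obtain ⟨h, hh, hn⟩ := d.cover hPσ hl
    exact ⟨h, hh, (inf_le_inf_left L (P2Elem.normalizer_le_normalizer_omegaCenter _)) hn⟩)
    (fun c hc hcz => by
      by_contra hcσ
      obtain ⟨z, hz, hz1⟩ := (bot_or_exists_ne_one (P2Elem.omegaCenter p (P : Subgroup G))).resolve_left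
        fun e => by rw [e, card_bot] at hZ; exact hp.out.ne_one hZ.symm
      exact cd.semi c hc hcσ z (hZA hz) hz1 (hcz z hz))
  have hodd : Odd (coreIn L).index := ((d.hG.1).of_dvd_nat (card_subgroup_dvd_card L)).of_dvd_nat
    (coreIn L).index_dvd_card
  have hp2 := hp.out.two_le
  obtain ⟨k, hk⟩ := h1
  obtain ⟨i, hi⟩ := hodd
  obtain ⟨j, hj⟩ := hp.out.odd_of_ne_two (d.ctx.hA.ne_two d.hG)
  rcases k with _ | _ | k
  · omega
  · omega
  · have : p - 1 + 1 = p := by omega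
    nlinarith

open Classical in
/-- The case of a core that is not nilpotent. -/
theorem absurd_core (hτL : tau2 L = ∅) (hKU : IsSigmaDecomposition L K U)
    (hn : ¬ Group.IsNilpotent (sigmaCore L)) : False := by
  obtain ⟨q, Q, N, cd⟩ := d.core_setup hKU hn
  obtain ⟨P, hAP, hPσ, hgen, hPab, hPnab⟩ := cd.sylow
  haveI := coreIn_normal L
  haveI : Fintype L := Fintype.ofFinite L
  haveI : Fintype ↥(coreIn L) := Fintype.ofFinite _
  haveI : Fintype (Cfsg.IrrCharacter ↥(coreIn L)) := Fintype.ofFinite _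
  haveI := Fact.mk cd.hq
  set H := coreIn L with hHdef
  obtain ⟨hep, hdvd⟩ := d.index_small hτL cd.semi
  have hE := d.E_le hτL cd.semi
  have he3 : 3 ≤ H.index := d.two_le_index
  have hH2 : H ≠ ⊤ := fun e => by rw [e, index_top] at he3; omega
  have hHcard : Nat.card H = Nat.card (sigmaCore L) :=
    Nat.card_congr (subgroupOfEquivOfLe (Sigma.sigmaCore_le L)).toEquiv
  have hNσ : N ≤ sigmaCore L := cd.NQ.trans cd.QH
  have hNL : N ≤ L := hNσ.trans (Sigma.sigmaCore_le L)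
  set N' := N.subgroupOf L with hN'def
  haveI : N'.Normal := (normal_subgroupOf_iff_le_normalizer hNL).2 cd.Nn
  have hN'H : N' ≤ H := fun x hx => mem_subgroupOf.2 (hNσ (mem_subgroupOf.1 hx))
  have hN'card : Nat.card N' = Nat.card N := Nat.card_congr (subgroupOfEquivOfLe hNL).toEquiv
  have hpN : ∀ W : Subgroup G, W ≤ Q → ¬ p ∣ Nat.card W := fun W hW h => by
    obtain ⟨k, hk⟩ := (cd.qgroup.to_le hW).exists_card_eq
    exact cd.qne ((Nat.prime_dvd_prime_iff_eq hp.out cd.hq).1 (hp.out.dvd_of_dvd_pow (hk ▸ h))).symm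
  have huN : u ∉ N := fun h => hpN N cd.NQ (d.orderOf_u ▸ orderOf_dvd_natCard N h)
  have hlt : ¬ H ≤ N' := fun h => huN (mem_subgroupOf.1
    (h (mem_subgroupOf.2 d.u_mem : (⟨u, Sigma.sigmaCore_le L d.u_mem⟩ : L) ∈ H)))
  have hfrob : ∀ c : L, ∀ h ∈ H, c * h * c⁻¹ * h⁻¹ ∈ N' → h ∉ N' → c ∈ H := fun c h hh hch hhN =>
    mem_subgroupOf.2 (d.frob_quot cd c.2 (mem_subgroupOf.1 hh) (mem_subgroupOf.1 hch)
      fun e => hhN (mem_subgroupOf.2 e))
  set T : Finset (Cfsg.IrrCharacter H) := Finset.univ.filter fun θ : Cfsg.IrrCharacter H =>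
    (∀ h : H, (h : L) ∈ N' → (θ : H → ℂ) h = (θ : H → ℂ) 1) ∧ (θ : H → ℂ) ≠ fun _ => 1 with hTdef
  have hmemT : ∀ θ : Cfsg.IrrCharacter H, θ ∈ T ↔
      (∀ h : H, (h : L) ∈ N' → (θ : H → ℂ) h = (θ : H → ℂ) 1) ∧ (θ : H → ℂ) ≠ fun _ => 1 :=
    fun θ => by simp [hTdef]
  obtain ⟨hT, hbnil, hweight, hlinle, hcoh⟩ := quot_family (H := H) (N := N') hN'H hH2 hlt hfrob
    ((d.hG.1).of_dvd_nat (card_subgroup_dvd_card L)) (dade_L d.hG d.hL)
    (fun h h1 => ⟨h, h1, rfl⟩) hmemT
  haveI := hbnil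
  have hbcard := card_barH (H := H) (N := N') hN'H
  rw [hN'card] at hbcard
  have hp2b : p ^ 2 ∣ Nat.card (barH H N') := by
    refine Nat.Coprime.dvd_of_dvd_mul_right (Nat.Coprime.pow_left 2
      (hp.out.coprime_iff_not_dvd.2 (hpN N cd.NQ))) ?_
    rw [hbcard, hHcard, ← d.ctx.hA.card]
    exact card_dvd_of_le d.AL
  have hidx := sq_le_index_commutator (X := barH H N') hp2b
  rcases hcoh with hcoh | ⟨r, hr, ⟨m, hm⟩, hnab, hbound⟩
  swap
  · -- a nonabelian `p`-group
    have hrp : p = r := (Nat.prime_dvd_prime_iff_eq hp.out hr).mp (hp.out.dvd_of_dvd_pow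
      (hm ▸ (dvd_pow_self p two_ne_zero).trans hp2b))
    subst hrp
    have hab : ¬ IsMulCommutative (P : Subgroup G) := fun hab => by
      set PX := ((P : Subgroup G).subgroupOf L).subgroupOf H with hPX
      have hPL : (P : Subgroup G) ≤ L := hPσ.trans (Sigma.sigmaCore_le L)
      have hPXcard : Nat.card PX = Nat.card (P : Subgroup G) := by
        rw [hPX, Nat.card_congr (subgroupOfEquivOfLe ?_).toEquiv,
          Nat.card_congr (subgroupOfEquivOfLe hPL).toEquiv]
        exact fun x hx => mem_subgroupOf.2 (hPσ (mem_subgroupOf.1 hx))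
      set f := (projH H N').comp PX.subtype with hf
      have hfinj : Function.Injective f := (injective_iff_map_eq_one f).2 fun x hx => by
        have h1 : (x : H) ∈ (projH H N').ker := MonoidHom.mem_ker.2 hx
        rw [projH_ker hN'H, mem_subgroupOf] at h1
        have h2 : (((x : H) : L) : G) ∈ N := mem_subgroupOf.1 h1
        have h3 : (((x : H) : L) : G) ∈ (P : Subgroup G) :=
          mem_subgroupOf.1 (mem_subgroupOf.1 x.2)
        obtain ⟨i, hi⟩ := IsPGroup.iff_orderOf.1 P.isPGroup' ⟨_, h3⟩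
        rw [orderOf_mk] at hi
        have h4 : orderOf (((x : H) : L) : G) = 1 := by
          have h5 := orderOf_dvd_natCard N h2
          rw [hi] at h5 ⊢
          rcases Nat.eq_zero_or_pos i with rfl | hpos
          · exact pow_zero p
          · exact absurd ((dvd_pow_self p hpos.ne').trans h5) (hpN N cd.NQ)
        exact Subtype.ext (Subtype.ext (Subtype.ext (orderOf_eq_one_iff.1 h4)))
      have hle : Nat.card (barH H N') ≤ Nat.card PX := by
        rw [hm, hPXcard, P.card_eq_multiplicity]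
        refine Nat.pow_le_pow_right hp.out.pos ((hp.out.pow_dvd_iff_le_factorization Nat.card_pos.ne').1 ?_)
        exact ((Dvd.intro (Nat.card N) (by rw [← hm]; exact hbcard.trans hHcard) : p ^ m ∣
          Nat.card (sigmaCore L))).trans (card_subgroup_dvd_card _)
      have hbij := hfinj.bijective_of_nat_card_le hle
      refine hnab ⟨⟨fun a b => ?_⟩⟩
      obtain ⟨a', rfl⟩ := hbij.2 a
      obtain ⟨b', rfl⟩ := hbij.2 b
      rw [← map_mul, ← map_mul]
      congr 1
      have e := congrArg Subtype.val (hab.is_comm.comm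
        ⟨_, mem_subgroupOf.1 (mem_subgroupOf.1 a'.2)⟩ ⟨_, mem_subgroupOf.1 (mem_subgroupOf.1 b'.2)⟩)
      exact Subtype.ext (Subtype.ext (Subtype.ext e))
    have h2e := d.two_mul_index_lt cd hAP hPσ hab
    change 2 * H.index < p at h2e
    nlinarith
  obtain ⟨-, σ, hσ, hagree⟩ := hcoh
  have hlin : 3 * H.index ≤ (T.filter fun θ : Cfsg.IrrCharacter H => (θ : H → ℂ) 1 = 1).card := by
    have hh : H.index + 1 < p := hep
    have : 3 * H.index + 1 ≤ p ^ 2 := by nlinarith
    omega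
  obtain ⟨θ, hθT, hθ1, hθne⟩ := exists_three hT hlin
  have hp2w : p ^ 2 ≤ weight T := by rw [hweight]; exact Nat.le_of_dvd Nat.card_pos hp2b
  have hnontriv : ∀ η : Cfsg.IrrCharacter H, η ∉ T → η ≠ trivIrr H →
      ∃ h : H, (h : L) ∈ N' ∧ (η : H → ℂ) h ≠ (η : H → ℂ) 1 := fun η hη hη1 => by
    by_contra hno
    push Not at hno
    exact hη ((hmemT η).2 ⟨hno, fun e => hη1 (Subtype.ext e)⟩)
  refine d.absurd_family hτL hT hσ hagree θ hθT hθ1 hθne (fun η hη hη1 => ?_)
    (le_trans (by omega : 2 ≤ 3) he3) hep hdvd hp2w ?_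
  · obtain ⟨h, hhN, hne⟩ := hnontriv η hη hη1
    obtain ⟨a, ha⟩ := char_one_nat (isCharacter_of_isIrr η.2)
    set NX := N'.subgroupOf H
    set PX := ((P : Subgroup G).subgroupOf L).subgroupOf H with hPX
    have hPL : (P : Subgroup G) ≤ L := hPσ.trans (Sigma.sigmaCore_le L)
    have hj : Function.Injective (L.subtype.comp H.subtype) :=
      L.subtype_injective.comp H.subtype_injective
    have hmapN : NX.map (L.subtype.comp H.subtype) = N := by
      rw [← map_map, map_subgroupOf_eq_of_le hN'H, map_subgroupOf_eq_of_le hNL]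
    have hmapP : PX.map (L.subtype.comp H.subtype) = (P : Subgroup G) := by
      rw [← map_map, hPX, map_subgroupOf_eq_of_le, map_subgroupOf_eq_of_le hPL]
      exact fun x hx => mem_subgroupOf.2 (hPσ (mem_subgroupOf.1 hx))
    have hdd : p ∣ a := dvd_degree_of_no_fixed NX PX
      (fun x hx y hy => Subtype.ext (Subtype.ext
        (cd.Qab _ (cd.NQ (mem_subgroupOf.1 (mem_subgroupOf.1 hx))) _
          (cd.NQ (mem_subgroupOf.1 (mem_subgroupOf.1 hy))))))
      (P.isPGroup'.of_injective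
        { toFun := fun x : PX => (⟨(((x : H) : L) : G), mem_subgroupOf.1 (mem_subgroupOf.1 x.2)⟩ : (P : Subgroup G))
          map_one' := rfl
          map_mul' := fun _ _ => rfl } fun x y e => Subtype.ext (Subtype.ext (Subtype.ext
            (congrArg (fun z : (P : Subgroup G) => (z : G)) e))))
      ((Subgroup.map_le_map_iff_of_injective hj).1 (by
        rw [Subgroup.map_commutator, hmapN, hmapP]; exact hgen))
      η.2 (mem_subgroupOf.2 hhN) hne ha
    refine Cong.trans hp.out (Cong.char_one (isGen_of_isCharacter (isCharacter_of_isIrr η.2)) hp.out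
      (by rw [← Subgroup.orderOf_coe, ← Subgroup.orderOf_coe]; exact d.orderOf_u)) ?_
    rw [ha]
    have := Cong.of_dvd hp.out (z := (a : ℤ)) (Int.natCast_dvd_natCast.2 hdd)
    rwa [Int.cast_natCast] at this
  rw [hweight]
  by_cases hab : IsMulCommutative (P : Subgroup G)
  · left
    have hAN : A ⊓ N = ⊥ := eq_bot_iff.2 fun x hx => mem_bot.2 <| by
      by_contra hx1
      exact hpN N cd.NQ (Components.Hyperplane.orderOf_eq d.ctx.hA.el (mem_inf.1 hx).1 hx1 ▸
        orderOf_dvd_natCard N (mem_inf.1 hx).2)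
    have hEN : (L ⊓ M) ⊓ N = ⊥ := eq_bot_iff.2 fun x hx => (hPab hab).le (mem_inf.2
      ⟨(mem_inf.1 hx).2, mem_centralizer_iff.2 fun a ha => by
        have h1 : x * a * x⁻¹ * a⁻¹ ∈ A ⊓ N := mem_inf.2
          ⟨mul_mem (d.normalizes (mem_inf.1 hx).1 ha) (inv_mem ha), by
            rw [show x * a * x⁻¹ * a⁻¹ = x * (a * x⁻¹ * a⁻¹) by group]
            exact mul_mem (mem_inf.1 hx).2 ((mem_normalizer_iff.1
              (cd.Nn (Sigma.sigmaCore_le L (d.AL ha))) _).1 (inv_mem (mem_inf.1 hx).2))⟩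
        rw [hAN, mem_bot, mul_inv_eq_one, mul_inv_eq_iff_eq_mul] at h1
        exact h1.symm⟩)
    refine Nat.le_of_mul_le_mul_right ?_ (Nat.card_pos (α := N))
    rw [hbcard, hHcard, mul_comm (Nat.card ↥(L ⊓ M)), ← Coprime.card_sup_of_disjoint
      ((inf_le_left : L ⊓ M ≤ L).trans cd.Nn) (disjoint_iff.2 (by rw [inf_comm]; exact hEN))]
    exact Nat.le_of_dvd Nat.card_pos (card_dvd_of_le (sup_le hNσ hE))
  · right
    refine ⟨Nat.le_of_dvd Nat.card_pos (card_dvd_of_le hE), fun η hη hη1 => ?_⟩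
    obtain ⟨z, hz, hzo, hzc⟩ := hPnab hab
    set zX : H := ⟨⟨z, Sigma.sigmaCore_le L hz⟩, mem_subgroupOf.2 hz⟩ with hzX
    have hzcen : zX ∈ center ↥H := mem_center_iff.2 fun y => Subtype.ext (Subtype.ext
      (hzc _ (mem_subgroupOf.1 y.2)).symm)
    haveI : (zpowers zX).Normal := ⟨fun y hy g => by
      rw [mem_center_iff.1 ((zpowers_le.2 hzcen) hy) g, mul_inv_cancel_right]; exact hy⟩
    have hQL : Q ≤ L := cd.QH.trans (Sigma.sigmaCore_le L)
    haveI : (Q.subgroupOf L).Normal := (normal_subgroupOf_iff_le_normalizer hQL).2 cd.Qn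
    set QX := (Q.subgroupOf L).subgroupOf H with hQX
    have hQXcard : Nat.card QX = Nat.card Q := by
      rw [hQX, Nat.card_congr (subgroupOfEquivOfLe ?_).toEquiv,
        Nat.card_congr (subgroupOfEquivOfLe hQL).toEquiv]
      exact fun x hx => mem_subgroupOf.2 (cd.QH (mem_subgroupOf.1 hx))
    have habB : ∀ a ∈ QX ⊔ zpowers zX, ∀ b ∈ QX ⊔ zpowers zX, a * b = b * a := by
      intro a ha b hb
      rw [← SetLike.mem_coe, normal_mul] at ha hb
      obtain ⟨a₁, ha₁, a₂, ha₂, rfl⟩ := Set.mem_mul.1 ha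
      obtain ⟨b₁, hb₁, b₂, hb₂, rfl⟩ := Set.mem_mul.1 hb
      have hca : ∀ y : H, Commute a₂ y := fun y =>
        (mem_center_iff.1 ((zpowers_le.2 hzcen) ha₂) y).symm
      have hcb : ∀ y : H, Commute b₂ y := fun y =>
        (mem_center_iff.1 ((zpowers_le.2 hzcen) hb₂) y).symm
      have h11 : Commute a₁ b₁ := Subtype.ext (Subtype.ext
        (cd.Qab _ (mem_subgroupOf.1 (mem_subgroupOf.1 ha₁)) _ (mem_subgroupOf.1 (mem_subgroupOf.1 hb₁))))
      exact ((h11.mul_right (hcb a₁).symm).mul_left (hca _)).eq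
    obtain ⟨a, ha, hadvd⟩ := CharTheory.Ito.degree_dvd_index_abelian (QX ⊔ zpowers zX) habB η.2
    rw [show Cfsg.charDegree (η : H → ℂ) = a by
      rw [Cfsg.charDegree, ha, Complex.natCast_re, Nat.floor_natCast]]
    have hBcard : Nat.card (QX ⊔ zpowers zX : Subgroup ↥H) = Nat.card Q * p := by
      have hcp : Nat.Coprime (Nat.card QX) (Nat.card (zpowers zX)) := by
        rw [hQXcard, Nat.card_zpowers, ← Subgroup.orderOf_coe, ← Subgroup.orderOf_coe, hzo]
        exact (hp.out.coprime_iff_not_dvd.2 (hpN Q le_rfl)).symm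
      rw [sup_comm, Coprime.card_sup_of_disjoint (normalizer_eq_top (H := zpowers zX) ▸ le_top)
        (Coprime.disjoint_of_coprime hcp.symm), Nat.card_zpowers, hQXcard, ← Subgroup.orderOf_coe,
        ← Subgroup.orderOf_coe, hzo, mul_comm]
    have h1 : a * (Nat.card Q * p) ≤ Nat.card H := by
      rw [← (QX ⊔ zpowers zX).index_mul_card, hBcard]
      exact Nat.mul_le_mul_right _ (Nat.le_of_dvd (Nat.pos_of_ne_zero index_ne_zero_of_finite) hadvd)
    have h2 : Nat.card N ≤ Nat.card Q := Nat.le_of_dvd Nat.card_pos (card_dvd_of_le cd.NQ)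
    have h2e := d.two_mul_index_lt cd hAP hPσ hab
    change 2 * H.index < p at h2e
    refine Nat.le_of_mul_le_mul_right ?_ (Nat.card_pos (α := N))
    rw [hbcard]
    calc 2 * H.index * a * Nat.card N ≤ p * a * Nat.card Q := by gcongr
      _ = a * (Nat.card Q * p) := by ring
      _ ≤ _ := h1

end Pair

end Cfsg.Agent.OddChar.TypeOne.Gap.Local
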