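import Cfsg.Agent.OddChar.TypeOne.Gap.LMain
import Cfsg.Agent.OddChar.TypeOne.Gap.MLinear
import Cfsg.Agent.OddChar.Coherence.FrobeniusFeit
import Cfsg.Agent.BlocksChars.SmallCentralizer.PGroup

/-!
# Linear characters in a family, and abelianizations of nilpotent groups
-/

set_option autoImplicit false
set_option linter.unusedSectionVars false
set_option linter.style.haveILetI false

namespace Cfsg.Agent.OddChar.TypeOne.Gap.Local

open Cfsg.Agent.Characters Cfsg.Agent.OddChar

universe v

variable {G : Type v} [Group G] [Fintype G] {L : Subgroup G} [Fintype L] {H : Subgroup L} [hN : H.Normal]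
  {T : Finset (Cfsg.IrrCharacter H)} (hT : Fam H T)
include hT

open Classical in
/-- Enough linear characters give three different induced characters. -/
theorem exists_three [Fintype (Cfsg.IrrCharacter H)]
    (h : 3 * H.index ≤ (T.filter fun θ : Cfsg.IrrCharacter H => (θ : H → ℂ) 1 = 1).card) :
    ∃ θ : Fin 3 → Cfsg.IrrCharacter H, (∀ i, θ i ∈ T) ∧ (∀ i, (θ i : H → ℂ) 1 = 1) ∧
      ∀ i j, i ≠ j → Cfsg.indFun H (θ i : H → ℂ) ≠ Cfsg.indFun H (θ j : H → ℂ) := by
  set B := T.filter fun θ : Cfsg.IrrCharacter H => (θ : H → ℂ) 1 = 1 with hB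
  set f : Cfsg.IrrCharacter H → (L → ℂ) := fun θ => Cfsg.indFun H (θ : H → ℂ)
  have hfib : ∀ b ∈ B.image f, (B.filter fun θ => f θ = b).card ≤ H.index := by
    intro b hb
    obtain ⟨θ, hθ, rfl⟩ := Finset.mem_image.1 hb
    have hθT := (Finset.mem_filter.1 hθ).1
    rw [← (card_fibre hT hθT).1]
    refine Finset.card_le_card fun η hη => ?_
    obtain ⟨h1, h2⟩ := Finset.mem_filter.1 hη
    exact Finset.mem_filter.2 ⟨(Finset.mem_filter.1 h1).1, h2⟩
  have hmul := Finset.card_le_mul_card_image B H.index hfib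
  have h3 : 3 ≤ (B.image f).card := by
    by_contra hc
    push Not at hc
    have hpos : 0 < H.index := Nat.pos_of_ne_zero Subgroup.index_ne_zero_of_finite
    nlinarith
  obtain ⟨s, hs, hcard⟩ := Finset.exists_subset_card_eq h3
  set e := (Finset.equivFinOfCardEq hcard).symm
  have hex : ∀ i : Fin 3, ∃ θ ∈ B, f θ = (e i : L → ℂ) := fun i =>
    Finset.mem_image.1 (hs (e i).2)
  choose θ hθ hfθ using hex
  refine ⟨θ, fun i => (Finset.mem_filter.1 (hθ i)).1, fun i => (Finset.mem_filter.1 (hθ i)).2,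
    fun i j hij he => hij (e.injective (Subtype.ext ?_))⟩
  rw [← hfθ i, ← hfθ j]
  exact he

omit hT

open Classical in
/-- There are at least `|H : H'| - 1` nonprincipal linear characters. -/
theorem card_linear_le {X : Type v} [Group X] [Finite X] [Fintype (Cfsg.IrrCharacter X)] :
    (commutator X).index ≤ (Finset.univ.filter fun θ : Cfsg.IrrCharacter X =>
      (θ : X → ℂ) 1 = 1 ∧ (θ : X → ℂ) ≠ fun _ => 1).card + 1 := by
  haveI : Finite (X →* ℂˣ) := Nat.finite_of_card_ne_zero (by
    rw [card_linear_hom]; exact Subgroup.index_ne_zero_of_finite)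
  haveI := Fintype.ofFinite (X →* ℂˣ)
  rw [← card_linear_hom, Nat.card_eq_fintype_card, ← Finset.card_univ,
    ← Finset.card_erase_add_one (Finset.mem_univ (1 : X →* ℂˣ))]
  refine Nat.add_le_add_right (Finset.card_le_card_of_injOn
    (fun μ => (⟨linFun μ, linFun_irr μ⟩ : Cfsg.IrrCharacter X)) (fun μ hμ => ?_) fun μ _ ν _ e => ?_) 1
  · refine Finset.mem_filter.2 ⟨Finset.mem_univ _, linFun_one μ, fun e => ?_⟩
    refine (Finset.mem_erase.1 (Finset.mem_coe.1 hμ)).1 (MonoidHom.ext fun x => Units.ext ?_)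
    simpa [linFun] using congrFun e x
  · exact MonoidHom.ext fun x => Units.ext (congrFun (congrArg Subtype.val e) x)

/-- A nilpotent group of order divisible by `p²` has `|X : X'| ≥ p²`. -/
theorem sq_le_index_commutator {X : Type v} [Group X] [Finite X] [Group.IsNilpotent X] {p : ℕ}
    [hp : Fact p.Prime] (h : p ^ 2 ∣ Nat.card X) : p ^ 2 ≤ (commutator X).index := by
  obtain ⟨P, Q, -, hQn, hP, hQ, -, hcard⟩ := Coherence.Frobenius.exists_decomposition (K := X) (p := p)
  haveI := hQn
  have hq : Nat.card (X ⧸ Q) = Nat.card P := by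
    rw [← Subgroup.index_eq_card]
    refine Nat.eq_of_mul_eq_mul_left (Nat.card_pos (α := Q)) ?_
    rw [Q.card_mul_index, ← hcard, mul_comm]
  obtain ⟨n, hn⟩ := hP.exists_card_eq
  have hQp : IsPGroup p (X ⧸ Q) := IsPGroup.of_card (n := n) (by rw [hq, hn])
  have hdvd : p ^ 2 ∣ Nat.card (X ⧸ Q) := by
    rw [hq]
    refine (Nat.Coprime.dvd_of_dvd_mul_right ?_ (hcard ▸ h))
    exact Nat.Coprime.pow_left _ (hp.out.coprime_iff_not_dvd.2 hQ)
  refine (BlocksChars.SmallCentralizer.le_index_commutator hQp hdvd).trans ?_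
  refine Nat.le_of_dvd (Nat.pos_of_ne_zero Subgroup.index_ne_zero_of_finite) ?_
  have hsurj := QuotientGroup.mk'_surjective Q
  have : (commutator X).map (QuotientGroup.mk' Q) = commutator (X ⧸ Q) := by
    rw [_root_.commutator_def, Subgroup.map_commutator, ← MonoidHom.range_eq_map,
      MonoidHom.range_eq_top.2 hsurj, _root_.commutator_def]
  rw [← this]
  exact Subgroup.index_map_dvd _ hsurj

end Cfsg.Agent.OddChar.TypeOne.Gap.Local
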