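import Cfsg.Agent.OddChar.TypeOne.Gap.Local.Arith
import Cfsg.Agent.OddChar.TypeOne.Gap.Local.Contra
import Cfsg.Agent.OddChar.TypeOne.Gap.Local.Family

/-!
# `L` has no `κ`-primes
-/

set_option autoImplicit false
set_option linter.unusedSectionVars false
set_option linter.style.haveILetI false

namespace Cfsg.Agent.OddChar.TypeOne.Gap.Local

open Cfsg Subgroup
open Cfsg.Agent.OddLocal Cfsg.Agent.OddLocal.Signalizer Cfsg.Agent.OddLocal.SigmaParts
open Cfsg.Agent.Characters Cfsg.Agent.OddChar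

variable {G : Type*} [Group G] [Fintype G] {M L A : Subgroup G} {p : ℕ} [hp : Fact p.Prime] {u : G}

namespace Pair

variable (d : Pair p M L A u)
include d

theorem frob_of_kappa (hτL : tau2 L = ∅) (hκ : kappa L = ∅) {c a : G} (hc : c ∈ L) (ha : a ∈ sigmaCore L)
    (ha1 : a ≠ 1) (hca : c * a = a * c) : c ∈ sigmaCore L := by
  by_contra hcσ
  obtain ⟨K, U, hKU⟩ := Fcore.exists_decomp d.hG d.hL
  obtain ⟨k, hk, hk1, x, hx, hkx⟩ := d.fixed_conj hKU hc hcσ ha hca
  have hE := KappaDecomp.isCompl hKU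
  rcases S1432.result d.hG L d.hL (x * a * x⁻¹) (mul_mem (mul_mem hx ha) (inv_mem hx))
    (fun e => ha1 (conj_eq_one_iff.mp e)) k
    (mem_inf.mpr ⟨hE.1 hk, mem_centralizer_singleton_iff.mpr hkx⟩) hk1
    (fun r hr hd => Compl.not_sigma d.hG d.hL hE hr (hd.trans (orderOf_dvd_natCard _ hk))) with
    ⟨h, -⟩ | ⟨h, -⟩
  all_goals obtain ⟨r, hr, hd⟩ := Nat.exists_prime_and_dvd (mt orderOf_eq_one_iff.mp hk1)
  · exact Set.notMem_empty r (hκ ▸ h r hr hd)
  · exact Set.notMem_empty r (hτL ▸ h r hr hd)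

open Classical in
theorem absurd_frob (hτL : tau2 L = ∅) (hκ : kappa L = ∅) : False := by
  haveI := coreIn_normal L
  haveI : Fintype L := Fintype.ofFinite L
  haveI : Fintype (Cfsg.IrrCharacter ↥(coreIn L)) := Fintype.ofFinite _
  haveI : Fintype (coreIn L) := Fintype.ofFinite _
  set H := coreIn L with hH
  have hsemi : ∀ c ∈ L, c ∉ sigmaCore L → ∀ a ∈ A, a ≠ 1 → c * a ≠ a * c :=
    fun c hc hcσ a ha ha1 e => hcσ (d.frob_of_kappa hτL hκ hc (d.AL ha) ha1 e)
  obtain ⟨hep, hdvd⟩ := d.index_small hτL hsemi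
  have hE := d.E_le hτL hsemi
  have he3 : 3 ≤ H.index := d.two_le_index
  have hC : ∀ h ∈ H, h ≠ 1 → Subgroup.centralizer ({h} : Set L) ≤ H := fun h hh hh1 c hc =>
    mem_subgroupOf.mpr (d.frob_of_kappa hτL hκ c.2 (mem_subgroupOf.mp hh) (fun e => hh1 (Subtype.ext e))
      (congrArg Subtype.val (mem_centralizer_singleton_iff.mp hc)))
  have hH2 : H ≠ ⊤ := fun e => by rw [e, index_top] at he3; omega
  have hHcard : Nat.card H = Nat.card (sigmaCore L) :=
    Nat.card_congr (subgroupOfEquivOfLe (Sigma.sigmaCore_le L)).toEquiv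
  have hH1 : H ≠ ⊥ := fun e => Sigma.sigmaCore_ne_bot d.hG d.hL (card_eq_one.mp (by rw [← hHcard, e, card_bot]))
  haveI := Coherence.Frobenius.nilpotent H hC hH2
  have hp2H : p ^ 2 ∣ Nat.card H := by
    rw [hHcard, ← d.ctx.hA.card]; exact card_dvd_of_le d.AL
  have hidx := sq_le_index_commutator (X := H) hp2H
  -- the family
  set T : Finset (Cfsg.IrrCharacter H) := Finset.univ.filter fun θ : Cfsg.IrrCharacter H =>
    (θ : H → ℂ) ≠ fun _ => 1 with hTdef
  have hmemT : ∀ θ : Cfsg.IrrCharacter H, θ ∈ T ↔ (θ : H → ℂ) ≠ fun _ => 1 := fun θ => by simp [hTdef]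
  have hT : Fam H T := by
    refine ⟨fun θ hθ => Coherence.Frobenius.isIrr_ind H hC θ.2 ((hmemT θ).1 hθ),
      fun θ hθ => (hmemT θ).1 hθ, fun θ hθ η he => (hmemT η).2 fun e1 => ?_⟩
    have hI := Coherence.Frobenius.isIrr_ind H hC θ.2 ((hmemT θ).1 hθ)
    rw [← he, e1] at hI
    have h1 : Cfsg.classInner (Cfsg.indFun H fun _ => 1) (fun _ => 1) = 1 := by
      exact (frobenius_reciprocity H (fun _ => (1 : ℂ)) (χ := fun _ => (1 : ℂ)) fun _ _ => rfl).trans
        (classInner_isIrr_self isIrrCharacter_one)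
    have h2 : Cfsg.indFun H (fun _ => (1 : ℂ)) = fun _ => 1 := by
      by_contra hne
      rw [classInner_isIrr_ne hI isIrrCharacter_one hne] at h1
      exact zero_ne_one h1
    have h3 := congrFun h2 1
    rw [indFun_one, mul_one] at h3
    have : H.index = 1 := by exact_mod_cast h3
    omega
  have himg : (↑(img H T) : Set (L → ℂ)) =
      {χ : L → ℂ | Cfsg.IsIrrCharacter L χ ∧ ∃ h ∈ H, χ h ≠ χ 1} := Set.ext fun χ => by
    rw [Set.mem_setOf_eq, Coherence.Frobenius.mem_set_iff H hC]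
    constructor
    · intro hχ
      obtain ⟨θ, hθ, rfl⟩ := Finset.mem_image.1 (Finset.mem_coe.1 hχ)
      exact ⟨θ, θ.2, (hmemT θ).1 hθ, rfl⟩
    · rintro ⟨θ, hθ, hθ1, rfl⟩
      exact Finset.mem_coe.2 (Finset.mem_image.2 ⟨⟨θ, hθ⟩, (hmemT _).2 hθ1, rfl⟩)
  obtain ⟨hiso, hτ1⟩ := dade_isometry hT (dade_L d.hG d.hL) fun h h1 => ⟨h, h1, rfl⟩
  rw [himg] at hiso hτ1
  have hoddL : Odd (Nat.card L) := (d.hG.1).of_dvd_nat (card_subgroup_dvd_card L)
  have hne : Nat.card H ≠ H.index + 1 := fun e => by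
    have h1 := hoddL.of_dvd_nat (card_subgroup_dvd_card H)
    have h2 := hoddL.of_dvd_nat H.index_dvd_card
    rw [Nat.odd_iff] at h1 h2; omega
  rcases Coherence.Frobenius.feit H hC hH1 hH2 hne hiso hτ1 with hcoh | ⟨r, hr, ⟨k, hk⟩, hnab, hbound⟩
  swap
  · -- a nonabelian `p`-group
    have hrp : r = p := ((Nat.prime_dvd_prime_iff_eq hp.out hr).mp (hp.out.dvd_of_dvd_pow
      (hk ▸ (dvd_pow_self p two_ne_zero).trans hp2H))).symm
    subst hrp
    obtain ⟨P, hAP, hPσ⟩ := d.exists_sylow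
    have heq : (P : Subgroup G) = sigmaCore L := by
      refine eq_of_le_of_card_ge hPσ ?_
      rw [← hHcard, hk, P.card_eq_multiplicity]
      exact Nat.pow_le_pow_right hp.out.pos ((hp.out.pow_dvd_iff_le_factorization Nat.card_pos.ne').1
        ((hk ▸ hHcard ▸ (card_subgroup_dvd_card (sigmaCore L)) : r ^ k ∣ Nat.card G)))
    have hPab : ¬ IsMulCommutative (P : Subgroup G) := fun hab => hnab ⟨⟨fun a b => by
      have e := congrArg Subtype.val (hab.is_comm.comm
        ⟨((a : L) : G), heq ▸ mem_subgroupOf.1 a.2⟩ ⟨((b : L) : G), heq ▸ mem_subgroupOf.1 b.2⟩)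
      exact Subtype.ext (Subtype.ext e)⟩⟩
    obtain ⟨hZA, hZ⟩ := d.center_line hAP hPab
    have h1 := d.index_dvd_pred hZ (fun l hl => by
      obtain ⟨h, hh, hn⟩ := d.cover hPσ hl
      exact ⟨h, hh, (inf_le_inf_left L (P2Elem.normalizer_le_normalizer_omegaCenter _)) hn⟩)
      (fun c hc hcz => by
        obtain ⟨z, hz, hz1⟩ := (bot_or_exists_ne_one (P2Elem.omegaCenter r (P : Subgroup G))).resolve_left
          fun e => by rw [e, card_bot] at hZ; exact hr.ne_one hZ.symm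
        exact d.frob_of_kappa hτL hκ hc (d.AL (hZA hz)) hz1 (hcz z hz))
    have hodd := hoddL.of_dvd_nat H.index_dvd_card
    have hle : 2 * H.index < r := by
      obtain ⟨j, hj⟩ := h1
      obtain ⟨i, hi⟩ := hodd
      obtain ⟨m, hm⟩ := hr.odd_of_ne_two (d.ctx.hA.ne_two d.hG)
      change (r - 1 = H.index * j) at hj
      rcases j with _ | _ | j
      · omega
      · omega
      · have : r - 1 + 1 = r := by omega
        nlinarith
    nlinarith
  rw [← himg] at hcoh
  obtain ⟨-, σ, hσ, hagree⟩ := hcoh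
  -- linear members
  have hlin : 3 * H.index ≤ (T.filter fun θ : Cfsg.IrrCharacter H => (θ : H → ℂ) 1 = 1).card := by
    have h1 := (card_linear_le (X := H)).trans (Nat.add_le_add_right (Finset.card_le_card
      (t := T.filter fun θ : Cfsg.IrrCharacter H => (θ : H → ℂ) 1 = 1) fun θ hθ => by
        simp only [Finset.mem_filter, Finset.mem_univ, true_and, hTdef] at hθ ⊢
        exact ⟨hθ.2, hθ.1⟩) 1)
    have hh : H.index + 1 < p := hep
    have : 3 * H.index + 1 ≤ p ^ 2 := by nlinarith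
    omega
  obtain ⟨θ, hθT, hθ1, hθne⟩ := exists_three hT hlin
  have hweight : weight T = Nat.card (sigmaCore L) := by
    rw [← hHcard, ← BlocksChars.Codegree.sum_degree_sq_nat (G := H), weight,
      ← Finset.add_sum_erase (a := trivIrr H) _ _ (Finset.mem_univ _),
      show Cfsg.charDegree (trivIrr H : H → ℂ) ^ 2 = 1 by
        rw [BlocksChars.Codegree.charDegree_triv, one_pow]]
    congr 1
    refine Finset.sum_congr ?_ fun _ _ => rfl
    ext η
    simp only [hTdef, Finset.mem_filter, Finset.mem_univ, true_and, Finset.mem_erase, ne_eq, and_true]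
    exact ⟨fun h e => h (congrArg Subtype.val e), fun h e => h (Subtype.ext e)⟩
  have hp2 : p ^ 2 ≤ weight T := by
    rw [hweight, ← hHcard]; exact Nat.le_of_dvd Nat.card_pos hp2H
  refine d.absurd_family hτL hT hσ hagree θ hθT hθ1 hθne (fun η hη hη1 => ?_) (le_trans (by omega : 2 ≤ 3) he3) hep hdvd hp2
    (Or.inl (by rw [hweight]; exact Nat.le_of_dvd Nat.card_pos (card_dvd_of_le hE)))
  exact absurd ((hmemT η).2 fun e => hη1 (Subtype.ext e)) hη

end Pair

end Cfsg.Agent.OddChar.TypeOne.Gap.Local
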