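import Cfsg.Agent.OddChar.TypeOne.Gap.Local.NilFam
import Cfsg.Agent.OddChar.TypeOne.Gap.Local.Contra
import Cfsg.Agent.BlocksChars.Codegree

/-!
# `L` with nilpotent core and a cyclic complement: the contradiction
-/

set_option autoImplicit false
set_option linter.unusedSectionVars false
set_option linter.style.haveILetI false

namespace Cfsg.Agent.OddChar.TypeOne.Gap.Local

open Cfsg Subgroup
open Cfsg.Agent.OddLocal Cfsg.Agent.Characters Cfsg.Agent.OddChar

theorem deg_eq {X : Type*} [Group X] (θ : Cfsg.IrrCharacter X) {f : ℕ} (h : (θ : X → ℂ) 1 = (f : ℂ)) :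
    Cfsg.charDegree (θ : X → ℂ) = f := by
  rw [Cfsg.charDegree, h, Complex.natCast_re, Nat.floor_natCast]

variable {G : Type*} [Group G] [Fintype G] {M L A K U : Subgroup G} {p : ℕ} [hp : Fact p.Prime] {u : G}

namespace Pair

variable (d : Pair p M L A u)
include d

/-- `L ∩ M` meets the core in a subgroup of index at least `p`. -/
theorem p_mul_card_meet_le (n : NilData p L A K) :
    p * Nat.card ↥(L ⊓ M ⊓ sigmaCore L) ≤ Nat.card (sigmaCore L) := by
  obtain ⟨P, hAP, hPσ, hPab⟩ := n.not_le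
  set E₀ := L ⊓ M ⊓ sigmaCore L with hE₀
  have hnot : ¬ (P : Subgroup G) ≤ E₀ := fun hle => hPab <| by
    have hPM : (P : Subgroup G) ≤ M := fun x hx => (mem_inf.mp (mem_inf.mp (hle hx)).1).2
    obtain ⟨S, hS⟩ := (P.isPGroup'.comap_subtype (K := M)).exists_le_sylow
    have hSc := ((S1417.result d.hG M d.hM p d.ctx.hτ A
      ⟨d.ctx.hAM, d.ctx.hA.el, d.ctx.hA.card⟩).2.1 S).1
    refine ⟨⟨fun x y => Subtype.ext ?_⟩⟩
    exact congrArg (fun z : (S : Subgroup M) => ((z : M) : G)) (hSc.is_comm.comm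
      ⟨⟨x, hPM x.2⟩, hS x.2⟩ ⟨⟨y, hPM y.2⟩, hS y.2⟩)
  have hdvd : E₀.relIndex (P : Subgroup G) ∣ Nat.card (P : Subgroup G) := relIndex_dvd_card _ _
  rw [P.card_eq_multiplicity] at hdvd
  obtain ⟨i, -, hi⟩ := (Nat.dvd_prime_pow hp.out).1 hdvd
  have hne : i ≠ 0 := fun e => hnot (relIndex_eq_one.1 (by rw [hi, e, pow_zero]))
  have h2 : E₀.relIndex (sigmaCore L) ≠ 0 := index_ne_zero_of_finite
  have h1 : E₀.relIndex (P : Subgroup G) ≤ E₀.relIndex (sigmaCore L) :=
    relIndex_le_of_le_right hPσ h2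
  have h3 : p ≤ E₀.relIndex (sigmaCore L) := by
    refine le_trans ?_ h1
    rw [hi]; exact Nat.le_self_pow hne p
  have h4 := (E₀.subgroupOf (sigmaCore L)).card_mul_index
  rw [Nat.card_congr (subgroupOfEquivOfLe (inf_le_right : E₀ ≤ sigmaCore L)).toEquiv] at h4
  rw [← h4, mul_comm]
  exact Nat.mul_le_mul_left _ h3

theorem card_meet_le (n : NilData p L A K) :
    Nat.card ↥(L ⊓ M) ≤ Nat.card K * Nat.card ↥(L ⊓ M ⊓ sigmaCore L) := by
  have h1 := ((L ⊓ M ⊓ sigmaCore L).subgroupOf (L ⊓ M)).card_mul_index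
  rw [Nat.card_congr (subgroupOfEquivOfLe (inf_le_left : L ⊓ M ⊓ sigmaCore L ≤ L ⊓ M)).toEquiv] at h1
  rw [← h1, mul_comm]
  refine Nat.mul_le_mul_right _ ?_
  rw [← n.index_eq]
  change (L ⊓ M ⊓ sigmaCore L).relIndex (L ⊓ M) ≤ (sigmaCore L).relIndex L
  rw [inf_comm, inf_relIndex_right]
  exact relIndex_le_of_le_right inf_le_left index_ne_zero_of_finite

/-- With index dividing `p + 1` the meet lies in the core. -/
theorem E_le_cube (n : NilData p L A K) (hKU : IsSigmaDecomposition L K U) (hU : U = ⊥)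
    (hdvd : (coreIn L).index ∣ p + 1) (h3 : p ^ 3 ∣ Nat.card ↥(coreIn L))
    (h4 : ¬ p ^ 4 ∣ Nat.card ↥(coreIn L)) : L ⊓ M ≤ sigmaCore L := by
  haveI := n.nilX
  obtain ⟨hcen, -⟩ := commutator_cube n.hQ h3 h4 n.nab
  by_contra hle
  obtain ⟨e, he, heσ⟩ := SetLike.not_le_iff_exists.mp hle
  obtain ⟨r, hr, hrd, hrσ⟩ : ∃ r : ℕ, r.Prime ∧ r ∣ orderOf e ∧ r ∉ sigma L := by
    by_contra h
    push Not at h
    exact heσ ((DadeSets.mem_core_iff d.hG d.hL (mem_inf.mp he).1).mp h)
  haveI := Fact.mk hr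
  set k := e ^ (orderOf e / r)
  have hko : orderOf k = r := orderOf_pow_orderOf_div (orderOf_pos e).ne' hrd
  have hk : k ∈ L ⊓ M := pow_mem he _
  have hkσ : k ∉ sigmaCore L := fun h =>
    hrσ ((DadeSets.mem_core_iff d.hG d.hL (mem_inf.mp hk).1).mpr h r hr (hko ▸ dvd_rfl))
  set S := PType.star L K with hS
  -- `S` is central in `L`
  have hSH : ∀ s ∈ S, ∀ h ∈ sigmaCore L, h * s = s * h := by
    intro s hs h hh
    have h8 : ((commutator ↥(coreIn L)).map (coreIn L).subtype).map L.subtype =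
        ⁅sigmaCore L, sigmaCore L⁆ := by
      rw [_root_.commutator_def, map_commutator, map_commutator, ← MonoidHom.range_eq_map,
        range_subtype, subgroupOf_map_subtype, inf_eq_left.2 (Sigma.sigmaCore_le L)]
    have h7 := n.star_le hs
    rw [← h8] at h7
    obtain ⟨_, ⟨w, hw, rfl⟩, e'⟩ := h7
    have h9 := congrArg (fun z : coreIn L => ((z : L) : G))
      (mem_center_iff.1 (hcen hw) ⟨⟨h, Sigma.sigmaCore_le L hh⟩, mem_subgroupOf.2 hh⟩)
    rw [← e']
    exact h9
  have hSL : ∀ s ∈ S, ∀ l ∈ L, l * s = s * l := by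
    intro s hs l hl
    obtain ⟨k', hk', h, hh, rfl⟩ := n.compl.2.2.2 l hl
    have hk's : Commute k' s := mem_centralizer_iff.mp (mem_inf.mp hs).2 k' hk'
    exact (hk's.mul_left (hSH s hs h hh)).eq
  have hSA : S ≤ A := fun s hs => d.ctx.hA.omega s
    (mem_centralizer_iff.mpr fun a ha => hSH s hs a (d.AL ha))
    (orderOf_dvd_iff_pow_eq_one.1 (n.card_star ▸ orderOf_dvd_natCard S hs))
  have hfix : ∀ a ∈ A, k * a = a * k → a ∈ S := by
    intro a ha hka
    obtain ⟨k', hk', hk'1, x, hx, hcomm⟩ := d.fixed_conj hKU (mem_inf.mp hk).1 hkσ (d.AL ha) hka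
    rw [hU, bot_sup_eq] at hk'
    have hs : x * a * x⁻¹ ∈ S := by
      rw [hS, ← n.fixed k' hk' hk'1]
      exact mem_inf.2 ⟨mul_mem (mul_mem hx (d.AL ha)) (inv_mem hx),
        mem_centralizer_singleton_iff.2 hcomm.symm⟩
    have h := hSH _ hs x hx
    have : a = x * a * x⁻¹ := by
      calc a = x⁻¹ * ((x * a * x⁻¹) * x) := by group
        _ = x⁻¹ * (x * (x * a * x⁻¹)) := by rw [h]
        _ = x * a * x⁻¹ := by group
    rwa [this]
  let g : A →* A := MonoidHom.mk'
    (fun a => ⟨k * (a : G) * k⁻¹ * (a : G)⁻¹, mul_mem (d.normalizes hk a.2) (inv_mem a.2)⟩)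
    (fun a b => Subtype.ext (by
      show k * ((a : G) * b) * k⁻¹ * ((a : G) * b)⁻¹ =
        k * (a : G) * k⁻¹ * (a : G)⁻¹ * (k * (b : G) * k⁻¹ * (b : G)⁻¹)
      have hc : Commute (k * (b : G) * k⁻¹) (a : G)⁻¹ :=
        Components.Hyperplane.mem_comm d.ctx.hA.el (d.normalizes hk b.2) (inv_mem a.2)
      have hc' : Commute ((b : G)⁻¹) (a : G)⁻¹ :=
        Components.Hyperplane.mem_comm d.ctx.hA.el (inv_mem b.2) (inv_mem a.2)
      calc k * ((a : G) * b) * k⁻¹ * ((a : G) * b)⁻¹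
          = k * (a : G) * k⁻¹ * ((k * (b : G) * k⁻¹) * ((b : G)⁻¹ * (a : G)⁻¹)) := by group
        _ = k * (a : G) * k⁻¹ * ((k * (b : G) * k⁻¹) * (a : G)⁻¹ * (b : G)⁻¹) := by rw [hc'.eq]; group
        _ = k * (a : G) * k⁻¹ * ((a : G)⁻¹ * (k * (b : G) * k⁻¹) * (b : G)⁻¹) := by rw [hc.eq]
        _ = _ := by group))
  have hg : ∀ a : A, ((g a : A) : G) = k * (a : G) * k⁻¹ * (a : G)⁻¹ := fun _ => rfl
  have hker : g.ker = S.subgroupOf A := by
    ext a
    rw [MonoidHom.mem_ker, mem_subgroupOf]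
    constructor
    · intro h
      have h' := congrArg Subtype.val h
      rw [hg, OneMemClass.coe_one, mul_inv_eq_one, mul_inv_eq_iff_eq_mul] at h'
      exact hfix a a.2 h'
    · intro h
      refine Subtype.ext ?_
      rw [hg, OneMemClass.coe_one, (hSL _ h k (mem_inf.mp hk).1)]
      group
  set Y := g.range.map A.subtype with hY
  have hYc : Nat.card Y = p := by
    rw [hY, card_map_of_injective A.subtype_injective]
    have h1 := g.ker.card_mul_index
    rw [index_ker, hker, Nat.card_congr (subgroupOfEquivOfLe hSA).toEquiv, n.card_star,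
      d.ctx.hA.card, pow_two] at h1
    exact Nat.eq_of_mul_eq_mul_left hp.out.pos h1
  have hn : zpowers k ≤ normalizer (Y : Set G) := by
    refine zpowers_le.mpr (Transfer.Fusion.map_conj_eq_self_iff.mp (eq_of_le_of_card_ge ?_
      (by rw [Transfer.Fusion.card_map_conj])))
    rintro _ ⟨_, ⟨_, ⟨a, rfl⟩, rfl⟩, rfl⟩
    refine ⟨g ⟨k * a * k⁻¹, d.normalizes hk a.2⟩, ⟨_, rfl⟩, ?_⟩
    simp only [Subgroup.coe_subtype, hg, MulEquiv.coe_toMonoidHom, MulAut.conj_apply]
    group
  have hfpf : ∀ x ∈ zpowers k, x ∈ centralizer (Y : Set G) → x = 1 := by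
    intro x hx hxY
    by_contra hx1
    obtain ⟨i, hi⟩ := mem_zpowers_iff.mp
      ((ZGroupCore.zpowers_eq_of_prime (A := zpowers k) (by rw [Nat.card_zpowers, hko]; exact hr) hx hx1).ge
        (mem_zpowers k))
    have hkY : k ∈ centralizer (Y : Set G) := by
      rw [← hi]; exact zpow_mem hxY i
    have hbot : Y = ⊥ := eq_bot_iff.2 fun y hy => mem_bot.2 <| by
      obtain ⟨_, ⟨a, rfl⟩, rfl⟩ := hy
      set b := ((g a : A) : G) with hb
      have hbk : Commute k b := (mem_centralizer_iff.mp hkY b ⟨g a, ⟨a, rfl⟩, rfl⟩).symm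
      have hstep : ∀ m : ℕ, k ^ m * (a : G) * (k ^ m)⁻¹ = b ^ m * a := by
        intro m
        induction m with
        | zero => simp
        | succ m ih =>
          calc k ^ (m + 1) * (a : G) * (k ^ (m + 1))⁻¹ = k * (k ^ m * a * (k ^ m)⁻¹) * k⁻¹ := by
                rw [pow_succ']; group
            _ = (k * b ^ m) * a * k⁻¹ := by rw [ih]; group
            _ = (b ^ m * k) * a * k⁻¹ := by rw [(hbk.pow_right m).eq]
            _ = b ^ m * (k * a * k⁻¹ * (a : G)⁻¹) * a := by group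
            _ = b ^ (m + 1) * a := by rw [← hg, ← hb, pow_succ]
      have h1 := hstep r
      rw [← hko, pow_orderOf_eq_one, one_mul, inv_one, mul_one, hko, eq_comm, mul_eq_right] at h1
      have h2 : b ^ p = 1 := d.ctx.hA.el.2 b (g a).2
      have h3 := pow_gcd_eq_one.2 ⟨h1, h2⟩
      rw [(Nat.coprime_primes hr hp.out).2 (fun e => hrσ (e ▸ d.p_sigma)), pow_one] at h3
      exact h3
    rw [hbot, card_bot] at hYc
    exact hp.out.ne_one hYc.symm
  have h1 := LineAut.card_dvd_pred hYc hn hfpf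
  rw [Nat.card_zpowers, hko] at h1
  have h2 : r ∣ p + 1 := by
    refine Nat.dvd_trans ?_ hdvd
    have hrL : r ∣ (coreIn L).index * Nat.card (coreIn L) := by
      rw [Subgroup.index_mul_card, ← hko]; exact orderOf_dvd_natCard L (mem_inf.mp hk).1
    refine (hr.dvd_mul.1 hrL).resolve_right fun h => hrσ ?_
    rw [n.card_core] at h
    exact Transitivity.isPi_piCoreOf (sigma L) L r hr h
  have h5 : r ∣ 2 := by
    have := Nat.dvd_sub h2 h1
    rwa [show p + 1 - (p - 1) = 2 by have := hp.out.two_le; omega] at this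
  have hr2 : r = 2 := (Nat.prime_dvd_prime_iff_eq hr Nat.prime_two).1 h5
  exact Unique.ne_two d.hG (show r ∣ Nat.card (zpowers k) by rw [Nat.card_zpowers, hko]) hr2

/-- The case of a nilpotent core and a cyclic complement. -/
theorem absurd_nil (hτL : tau2 L = ∅) (hKU : IsSigmaDecomposition L K U) (hK : K ≠ ⊥) (hU : U = ⊥)
    (hnil : Group.IsNilpotent (sigmaCore L)) : False := by
  classical
  have n := d.nil_setup hKU hK hU hnil
  haveI := coreIn_normal L
  haveI := n.nilX
  haveI : Fintype L := Fintype.ofFinite L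
  haveI : Fintype ↥(coreIn L) := Fintype.ofFinite _
  haveI : Fintype (Cfsg.IrrCharacter ↥(coreIn L)) := Fintype.ofFinite _
  obtain ⟨hirr, hcount, hnirr⟩ := n.free d.hG d.hL
  have he3 := d.two_le_index
  have he3' : 2 ≤ (coreIn L).index := by omega
  have hpX := n.dvd_card
  have hp2X : p ^ 2 ∣ Nat.card ↥(coreIn L) := by
    rw [n.card_core, ← d.ctx.hA.card]; exact card_dvd_of_le d.AL
  have hidx := sq_le_index_commutator (X := ↥(coreIn L)) hp2X
  have hpodd : Odd p := hp.out.odd_of_ne_two (d.ctx.hA.ne_two d.hG)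
  have hodd : Odd (coreIn L).index := ((d.hG.1).of_dvd_nat (card_subgroup_dvd_card L)).of_dvd_nat
    (coreIn L).index_dvd_card
  have hdegX : ∀ θ : Cfsg.IrrCharacter ↥(coreIn L), ∃ a : ℕ,
      Cfsg.charDegree (θ : coreIn L → ℂ) = p ^ a ∧ p ^ (2 * a + 1) ∣ Nat.card ↥(coreIn L) := fun θ => by
    obtain ⟨a, ha, hd⟩ := degree_pow n.hQ hpX θ.2
    exact ⟨a, deg_eq θ ha, hd⟩
  have hlinfree : ∀ θ : Cfsg.IrrCharacter ↥(coreIn L), (θ : coreIn L → ℂ) 1 = 1 →
      (θ : coreIn L → ℂ) ≠ (fun _ => 1) → ¬ KFixed L K θ := fun θ h1 hne hf =>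
    hne (n.fixed_linear d.hG d.hL θ.2 h1 hf)
  have hout_of : ∀ η : Cfsg.IrrCharacter ↥(coreIn L), (η : coreIn L → ℂ) 1 ≠ 1 →
      Cong p ((η : coreIn L → ℂ) ⟨⟨u, Sigma.sigmaCore_le L d.u_mem⟩, mem_subgroupOf.2 d.u_mem⟩) 0 := by
    intro η hη
    obtain ⟨a, ha, -⟩ := hdegX η
    have ha0 : a ≠ 0 := fun e => hη (by rw [deg_cast η, ha, e, pow_zero, Nat.cast_one])
    refine Cong.trans hp.out (Cong.char_one (isGen_of_isCharacter (isCharacter_of_isIrr η.2)) hp.out
      (by rw [← Subgroup.orderOf_coe, ← Subgroup.orderOf_coe]; exact d.orderOf_u)) ?_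
    rw [deg_cast η, ha]
    have := Cong.of_dvd hp.out (z := ((p ^ a : ℕ) : ℤ)) (Int.natCast_dvd_natCast.2 (dvd_pow_self p ha0))
    rwa [Int.cast_natCast] at this
  have hmeet := d.p_mul_card_meet_le n
  rcases n.index with hdiv | ⟨hdiv, h3, h4⟩
  · -- the index divides `p - 1`
    have hle : 2 * (coreIn L).index + 1 ≤ p := by
      obtain ⟨k, hk⟩ := hdiv
      obtain ⟨i, hi⟩ := hodd
      obtain ⟨j, hj⟩ := hpodd
      have hp2 := hp.out.two_le
      rcases k with _ | _ | k
      · omega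
      · omega
      · have : p - 1 + 1 = p := by omega
        nlinarith
    set T := Finset.univ.filter fun θ : Cfsg.IrrCharacter ↥(coreIn L) => ¬ KFixed L K θ with hTdef
    have hmemT : ∀ θ, θ ∈ T ↔ ¬ KFixed L K θ := fun θ => by simp [hTdef]
    have htriv : KFixed L K (trivIrr ↥(coreIn L) : coreIn L → ℂ) := fun _ _ => rfl
    have hT : Fam (coreIn L) T := by
      refine ⟨fun θ hθ => hirr θ θ.2 ((hmemT θ).1 hθ), fun θ hθ e => (hmemT θ).1 hθ (by rw [e]; exact fun _ _ => rfl),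
        fun θ hθ η he => (hmemT η).2 fun hf => hnirr η η.2 hf ?_⟩
      rw [he]; exact hirr θ θ.2 ((hmemT θ).1 hθ)
    -- the others
    set F := Finset.univ.filter fun θ : Cfsg.IrrCharacter ↥(coreIn L) => KFixed L K θ with hFdef
    have hFcard : F.card = p := by
      rw [← hcount, Nat.card_eq_fintype_card, Fintype.card_subtype]
    have hF1 : trivIrr ↥(coreIn L) ∈ F := Finset.mem_filter.2 ⟨Finset.mem_univ _, htriv⟩
    have hFnl : ∀ θ ∈ F, θ ≠ trivIrr ↥(coreIn L) → (θ : coreIn L → ℂ) 1 ≠ 1 := fun θ hθ hne h1 =>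
      hlinfree θ h1 (fun e => hne (Subtype.ext e)) (Finset.mem_filter.1 hθ).2
    set dg : Cfsg.IrrCharacter ↥(coreIn L) → ℕ := fun θ => Cfsg.charDegree (θ : coreIn L → ℂ) with hdg
    have htotal : (∑ θ ∈ T, dg θ ^ 2) + ∑ θ ∈ F, dg θ ^ 2 = Nat.card ↥(coreIn L) := by
      rw [← BlocksChars.Codegree.sum_degree_sq_nat (G := ↥(coreIn L)), hTdef, hFdef, add_comm,
        Finset.sum_filter_add_sum_filter_not]
    have hFsum : ∑ θ ∈ F, dg θ ^ 2 = 1 + ∑ θ ∈ F.erase (trivIrr _), dg θ ^ 2 := by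
      rw [← Finset.add_sum_erase F _ hF1]
      simp only [hdg, BlocksChars.Codegree.charDegree_triv, one_pow]
    have hrest : (∑ θ ∈ F.erase (trivIrr _), dg θ ^ 2) * p ≤ (p - 1) * Nat.card ↥(coreIn L) := by
      rw [Finset.sum_mul]
      refine (Finset.sum_le_card_nsmul _ _ (Nat.card ↥(coreIn L)) fun θ _ => ?_).trans ?_
      · obtain ⟨a, ha, hd⟩ := hdegX θ
        rw [show dg θ = p ^ a from ha, ← pow_mul, ← pow_succ, mul_comm a 2]
        exact Nat.le_of_dvd Nat.card_pos hd
      · rw [Finset.card_erase_of_mem hF1, hFcard, smul_eq_mul]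
    have hweight : weight T = 1 + ∑ θ ∈ T, dg θ ^ 2 := rfl
    have hwp : Nat.card ↥(coreIn L) ≤ weight T * p := by
      have h1 : p * Nat.card ↥(coreIn L) =
          (p - 1) * Nat.card ↥(coreIn L) + Nat.card ↥(coreIn L) := by
        rw [← Nat.succ_mul, Nat.succ_eq_add_one, Nat.sub_add_cancel hp.out.one_lt.le]
      have h2 : weight T + ∑ θ ∈ F.erase (trivIrr _), dg θ ^ 2 = Nat.card ↥(coreIn L) := by
        rw [hweight]; omega
      nlinarith
    have hlinle : (commutator ↥(coreIn L)).index ≤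
        (T.filter fun θ : Cfsg.IrrCharacter ↥(coreIn L) => (θ : coreIn L → ℂ) 1 = 1).card + 1 := by
      refine card_linear_le.trans (Nat.add_le_add_right (Finset.card_le_card fun θ hθ => ?_) 1)
      simp only [Finset.mem_filter, Finset.mem_univ, true_and, hTdef] at hθ ⊢
      exact ⟨hlinfree θ hθ.1 hθ.2, hθ.1⟩
    have hlin : 3 * (coreIn L).index ≤
        (T.filter fun θ : Cfsg.IrrCharacter ↥(coreIn L) => (θ : coreIn L → ℂ) 1 = 1).card := by
      have : 3 * (coreIn L).index + 1 ≤ p ^ 2 := by nlinarith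
      omega
    obtain ⟨θ₃, hθT, hθ1, hθne⟩ := exists_three hT hlin
    have hsumlin : (T.filter fun θ : Cfsg.IrrCharacter ↥(coreIn L) => (θ : coreIn L → ℂ) 1 = 1).card ≤
        ∑ θ ∈ T, dg θ ^ 2 := by
      rw [Finset.card_eq_sum_ones]
      refine (Finset.sum_le_sum fun θ hθ => ?_).trans
        (Finset.sum_le_sum_of_subset (f := fun θ => dg θ ^ 2) (Finset.filter_subset _ _))
      rw [show dg θ = 1 from deg_eq θ (by rw [(Finset.mem_filter.1 hθ).2, Nat.cast_one]), one_pow]
    have hp2w : p ^ 2 ≤ weight T := by rw [hweight]; omega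
    -- coherence
    obtain ⟨hiso, hτ1⟩ := dade_isometry hT (dade_L d.hG d.hL) fun h h1 => ⟨h, h1, rfl⟩
    set e := (coreIn L).index with he
    set dW : (L → ℂ) → ℕ := fun φ => Cfsg.charDegree φ / e with hdW
    have hdegInd : ∀ θ : Cfsg.IrrCharacter ↥(coreIn L),
        Cfsg.indFun (coreIn L) (θ : coreIn L → ℂ) 1 = ((e * dg θ : ℕ) : ℂ) ∧
          dW (Cfsg.indFun (coreIn L) (θ : coreIn L → ℂ)) = dg θ := fun θ => by
      have h1 : Cfsg.indFun (coreIn L) (θ : coreIn L → ℂ) 1 = ((e * dg θ : ℕ) : ℂ) := by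
        rw [indFun_one, deg_cast θ, Nat.cast_mul]
      refine ⟨h1, ?_⟩
      rw [hdW]
      show Cfsg.charDegree (Cfsg.indFun (coreIn L) (θ : coreIn L → ℂ)) / e = dg θ
      rw [Cfsg.charDegree, h1, Complex.natCast_re, Nat.floor_natCast,
        Nat.mul_div_cancel_left _ (by omega)]
    have himg : ∀ φ ∈ img (coreIn L) T, ∃ θ ∈ T, Cfsg.indFun (coreIn L) (θ : coreIn L → ℂ) = φ :=
      fun φ hφ => Finset.mem_image.1 hφ
    have hbase : 2 ≤ ((img (coreIn L) T).filter fun φ => dW φ = 1).card := by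
      refine le_trans ?_ (Finset.card_le_card (s := Finset.univ.image fun i => Cfsg.indFun (coreIn L) (θ₃ i : coreIn L → ℂ)) ?_)
      · rw [Finset.card_image_of_injective _ fun i j h => by_contra fun hne => hθne i j hne h]
        simp
      · intro φ hφ
        obtain ⟨i, -, rfl⟩ := Finset.mem_image.1 hφ
        exact Finset.mem_filter.2 ⟨Finset.mem_coe.1 (mem_img (hθT i)), (hdegInd _).2.trans (deg_eq _ (by rw [hθ1 i, Nat.cast_one]))⟩
    have hcoh := Coherence.Frobenius.coherent_by_degree (img (coreIn L) T)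
      (fun φ hφ => by obtain ⟨θ, hθ, rfl⟩ := himg φ hφ; exact hT.irr θ hθ) e (by omega) dW
      (fun φ hφ => by
        obtain ⟨θ, hθ, rfl⟩ := himg φ hφ
        rw [(hdegInd θ).2]; exact (hdegInd θ).1) hiso hτ1 hbase ?_
    swap
    · intro χ hχ h1χ
      obtain ⟨θ, hθ, rfl⟩ := himg χ hχ
      rw [(hdegInd θ).2] at h1χ ⊢
      obtain ⟨a, ha, hda⟩ := hdegX θ
      set D := dg θ with hD
      have hDa : D = p ^ a := ha
      have ha0 : a ≠ 0 := fun h => by rw [hDa, h, pow_zero] at h1χ; omega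
      -- fibres
      have hfib : ∑ η ∈ T.filter (fun η => dg η < D), dg η ^ 2 =
          e * ∑ φ ∈ (img (coreIn L) T).filter (fun φ => dW φ < D), dW φ ^ 2 := by
        rw [Finset.mul_sum, ← Finset.sum_fiberwise_of_maps_to
          (t := (img (coreIn L) T).filter (fun φ => dW φ < D))
          (g := fun η : Cfsg.IrrCharacter ↥(coreIn L) => Cfsg.indFun (coreIn L) (η : coreIn L → ℂ))]
        · refine Finset.sum_congr rfl fun φ hφ => ?_
          obtain ⟨hφ1, hφ2⟩ := Finset.mem_filter.1 hφ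
          obtain ⟨η₀, hη₀, rfl⟩ := himg φ hφ1
          rw [(hdegInd η₀).2] at hφ2 ⊢
          rw [show e = (coreIn L).index from rfl, ← (card_fibre hT hη₀).1, ← smul_eq_mul, ← Finset.sum_const]
          refine Finset.sum_congr ?_ fun η hη => ?_
          · ext η
            simp only [Finset.mem_filter]
            refine ⟨fun h => ⟨h.1.1, h.2⟩, fun h => ⟨⟨h.1, ?_⟩, h.2⟩⟩
            rw [← (hdegInd η).2, h.2, (hdegInd η₀).2]; exact hφ2
          · obtain ⟨-, h2⟩ := Finset.mem_filter.1 hη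
            rw [← (hdegInd η).2, h2, (hdegInd η₀).2]
        · intro η hη
          obtain ⟨h1, h2⟩ := Finset.mem_filter.1 hη
          exact Finset.mem_filter.2 ⟨Finset.mem_coe.1 (mem_img h1), by rw [(hdegInd η).2]; exact h2⟩
      -- all the characters of lower degree
      set Low := Finset.univ.filter fun η : Cfsg.IrrCharacter ↥(coreIn L) => dg η < D with hLow
      have hlow : D ^ 2 ≤ ∑ η ∈ Low, dg η ^ 2 := by
        refine Nat.le_of_dvd (Finset.sum_pos' (fun _ _ => Nat.zero_le _) ⟨trivIrr _, Finset.mem_filter.2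
          ⟨Finset.mem_univ _, by simp only [hdg, BlocksChars.Codegree.charDegree_triv]; exact h1χ⟩,
          by simp only [hdg, BlocksChars.Codegree.charDegree_triv]; norm_num⟩) ?_
        have hrest : D ^ 2 ∣ ∑ η ∈ Finset.univ.filter
            (fun η : Cfsg.IrrCharacter ↥(coreIn L) => ¬ dg η < D), dg η ^ 2 := by
          refine Finset.dvd_sum fun η hη => ?_
          obtain ⟨b, hb, -⟩ := hdegX η
          have hle := Nat.not_lt.1 (Finset.mem_filter.1 hη).2
          rw [hDa, show dg η = p ^ b from hb] at hle ⊢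
          exact pow_dvd_pow_of_dvd (pow_dvd_pow p ((Nat.pow_le_pow_iff_right hp.out.one_lt).1 hle)) 2
        refine (Nat.dvd_add_left hrest).1 ?_
        rw [hLow, Finset.sum_filter_add_sum_filter_not, BlocksChars.Codegree.sum_degree_sq_nat, hDa,
          ← pow_mul, mul_comm]
        exact (pow_dvd_pow p (Nat.le_succ _)).trans hda
      have hsplit : ∑ η ∈ Low, dg η ^ 2 = (∑ η ∈ T.filter (fun η => dg η < D), dg η ^ 2) +
          ∑ η ∈ F.filter (fun η => dg η < D), dg η ^ 2 := by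
        rw [hLow, hTdef, hFdef, Finset.filter_filter, Finset.filter_filter,
          ← Finset.sum_filter_add_sum_filter_not (Finset.univ.filter fun η => dg η < D)
            (fun η : Cfsg.IrrCharacter ↥(coreIn L) => ¬ KFixed L K η), Finset.filter_filter,
          Finset.filter_filter]
        simp only [and_comm, not_not]
      have hFlow : ∀ η ∈ (F.filter fun η => dg η < D).erase (trivIrr _), dg η ^ 2 * p ^ 2 ≤ D ^ 2 ∧ p < D := by
        intro η hη
        obtain ⟨hne, h'⟩ := Finset.mem_erase.1 hη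
        obtain ⟨hηF, hlt⟩ := Finset.mem_filter.1 h'
        obtain ⟨b, hb, -⟩ := hdegX η
        have hb' : dg η = p ^ b := hb
        rw [hb', hDa, Nat.pow_lt_pow_iff_right hp.out.one_lt] at hlt
        have hb0 : b ≠ 0 := fun h => hFnl η hηF hne (by rw [deg_cast η, hb, h, pow_zero, Nat.cast_one])
        refine ⟨?_, ?_⟩
        · rw [hb', hDa, ← mul_pow, ← pow_succ]
          exact Nat.pow_le_pow_left (Nat.pow_le_pow_right hp.out.pos hlt) 2
        · rw [hDa]
          calc p = p ^ 1 := (pow_one p).symm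
            _ < p ^ a := Nat.pow_lt_pow_right hp.out.one_lt (by omega)
      set R := ∑ η ∈ (F.filter fun η => dg η < D).erase (trivIrr _), dg η ^ 2 with hR
      have hFeq : ∑ η ∈ F.filter (fun η => dg η < D), dg η ^ 2 = 1 + R := by
        rw [hR, ← Finset.add_sum_erase (F.filter fun η => dg η < D) _
          (Finset.mem_filter.2 ⟨hF1, by simp only [hdg, BlocksChars.Codegree.charDegree_triv]; exact h1χ⟩)]
        simp only [hdg, BlocksChars.Codegree.charDegree_triv, one_pow]
      have hRle : R * p ^ 2 ≤ (p - 1) * D ^ 2 := by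
        rw [hR, Finset.sum_mul]
        refine (Finset.sum_le_card_nsmul _ _ _ fun η hη => (hFlow η hη).1).trans ?_
        rw [smul_eq_mul]
        refine Nat.mul_le_mul_right _ ?_
        refine (Finset.card_le_card (Finset.erase_subset_erase _ (Finset.filter_subset _ _))).trans ?_
        rw [Finset.card_erase_of_mem hF1, hFcard]
      have hR0 : D = p → R = 0 := fun h => Finset.sum_eq_zero fun η hη =>
        absurd ((hFlow η hη).2) (by omega)
      set sT := ∑ η ∈ T.filter (fun η => dg η < D), dg η ^ 2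
      suffices h : 2 * D * e < sT by
        refine Nat.lt_of_mul_lt_mul_left (a := e) ?_
        rw [← hfib]
        linarith
      have hDp : p ≤ D := hDa ▸ Nat.le_self_pow ha0 p
      have h2 : D ^ 2 ≤ sT + (1 + R) := by rw [← hFeq, ← hsplit]; exact hlow
      have hp2le : 2 ≤ p := hp.out.two_le
      rcases eq_or_lt_of_le hDp with h | h
      · rw [hR0 h.symm] at h2
        rw [← h] at h2 ⊢
        nlinarith
      · obtain ⟨q, rfl⟩ : ∃ q, p = q + 1 := ⟨p - 1, by omega⟩
        simp only [Nat.add_sub_cancel] at hRle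
        by_contra hc
        push Not at hc
        have h5 : sT ≤ q * D := hc.trans (by nlinarith)
        have h6 : D ^ 2 * (q + 1) ^ 2 ≤ q * D * (q + 1) ^ 2 + (q + 1) ^ 2 + q * D ^ 2 := by
          nlinarith
        have h7 : (q + 1) ^ 2 < (q + 1) * D := by nlinarith
        have h8 : D * (q + 1) * (q + 2) ≤ D * D * (q + 1) := by nlinarith
        nlinarith
    obtain ⟨-, σ, hσ, hagree⟩ := hcoh
    refine d.absurd_family hτL hT hσ hagree θ₃ hθT hθ1 hθne (fun η hη hη1 => hout_of η fun h1 => ?_)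
      he3' (by omega) ?_ hp2w (Or.inr ⟨?_, fun η hη hη1 => ?_⟩)
    · exact hη ((hmemT η).2 (hlinfree η h1 fun e => hη1 (Subtype.ext e)))
    · exact hdiv.trans ⟨p + 1, by rw [mul_comm, ← Nat.sq_sub_sq, one_pow]⟩
    · refine (d.card_meet_le n).trans ((Nat.mul_le_mul_right _ ?_).trans hmeet)
      rw [← n.index_eq]; omega
    · obtain ⟨a, ha, hda⟩ := hdegX η
      have ha0 : a ≠ 0 := fun h => hη ((hmemT η).2 (hlinfree η (by
        rw [deg_cast η, ha, h, pow_zero, Nat.cast_one]) fun e => hη1 (Subtype.ext e)))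
      rw [ha]
      have h1 : p ^ a * p ^ a * p ≤ weight T * p := by
        refine le_trans ?_ hwp
        rw [← pow_add, ← two_mul, ← pow_succ]
        exact Nat.le_of_dvd Nat.card_pos hda
      have h2 := Nat.le_of_mul_le_mul_right h1 hp.out.pos
      have h3 : 2 * (coreIn L).index ≤ p ^ a := by
        have := Nat.le_self_pow ha0 p; omega
      nlinarith
  · -- the index divides `p + 1`
    have hE := d.E_le_cube n hKU hU hdiv h3 h4
    obtain ⟨-, hcard'⟩ := commutator_cube n.hQ h3 h4 n.nab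
    have hep : (coreIn L).index + 1 < p := by
      obtain ⟨k, hk⟩ := hdiv
      obtain ⟨i, hi⟩ := hodd
      obtain ⟨j, hj⟩ := hpodd
      rcases k with _ | _ | k
      · omega
      · omega
      · nlinarith
    set T := Finset.univ.filter fun θ : Cfsg.IrrCharacter ↥(coreIn L) =>
      (θ : coreIn L → ℂ) 1 = 1 ∧ (θ : coreIn L → ℂ) ≠ fun _ => 1 with hTdef
    have hmemT : ∀ θ : Cfsg.IrrCharacter ↥(coreIn L),
        θ ∈ T ↔ (θ : coreIn L → ℂ) 1 = 1 ∧ (θ : coreIn L → ℂ) ≠ fun _ => 1 := fun θ => by simp [hTdef]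
    have hT : Fam (coreIn L) T := by
      refine ⟨fun θ hθ => hirr θ θ.2 (hlinfree θ ((hmemT θ).1 hθ).1 ((hmemT θ).1 hθ).2),
        fun θ hθ => ((hmemT θ).1 hθ).2, fun θ hθ η he => (hmemT η).2 ?_⟩
      have hI := hirr θ θ.2 (hlinfree θ ((hmemT θ).1 hθ).1 ((hmemT θ).1 hθ).2)
      rw [← he] at hI
      refine ⟨?_, fun e => hnirr η η.2 (by rw [e]; exact fun _ _ => rfl) hI⟩
      have h1 := congrFun he 1
      rw [indFun_one, indFun_one] at h1
      rw [mul_left_cancel₀ (Nat.cast_ne_zero.2 index_ne_zero_of_finite) h1]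
      exact ((hmemT θ).1 hθ).1
    have hTf : (T.filter fun θ : Cfsg.IrrCharacter ↥(coreIn L) => (θ : coreIn L → ℂ) 1 = 1) = T :=
      Finset.filter_true_of_mem fun θ hθ => ((hmemT θ).1 hθ).1
    have hTle : (commutator ↥(coreIn L)).index ≤ T.card + 1 := by
      refine card_linear_le.trans (Nat.add_le_add_right (Finset.card_le_card fun θ hθ => ?_) 1)
      simp only [Finset.mem_filter, Finset.mem_univ, true_and, hTdef] at hθ ⊢
      exact hθ
    have hweight : weight T = 1 + T.card := by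
      rw [weight, Finset.card_eq_sum_ones]
      congr 1
      refine Finset.sum_congr rfl fun θ hθ => ?_
      rw [deg_eq θ (f := 1) (by rw [((hmemT θ).1 hθ).1, Nat.cast_one]), one_pow]
    have hlin : 3 * (coreIn L).index ≤
        (T.filter fun θ : Cfsg.IrrCharacter ↥(coreIn L) => (θ : coreIn L → ℂ) 1 = 1).card := by
      rw [hTf]
      have : 3 * (coreIn L).index + 1 ≤ p ^ 2 := by nlinarith
      omega
    obtain ⟨θ₃, hθT, hθ1, hθne⟩ := exists_three hT hlin
    obtain ⟨hiso, hτ1⟩ := dade_isometry hT (dade_L d.hG d.hL) fun h h1 => ⟨h, h1, rfl⟩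
    have hcoh := Coherence.coherent_irr_equal_degree (img (coreIn L) T)
      (fun φ hφ => by obtain ⟨θ, hθ, rfl⟩ := Finset.mem_image.1 hφ; exact hT.irr θ hθ)
      (fun φ hφ ψ hψ => by
        obtain ⟨θ, hθ, rfl⟩ := Finset.mem_image.1 hφ
        obtain ⟨η, hη, rfl⟩ := Finset.mem_image.1 hψ
        rw [indFun_one, indFun_one, ((hmemT θ).1 hθ).1, ((hmemT η).1 hη).1]) (by
        refine le_trans ?_ (Finset.card_le_card
          (s := Finset.univ.image fun i => Cfsg.indFun (coreIn L) (θ₃ i : coreIn L → ℂ)) ?_)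
        · rw [Finset.card_image_of_injective _ fun i j h => by_contra fun hne => hθne i j hne h]
          simp
        · intro φ hφ
          obtain ⟨i, -, rfl⟩ := Finset.mem_image.1 hφ
          exact Finset.mem_coe.1 (mem_img (hθT i))) hiso hτ1
    obtain ⟨-, σ, hσ, hagree⟩ := hcoh
    refine d.absurd_family hτL hT hσ hagree θ₃ hθT hθ1 hθne (fun η hη hη1 => hout_of η fun h1 => ?_)
      he3' hep (hdiv.trans ⟨p - 1, by rw [← Nat.sq_sub_sq, one_pow]⟩) (by rw [hweight]; omega) (Or.inl ?_)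
    · exact hη ((hmemT η).2 ⟨h1, fun e => hη1 (Subtype.ext e)⟩)
    · refine Nat.le_of_mul_le_mul_left ?_ hp.out.pos
      rw [inf_eq_left.2 hE, ← n.card_core, ← (commutator ↥(coreIn L)).index_mul_card] at hmeet
      refine hmeet.trans ?_
      rw [hweight, mul_comm p]
      exact Nat.mul_le_mul (by omega) (Nat.le_of_dvd hp.out.pos hcard')

end Pair

end Cfsg.Agent.OddChar.TypeOne.Gap.Local
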