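import Cfsg.Agent.OddChar.TypeOne.Gap.Local.Arith
import Cfsg.Agent.OddChar.TypeOne.Gap.Local.CoreAux
import Cfsg.Agent.OddLocal.NonNilpotent
import Cfsg.Agent.OddLocal.FcoreStructure

/-!
# `L` with a core that is not nilpotent: the structure
-/

set_option autoImplicit false
set_option linter.unusedSectionVars false
set_option linter.style.haveILetI false

namespace Cfsg.Agent.OddChar.TypeOne.Gap.Local

open Cfsg Subgroup
open scoped commutatorElement
open scoped IsMulCommutative
open Cfsg.Agent.OddLocal Cfsg.Agent.OddLocal.Signalizer Cfsg.Agent.OddLocal.SigmaParts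

variable {G : Type*} [Group G] [Fintype G] {M L A K U Q D W : Subgroup G} {p q : ℕ}
  [hp : Fact p.Prime] {u : G}

theorem inf_normalizer_le_normalizer_commutator (A B : Subgroup G) :
    normalizer (A : Set G) ⊓ normalizer (B : Set G) ≤ normalizer ((⁅A, B⁆ : Subgroup G) : Set G) :=
  fun x hx => by
    have h1 := Subgroup.mem_normalizer_iff_map_conj_eq.1 (mem_inf.1 hx).1
    have h2 := Subgroup.mem_normalizer_iff_map_conj_eq.1 (mem_inf.1 hx).2
    rw [Subgroup.mem_normalizer_iff_map_conj_eq, Subgroup.map_commutator, h1, h2]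

/-- Elements of `L` act on a cyclic normal subgroup commutatively. -/
theorem commutator_le_centralizer {C : Subgroup G} [hC : IsCyclic C] (hn : L ≤ normalizer (C : Set G)) :
    ⁅L, L⁆ ≤ centralizer (C : Set G) := by
  let φ : L →* MulAut C := C.normalizerMonoidHom.comp (inclusion hn)
  have hcomm : ∀ f g : MulAut C, f * g = g * f := fun f g => by
    obtain ⟨c, hc⟩ := IsCyclic.exists_generator (α := C)
    refine MulEquiv.ext fun x => ?_
    obtain ⟨i, rfl⟩ := mem_zpowers_iff.1 (hc x)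
    obtain ⟨a, ha⟩ := mem_zpowers_iff.1 (hc (f c))
    obtain ⟨b, hb⟩ := mem_zpowers_iff.1 (hc (g c))
    simp only [MulAut.mul_apply, map_zpow, ← ha, ← hb]
    simp only [← zpow_mul]
    congr 1
    ring
  refine commutator_le.2 fun a ha b hb => mem_centralizer_iff.2 fun c hc => ?_
  set w : L := ⁅(⟨a, ha⟩ : L), (⟨b, hb⟩ : L)⁆
  have h1 : φ w = 1 := by
    rw [map_commutatorElement, commutatorElement_eq_one_iff_mul_comm]; exact hcomm _ _
  have h2 : (φ w ⟨c, hc⟩ : G) = c := by rw [h1]; rfl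
  have h3 : ⁅a, b⁆ * c * ⁅a, b⁆⁻¹ = c := h2
  exact (mul_inv_eq_iff_eq_mul.1 h3).symm

/-- The structure. -/
structure CoreData (p q : ℕ) [Fact p.Prime] (L A K Q N : Subgroup G) : Prop where
  compl : IsComplIn K (sigmaCore L) L
  fixed : ∀ k ∈ K, k ≠ 1 → sigmaCore L ⊓ centralizer ({k} : Set G) = PType.star L K
  star_le : PType.star L K ≤ N
  NQ : N ≤ Q
  QH : Q ≤ sigmaCore L
  Qn : L ≤ normalizer (Q : Set G)
  Qab : ∀ a ∈ Q, ∀ b ∈ Q, a * b = b * a
  Nn : L ≤ normalizer (N : Set G)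
  qgroup : IsPGroup q Q
  hq : q.Prime
  qne : q ≠ p
  semi : ∀ c ∈ L, c ∉ sigmaCore L → ∀ a ∈ A, a ≠ 1 → c * a ≠ a * c
  sylow : ∃ P : Sylow p G, A ≤ (P : Subgroup G) ∧ (P : Subgroup G) ≤ sigmaCore L ∧
    N ≤ ⁅N, (P : Subgroup G)⁆ ∧
    (IsMulCommutative (P : Subgroup G) → N ⊓ centralizer (A : Set G) = ⊥) ∧
    (¬ IsMulCommutative (P : Subgroup G) → ∃ z ∈ sigmaCore L, orderOf z = p ∧
      ∀ h ∈ sigmaCore L, z * h = h * z)

namespace Pair

variable (d : Pair p M L A u)
include d

theorem semi_of_star (hKU : IsSigmaDecomposition L K U) (hU : U = ⊥)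
    (hfix : ∀ k ∈ K, k ≠ 1 → sigmaCore L ⊓ centralizer ({k} : Set G) = PType.star L K)
    (hS : Nat.card (PType.star L K) = q) (hq : q.Prime) (hqp : q ≠ p) :
    ∀ c ∈ L, c ∉ sigmaCore L → ∀ a ∈ A, a ≠ 1 → c * a ≠ a * c := by
  intro c hc hcσ a ha ha1 hca
  obtain ⟨k, hk, hk1, x, hx, hcomm⟩ := d.fixed_conj hKU hc hcσ (d.AL ha) hca
  rw [hU, bot_sup_eq] at hk
  have hmem : x * a * x⁻¹ ∈ PType.star L K := by
    rw [← hfix k hk hk1]
    exact mem_inf.2 ⟨mul_mem (mul_mem hx (d.AL ha)) (inv_mem hx),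
      mem_centralizer_singleton_iff.2 hcomm.symm⟩
  have h1 : orderOf (x * a * x⁻¹) ∣ q := hS ▸ orderOf_dvd_natCard _ hmem
  rw [TypeTwo.orderOf_conj, Components.Hyperplane.orderOf_eq d.ctx.hA.el ha ha1] at h1
  exact hqp ((Nat.prime_dvd_prime_iff_eq hp.out hq).1 h1).symm

/-- A `q`-subgroup of `L` with `q ∈ β(L)` cannot be inside `M` if it contains all `q`-subgroups of `L_σ`. -/
theorem not_le_M (hqβ : q ∈ beta L) (hQp : IsPGroup q Q) (hQH : Q ≤ sigmaCore L)
    (hQn : L ≤ normalizer (Q : Set G)) (hQi : ¬ q ∣ Q.relIndex (sigmaCore L)) : ¬ Q ≤ M := by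
  intro hQM
  have hq : q.Prime := hqβ.1.1
  haveI := Fact.mk hq
  have hqσ : q ∈ sigma L := Sigma.alpha_subset_sigma d.hG d.hL hqβ.1
  haveI : (Q.subgroupOf (sigmaCore L)).Normal :=
    (normal_subgroupOf_iff_le_normalizer hQH).2 ((Sigma.sigmaCore_le L).trans hQn)
  refine hqβ.1.2 fun B hB hBe => ?_
  have hBp : IsPGroup q B := fun b => ⟨1, Subtype.ext (by simpa using hBe b b.2)⟩
  set B' := B.map L.subtype with hB'
  have hB'σ : B' ≤ sigmaCore L := Sigma.sylow_le_sigmaCore d.hG d.hL hqσ (hBp.map _) (map_subtype_le _)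
  have hB'Q : B' ≤ Q := fun b hb => by
    refine KappaDecomp.mem_of_normal_coprime ((Sigma.sigmaCore_le L).trans hQn) hQH (hB'σ hb) ?_
    obtain ⟨k, hk⟩ := IsPGroup.iff_orderOf.1 (hBp.map L.subtype) ⟨b, hb⟩
    rw [orderOf_mk] at hk
    rw [hk]
    exact Nat.Coprime.pow_left _ (hq.coprime_iff_not_dvd.2 hQi)
  by_contra hcard
  have hqM : q ∈ alpha M := by
    refine ⟨hq, fun h => hcard ?_⟩
    have h1 := h (B'.subgroupOf M) ?_ ?_
    · rwa [Nat.card_congr (subgroupOfEquivOfLe (hB'Q.trans hQM)).toEquiv, hB',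
        card_map_of_injective L.subtype_injective] at h1
    · refine ⟨⟨fun a b => Subtype.ext (Subtype.ext ?_)⟩⟩
      obtain ⟨x, hx, ex⟩ := mem_subgroupOf.1 a.2
      obtain ⟨y, hy, ey⟩ := mem_subgroupOf.1 b.2
      show ((a : M) : G) * ((b : M) : G) = ((b : M) : G) * ((a : M) : G)
      rw [← ex, ← ey]
      exact congrArg (fun z : B => ((z : L) : G)) (hB.is_comm.comm ⟨x, hx⟩ ⟨y, hy⟩)
    · intro a ha
      obtain ⟨x, hx, ex⟩ := mem_subgroupOf.1 ha
      refine Subtype.ext ?_
      rw [SubgroupClass.coe_pow, ← ex, ← map_pow, hBe x hx, map_one]; rfl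
  exact not_sigma_of_ne d.hG d.hM d.hL (fun g hg => d.sig.hne g⁻¹ (by
    rw [hg, Transfer.Fusion.map_conj_inv_cancel])) (Sigma.alpha_subset_sigma d.hG d.hM hqM) hqσ

/-- A subgroup normalised by the pieces is normalised by `L`. -/
theorem le_normalizer_of_parts {P : Sylow p G} (hPσ : (P : Subgroup G) ≤ sigmaCore L)
    (hD : IsComplIn Q D (sigmaCore L)) (h1 : Q ≤ normalizer (W : Set G)) (h2 : D ≤ normalizer (W : Set G))
    (h3 : L ⊓ normalizer ((P : Subgroup G) : Set G) ≤ normalizer (W : Set G)) :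
    L ≤ normalizer (W : Set G) := fun l hl => by
  obtain ⟨h, hh, hn⟩ := d.cover hPσ hl
  obtain ⟨a, ha, b, hb, rfl⟩ := hD.2.2.2 h hh
  have := mul_mem (mul_mem (h1 ha) (h2 hb)) (h3 hn)
  rwa [mul_inv_cancel_left] at this

/-- A complement to `Q` through the chosen Sylow subgroup. -/
theorem exists_compl_ge (c : NonNilpotent.Core L K Q q) (hqp : q ≠ p) {P : Sylow p G}
    (hPσ : (P : Subgroup G) ≤ sigmaCore L) :
    ∃ D : Subgroup G, IsComplIn Q D (sigmaCore L) ∧ (P : Subgroup G) ≤ D := by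
  obtain ⟨D, hD⟩ := Fcore.exists_core_compl d.hG c
  haveI : (Q.subgroupOf (sigmaCore L)).Normal :=
    (normal_subgroupOf_iff_le_normalizer c.le).2 ((Sigma.sigmaCore_le L).trans c.normal)
  obtain ⟨S₀⟩ : Nonempty (Sylow p D) := inferInstance
  set S := (S₀ : Subgroup D).map D.subtype with hS
  have hSH : S ≤ sigmaCore L := (map_subtype_le _).trans hD.2.1
  have hcardD : Nat.card Q * Nat.card D = Nat.card (sigmaCore L) := by
    rw [← Coprime.card_sup_of_disjoint (hD.2.1.trans ((Sigma.sigmaCore_le L).trans c.normal))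
      (disjoint_iff.2 hD.2.2.1)]
    congr 2
    refine le_antisymm (sup_le hD.1 hD.2.1) fun x hx => ?_
    obtain ⟨a, ha, b, hb, rfl⟩ := hD.2.2.2 x hx
    exact mul_mem_sup ha hb
  have hQp : ¬ p ∣ Nat.card Q := fun h => by
    haveI := Fact.mk c.hq
    obtain ⟨k, hk⟩ := c.pgroup.exists_card_eq
    exact hqp ((Nat.prime_dvd_prime_iff_eq hp.out c.hq).1 (hp.out.dvd_of_dvd_pow (hk ▸ h))).symm
  have hScard : Nat.card S = p ^ (Nat.card (sigmaCore L)).factorization p := by
    rw [hS, card_map_of_injective D.subtype_injective, S₀.card_eq_multiplicity, ← hcardD,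
      Nat.factorization_mul Nat.card_pos.ne' Nat.card_pos.ne']
    simp [Nat.factorization_eq_zero_of_not_dvd hQp]
  let S' : Sylow p (sigmaCore L) := Sylow.ofCard (S.subgroupOf (sigmaCore L))
    (by rw [Nat.card_congr (subgroupOfEquivOfLe hSH).toEquiv, hScard])
  obtain ⟨h, hh⟩ := MulAction.exists_smul_eq (sigmaCore L) S' (P.subtype hPσ)
  refine ⟨D.map (MulAut.conj (h : G)).toMonoidHom, ⟨hD.1, ?_, ?_, ?_⟩, fun x hx => ?_⟩
  · rintro _ ⟨x, hx, rfl⟩
    exact mul_mem (mul_mem h.2 (hD.2.1 hx)) (inv_mem h.2)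
  · refine eq_bot_iff.2 fun x hx => ?_
    obtain ⟨hxQ, y, hy, rfl⟩ := mem_inf.1 hx
    have hyQ : y ∈ Q := by
      have := (mem_normalizer_iff.1 (c.normal (Sigma.sigmaCore_le L h.2)) y).2 hxQ
      exact this
    rw [mem_bot.1 (hD.2.2.1.le (mem_inf.2 ⟨hyQ, hy⟩)), map_one]
    exact one_mem _
  · intro x hx
    obtain ⟨a, ha, b, hb, e⟩ := hD.2.2.2 ((h : G)⁻¹ * x * h) (mul_mem (mul_mem (inv_mem h.2) hx) h.2)
    refine ⟨(h : G) * a * (h : G)⁻¹, (mem_normalizer_iff.1 (c.normal (Sigma.sigmaCore_le L h.2)) a).1 ha,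
      (h : G) * b * (h : G)⁻¹, ⟨b, hb, rfl⟩, ?_⟩
    calc x = (h : G) * ((h : G)⁻¹ * x * h) * (h : G)⁻¹ := by group
      _ = _ := by rw [e]; group
  · have h1 : (⟨x, hPσ hx⟩ : sigmaCore L) ∈ (MulAut.conj h • S' : Sylow p (sigmaCore L)) := by
      rw [show MulAut.conj h • S' = h • S' from rfl, hh]; exact hx
    obtain ⟨y, hy, e⟩ := h1
    exact ⟨(y : G), map_subtype_le _ (mem_subgroupOf.1 hy), congrArg Subtype.val e⟩

theorem core_setup (hKU : IsSigmaDecomposition L K U) (hn : ¬ Group.IsNilpotent (sigmaCore L)) :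
    ∃ (q : ℕ) (Q N : Subgroup G), CoreData p q L A K Q N := by
  have hU := NonNilpotent.U_eq_bot d.hG d.hL hKU hn
  have hK := NonNilpotent.K_ne_bot d.hG d.hL hKU hn
  obtain ⟨q, Q, c⟩ := NonNilpotent.exists_core d.hG d.hL hKU hn
  haveI := Fact.mk c.hq
  have hqp : q ≠ p := fun e => d.not_ideal (e ▸ c.beta.2)
  have hd := KappaDecomp.data_of d.hG d.hL hKU hK
  have hfix : ∀ k ∈ K, k ≠ 1 → sigmaCore L ⊓ centralizer ({k} : Set G) = PType.star L K :=
    fun k hk hk1 => hd.fixed k hk hk1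
  have hE : IsComplIn K (sigmaCore L) L := by
    have := KappaDecomp.isCompl hKU
    rwa [hU, bot_sup_eq] at this
  have hsemi := d.semi_of_star hKU hU hfix c.hc c.hq hqp
  obtain ⟨P, hAP, hPσ⟩ := d.exists_sylow
  obtain ⟨D, hD, hPD⟩ := d.exists_compl_ge c hqp hPσ
  obtain ⟨hDnil, hC0n, hC0lt, hQcard, hQel, hmin⟩ := c.compl D hD
  set C₀ := Q ⊓ centralizer (D : Set G) with hC₀
  -- `D` normalises `P`
  have hDP : D ≤ normalizer ((P : Subgroup G) : Set G) := by
    haveI := hDnil
    have hn : ((P.subtype hPD : Sylow p D) : Subgroup D).Normal :=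
      (P.subtype hPD).normal_of_normalizerCondition Group.normalizerCondition_of_isNilpotent
    exact (normal_subgroupOf_iff_le_normalizer hPD).1 hn
  have hnotM := d.not_le_M c.beta c.pgroup c.le c.normal c.index
  have hnormQ : ∀ W : Subgroup G, C₀ ≤ W → W ≤ Q → Q ≤ normalizer (W : Set G) := fun W hW hWQ => by
    rw [le_normalizer_iff]
    intro a ha w hw
    rw [show a * w * a⁻¹ = (a * w * a⁻¹ * w⁻¹) * w by group]
    exact mul_mem (hW (hQel a ha w (hWQ hw)).2) hw
  -- fixed points of a normalised subgroup inside `P`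
  have hfixed : ∀ B : Subgroup G, B ≤ (P : Subgroup G) →
      L ⊓ normalizer ((P : Subgroup G) : Set G) ≤ normalizer (B : Set G) →
      D ≤ normalizer (B : Set G) → ¬ Q ≤ centralizer (B : Set G) →
      Q ⊓ centralizer (B : Set G) = C₀ := by
    intro B hBP hNB hDB hnot
    set W := Q ⊓ centralizer (B : Set G) with hW
    have hC : C₀ ≤ W := inf_le_inf_left _ (Subgroup.centralizer_le (SetLike.coe_subset_coe.2 (hBP.trans hPD)))
    have hWn : L ≤ normalizer (W : Set G) := by
      refine d.le_normalizer_of_parts hPσ hD (hnormQ W hC inf_le_left) ?_ ?_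
      · refine le_trans ?_ inf_normalizer_le_normalizer_inf
        exact le_inf ((hD.2.1.trans (Sigma.sigmaCore_le L)).trans c.normal)
          (fun x hx => le_normalizer_iff.2 (fun g hg y hy => Sigma.centralizer_conj hg hy) (hDB hx))
      · refine le_trans ?_ inf_normalizer_le_normalizer_inf
        exact le_inf (inf_le_left.trans c.normal)
          (fun x hx => le_normalizer_iff.2 (fun g hg y hy => Sigma.centralizer_conj hg hy) (hNB hx))
    by_contra hne
    refine hmin W (lt_of_le_of_ne hC (Ne.symm hne)) (lt_of_le_of_ne inf_le_left fun e => hnot ?_) hWn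
    exact e.ge.trans inf_le_right
  have hQP : Q ⊓ centralizer ((P : Subgroup G) : Set G) = C₀ := hfixed _ le_rfl inf_le_right hDP fun h =>
    hnotM fun x hx => d.centralizer_le (mem_centralizer_singleton_iff.2
      (mem_centralizer_iff.1 (h hx) u (hAP d.hu)).symm)
  have hC0P : C₀ ≤ centralizer ((P : Subgroup G) : Set G) := hQP.ge.trans inf_le_right
  -- the fixed points are cyclic and central
  have hC0M : C₀ ≤ M := fun x hx => d.centralizer_le (mem_centralizer_singleton_iff.2
    (mem_centralizer_iff.1 (hC0P hx) u (hAP d.hu)).symm)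
  have hqL : q ∈ sigma L := Sigma.alpha_subset_sigma d.hG d.hL c.beta.1
  have hqM : q ∉ sigma M := fun h => not_sigma_of_ne d.hG d.hM d.hL (fun g hg => d.sig.hne g⁻¹ (by
    rw [hg, Transfer.Fusion.map_conj_inv_cancel])) h hqL
  have hr1 : PRankLE q 1 M := by
    by_contra h2
    have hqτ : q ∈ tau2 M := ⟨c.hq, hqM, SigmaCompl.rank_le d.hG d.hM c.hq hqM, h2⟩
    obtain ⟨B, -, hB⟩ := SigmaCompl.exists_ctx d.hG d.hM d.compl hqτ
    obtain ⟨S, hBS⟩ := hB.hA.isPGroup.exists_le_sylow
    obtain ⟨B', -, hB'e, hBB'⟩ := c.beta.2.2.2 S B hBS hB.hA.el hB.hA.card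
    exact hBB'.not_ge fun b hb => hB.hA.omega b (mem_centralizer_iff.mpr fun a ha =>
      Components.Hyperplane.mem_comm hB'e (hBB'.le ha) hb) (hB'e.2 b hb)
  have hC0cyc : IsCyclic C₀ := Compl.isCyclic_of_rankOne d.hG hr1 (c.pgroup.to_le inf_le_left) hC0M
  have hHC0 : sigmaCore L ≤ centralizer (C₀ : Set G) :=
    (Sigma.sigmaCore_le_commutator d.hG d.hL).trans (commutator_le_centralizer hC0n)
  -- `Q` is abelian
  have hQab : ∀ a ∈ Q, ∀ b ∈ Q, a * b = b * a := by
    by_contra hnab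
    set C' := C₀.subgroupOf Q with hC'
    have hC'z : C' ≤ center Q := fun x hx => mem_center_iff.2 fun y => Subtype.ext
      (mem_centralizer_iff.1 (hHC0 (c.le y.2)) x (mem_subgroupOf.1 hx)).symm
    have hcomm : commutator Q ≤ C' := by
      rw [_root_.commutator_def]
      refine commutator_le.2 fun a _ b _ => mem_subgroupOf.2 ?_
      rw [commutatorElement_def]
      exact (hQel a a.2 b b.2).2
    have hpow : ∀ x ∈ commutator Q, x ^ q = 1 := by
      have hle : commutator Q ≤ (powMonoidHom (α := (center Q)) q).ker.map (center Q).subtype := by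
        rw [_root_.commutator_def]
        refine commutator_le.2 fun a _ b _ => ?_
        have hz : ⁅a, b⁆ ∈ center Q := hC'z (hcomm (by
          rw [_root_.commutator_def]; exact commutator_mem_commutator (mem_top _) (mem_top _)))
        refine ⟨⟨_, hz⟩, Subtype.ext ?_, rfl⟩
        show ⁅a, b⁆ ^ q = 1
        have hb : ∀ n : ℕ, (a * b * a⁻¹) ^ n = ⁅a, b⁆ ^ n * b ^ n := fun n => by
          rw [show a * b * a⁻¹ = ⁅a, b⁆ * b by rw [commutatorElement_def]; group]
          exact ((show Commute b ⁅a, b⁆ from mem_center_iff.1 hz b).symm).mul_pow n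
        have h1 := hb q
        have hbq : b ^ q ∈ center Q := hC'z (mem_subgroupOf.2 (by
          push_cast; exact (hQel b b.2 b b.2).1))
        rw [conj_pow, mem_center_iff.1 hbq a, mul_inv_cancel_right] at h1
        exact mul_eq_right.1 h1.symm
      intro x hx
      obtain ⟨y, hy, rfl⟩ := hle hx
      exact congrArg Subtype.val (MonoidHom.mem_ker.1 hy)
    have hcard : Nat.card (commutator Q) = q := by
      haveI : IsCyclic C' := isCyclic_of_injective (subgroupOfEquivOfLe (inf_le_left : C₀ ≤ Q)).toMonoidHom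
        (subgroupOfEquivOfLe _).injective
      haveI := isCyclic_of_injective (inclusion hcomm) (inclusion_injective _)
      have h1 : Monoid.exponent (commutator Q) ∣ q :=
        Monoid.exponent_dvd_of_forall_pow_eq_one fun x => Subtype.ext (hpow _ x.2)
      rw [IsCyclic.exponent_eq_card] at h1
      refine (c.hq.eq_one_or_self_of_dvd _ h1).resolve_left fun e => hnab fun a ha b hb => ?_
      have : ⁅(⟨a, ha⟩ : Q), ⟨b, hb⟩⁆ ∈ commutator Q := by
        rw [_root_.commutator_def]; exact commutator_mem_commutator (mem_top _) (mem_top _)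
      rw [card_eq_one.1 e, mem_bot, commutatorElement_eq_one_iff_mul_comm] at this
      exact congrArg Subtype.val this
    obtain ⟨n, hn⟩ := center_index_sq c.hq hcard (hcomm.trans hC'z)
    set Z := (center Q).map Q.subtype with hZ
    have hZn : L ≤ normalizer (Z : Set G) := le_normalizer_iff.2 fun l hl z hz => by
      obtain ⟨w, hw, rfl⟩ := hz
      refine ⟨⟨l * w * l⁻¹, (mem_normalizer_iff.1 (c.normal hl) _).1 w.2⟩, mem_center_iff.2 fun y => ?_, rfl⟩
      refine Subtype.ext ?_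
      set y' : Q := ⟨l⁻¹ * y * l, (mem_normalizer_iff''.1 (c.normal hl) _).1 y.2⟩
      have := congrArg Subtype.val (mem_center_iff.1 hw y')
      show (y : G) * (l * w * l⁻¹) = l * w * l⁻¹ * y
      calc (y : G) * (l * w * l⁻¹) = l * ((l⁻¹ * y * l) * w) * l⁻¹ := by group
        _ = l * (w * (l⁻¹ * y * l)) * l⁻¹ := by rw [show (l⁻¹ * (y : G) * l) * w = w * (l⁻¹ * y * l) from this]
        _ = _ := by group
    have hZ0 : Z = C₀ := by
      by_contra hne
      refine hmin Z (lt_of_le_of_ne ?_ (Ne.symm hne)) (lt_of_le_of_ne (map_subtype_le _) fun e => ?_) hZn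
      · exact (map_subgroupOf_eq_of_le inf_le_left).ge.trans (map_mono hC'z)
      · refine hnab fun a ha b hb => ?_
        obtain ⟨w, hw, rfl⟩ := e.ge ha
        exact (congrArg Subtype.val (mem_center_iff.1 hw ⟨b, hb⟩)).symm
    have hidx : (center Q).index = q ^ Nat.card K := by
      have h1 := (center Q).card_mul_index
      rw [← card_map_of_injective Q.subtype_injective (K := center Q), ← hZ, hZ0] at h1
      exact Nat.eq_of_mul_eq_mul_left Nat.card_pos (h1.trans hQcard)
    rw [hidx] at hn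
    obtain ⟨i, -, rfl⟩ := (Nat.dvd_prime_pow c.hq).1 (show n ∣ q ^ Nat.card K from hn ▸ dvd_pow_self n two_ne_zero)
    rw [← pow_mul] at hn
    have h2 := Nat.pow_right_injective c.hq.two_le hn
    have h3 : Odd (Nat.card K) := (d.hG.1).of_dvd_nat (card_subgroup_dvd_card K)
    rw [h2] at h3
    exact Nat.not_even_iff_odd.2 h3 ⟨i, by ring⟩
  haveI : IsMulCommutative Q := ⟨⟨fun a b => Subtype.ext (hQab a a.2 b b.2)⟩⟩
  set N := ⁅Q, (P : Subgroup G)⁆ with hN
  have hPQ : (P : Subgroup G) ≤ normalizer (Q : Set G) := (hPσ.trans (Sigma.sigmaCore_le L)).trans c.normal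
  have hcopPQ : (Nat.card (P : Subgroup G)).Coprime (Nat.card Q) := by
    obtain ⟨k, hk⟩ := c.pgroup.exists_card_eq
    rw [hk, P.card_eq_multiplicity]
    exact Nat.Coprime.pow _ _ ((Nat.coprime_primes hp.out c.hq).2 (Ne.symm hqp))
  have hQsolv : Group.IsSolvable Q := Coprime.isSolvable_of_isMulCommutative Q
  have hNQ : N ≤ Q := Coprime.commutator_le_of_le_normalizer hPQ
  have hNn : L ≤ normalizer (N : Set G) := by
    refine d.le_normalizer_of_parts hPσ hD ?_ ?_ ?_
    · intro a ha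
      exact le_normalizer_iff.2 (fun g (hg : g ∈ Q) y hy => by
        rw [hQab g hg y (hNQ hy), mul_inv_cancel_right]; exact hy) ha
    · exact le_trans (le_inf ((hD.2.1.trans (Sigma.sigmaCore_le L)).trans c.normal) hDP)
        (inf_normalizer_le_normalizer_commutator _ _)
    · exact le_trans (inf_le_inf_right _ c.normal) (inf_normalizer_le_normalizer_commutator _ _)
  have hNC0 : C₀ ⊓ N = ⊥ := by
    rw [← hQP]; exact Coprime.inf_centralizer_inf_commutator hPQ hcopPQ
  -- the fixed points of `K` lie in `N`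
  have hKH : K ≤ normalizer (sigmaCore L : Set G) := hE.1.trans (Sigma.le_normalizer_sigmaCore L)
  have hcopK : (Nat.card K).Coprime (Nat.card (sigmaCore L)) := SigmaMeet.coprime_card d.hG d.hL hE
  have hHsolv : Group.IsSolvable (sigmaCore L) :=
    Transitivity.isSolvable_of_ne_top d.hG fun e => d.hL.1 (top_le_iff.mp (e ▸ Sigma.sigmaCore_le L))
  obtain ⟨P₁, hKP₁⟩ := Coprime.exists_invariant_sylow p hKH hcopK (Or.inr hHsolv)
  obtain ⟨h₁, hh₁⟩ := MulAction.exists_smul_eq (sigmaCore L) (P.subtype hPσ) P₁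
  set P' := (P₁ : Subgroup (sigmaCore L)).map (sigmaCore L).subtype with hP'
  have hP'eq : P' = (P : Subgroup G).map (MulAut.conj (h₁ : G)).toMonoidHom := by
    rw [hP', ← hh₁]
    ext x
    constructor
    · rintro ⟨y, ⟨z, hz, rfl⟩, rfl⟩
      exact ⟨(z : G), hz, rfl⟩
    · rintro ⟨z, hz, rfl⟩
      exact ⟨_, ⟨⟨z, hPσ hz⟩, hz, rfl⟩, rfl⟩
  have hQP' : Q ⊓ centralizer (P' : Set G) = C₀ := by
    have hn1 : ∀ (S : Subgroup G), L ≤ normalizer (S : Set G) →
        S.map (MulAut.conj (h₁ : G)).toMonoidHom = S := fun S hS =>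
      Transfer.Fusion.map_conj_eq_self_iff.2 (hS (Sigma.sigmaCore_le L h₁.2))
    have hcm : centralizer (P' : Set G) =
        (centralizer ((P : Subgroup G) : Set G)).map (MulAut.conj (h₁ : G)).toMonoidHom := by
      rw [hP'eq]
      ext x
      rw [mem_map_equiv, mem_centralizer_iff, mem_centralizer_iff]
      constructor
      · intro h y hy
        have := h _ ⟨y, hy, rfl⟩
        simp only [MulEquiv.coe_toMonoidHom, MulAut.conj_apply] at this
        simp only [MulAut.conj_symm_apply]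
        calc y * ((h₁ : G)⁻¹ * x * h₁) = (h₁ : G)⁻¹ * (((h₁ : G) * y * (h₁ : G)⁻¹) * x) * h₁ := by group
          _ = (h₁ : G)⁻¹ * (x * ((h₁ : G) * y * (h₁ : G)⁻¹)) * h₁ := by rw [this]
          _ = _ := by group
      · rintro h _ ⟨y, hy, rfl⟩
        have := h y hy
        simp only [MulAut.conj_symm_apply] at this
        simp only [MulEquiv.coe_toMonoidHom, MulAut.conj_apply]
        calc (h₁ : G) * y * (h₁ : G)⁻¹ * x = (h₁ : G) * (y * ((h₁ : G)⁻¹ * x * h₁)) * (h₁ : G)⁻¹ := by group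
          _ = (h₁ : G) * ((h₁ : G)⁻¹ * x * h₁ * y) * (h₁ : G)⁻¹ := by rw [this]
          _ = _ := by group
    conv_lhs => rw [hcm, ← hn1 Q c.normal]
    rw [← Subgroup.map_inf _ _ _ (MulAut.conj (h₁ : G)).injective, hQP, hn1 C₀ hC0n]
  have hstar0 : PType.star L K ⊓ C₀ = ⊥ := by
    by_contra hne
    have hSle : PType.star L K ≤ C₀ := by
      obtain ⟨s, hs, hs1⟩ := (bot_or_exists_ne_one _).resolve_left hne
      have hgen := ZGroupCore.zpowers_eq_of_prime (A := PType.star L K)
        (by rw [show Nat.card (PType.star L K) = q from c.hc]; exact c.hq) (mem_inf.1 hs).1 hs1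
      rw [← hgen]
      exact zpowers_le.2 (mem_inf.1 hs).2
    have hP'σ : P' ≤ sigmaCore L := map_subtype_le _
    have hP'p : IsPGroup p P' := P₁.isPGroup'.map _
    have hfpf : ∀ k ∈ K, k ≠ 1 → ∀ a ∈ P', k * a = a * k → a = 1 := by
      intro k hk hk1 a ha hka
      by_contra ha1
      have hmem : a ∈ PType.star L K := by
        rw [← hfix k hk hk1]
        exact mem_inf.2 ⟨hP'σ ha, mem_centralizer_singleton_iff.2 hka.symm⟩
      obtain ⟨i, hi⟩ := IsPGroup.iff_orderOf.1 hP'p ⟨a, ha⟩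
      rw [orderOf_mk] at hi
      have h1 : orderOf a ∣ q := c.hc ▸ orderOf_dvd_natCard _ hmem
      have h2 : orderOf a ≠ 1 := fun e => ha1 (orderOf_eq_one_iff.1 e)
      rw [hi] at h1 h2
      exact hqp ((Nat.prime_dvd_prime_iff_eq hp.out c.hq).1
        ((dvd_pow_self p fun e => h2 (by rw [e, pow_zero])).trans h1)).symm
    have hP'1 : P' ≠ ⊥ := fun e => by
      have h0 : Nat.card P' = Nat.card (P : Subgroup G) := by rw [hP'eq, Transfer.Fusion.card_map_conj]
      rw [e, card_bot] at h0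
      exact hp.out.ne_one (Nat.dvd_one.1 (h0 ▸ (d.ctx.hA.dvd_card.trans (card_dvd_of_le hAP))))
    have hdisj : P' ⊓ K = ⊥ := le_bot_iff.1 ((inf_le_inf_right _ hP'σ).trans (by
      rw [inf_comm]; exact hE.2.2.1.le))
    have hPKL : P' ⊔ K ≤ L := sup_le (hP'σ.trans (Sigma.sigmaCore_le L)) hE.1
    have hcardPK : Nat.card ↥(P' ⊔ K) = Nat.card P' * Nat.card K :=
      Coprime.card_sup_of_disjoint hKP₁ (disjoint_iff.2 hdisj)
    have hcop : Nat.Coprime (Nat.card Q) (Nat.card ↥(P' ⊔ K)) := by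
      rw [hcardPK]
      refine Nat.Coprime.mul_right ?_ (hcopK.symm.coprime_dvd_left (card_dvd_of_le c.le))
      rw [hP'eq, Transfer.Fusion.card_map_conj]
      exact hcopPQ.symm
    have hform := S1545.result P' K Q hP'1 hK hdisj
      (fun k hk a ha => (mem_normalizer_iff.1 (hKP₁ hk) a).1 ha) hfpf
      (fun x hx h hh => (mem_normalizer_iff.1 (c.normal (hPKL hx)) h).1 hh)
      ((Coprime.disjoint_of_coprime hcop).eq_bot) hQsolv hcop
    have h1 : Q ⊓ centralizer ((K : Subgroup G) : Set G) = PType.star L K := by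
      refine le_antisymm ?_ (le_inf c.star_le inf_le_right)
      exact inf_le_inf_right _ c.le
    have h2 : Q ⊓ centralizer ((P' ⊔ K : Subgroup G) : Set G) = PType.star L K := by
      refine le_antisymm ?_ ?_
      · exact (inf_le_inf_left _ (Subgroup.centralizer_le (SetLike.coe_subset_coe.2 le_sup_right))).trans h1.le
      · refine le_inf c.star_le ?_
        rw [le_centralizer_iff]
        exact sup_le (le_centralizer_iff.1 ((hSle.trans hQP'.ge).trans inf_le_right))
          (le_centralizer_iff.1 inf_le_right)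
    rw [h1, h2, hQP', show Nat.card (PType.star L K) = q from c.hc] at hform
    have h3 := Nat.eq_of_mul_eq_mul_left (pow_pos c.hq.pos _) hform
    exact hC0lt.ne (eq_of_le_of_card_ge hC0lt.le h3.le)
  have hstar : PType.star L K ≤ N := by
    intro s hs
    obtain ⟨x, hx, y, hy, e⟩ := Coprime.exists_eq_centralizer_mul_commutator hPQ hcopPQ (Or.inr hQsolv)
      (c.star_le hs)
    rw [hQP] at hx
    have hxs : x ∈ PType.star L K := by
      refine mem_inf.2 ⟨c.le (hC0lt.le hx), mem_centralizer_iff.2 fun k hk => ?_⟩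
      have hks : k * s = s * k := mem_centralizer_iff.1 (mem_inf.1 hs).2 k hk
      have e1 : k * x * k⁻¹ * (k * y * k⁻¹) = x * y := by
        calc k * x * k⁻¹ * (k * y * k⁻¹) = k * (x * y) * k⁻¹ := by group
          _ = x * y := by rw [← e, hks, mul_inv_cancel_right]
      have hxC : k * x * k⁻¹ ∈ C₀ := (mem_normalizer_iff.1 (hC0n (hE.1 hk)) x).1 hx
      have hyN : k * y * k⁻¹ ∈ N := (mem_normalizer_iff.1 (hNn (hE.1 hk)) y).1 hy
      have h1 : x⁻¹ * (k * x * k⁻¹) ∈ C₀ ⊓ N := by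
        refine mem_inf.2 ⟨mul_mem (inv_mem hx) hxC, ?_⟩
        rw [show x⁻¹ * (k * x * k⁻¹) = y * (k * y * k⁻¹)⁻¹ by
          rw [eq_mul_inv_iff_mul_eq, mul_assoc, e1, inv_mul_cancel_left]]
        exact mul_mem hy (inv_mem hyN)
      rw [hNC0, mem_bot, inv_mul_eq_one, eq_mul_inv_iff_mul_eq] at h1
      exact h1.symm
    have hx1 : x = 1 := mem_bot.1 (hstar0.le (mem_inf.2 ⟨hxs, hx⟩))
    rw [e, hx1, one_mul]; exact hy
  refine ⟨q, Q, N, hE, hfix, hstar, hNQ, c.le, c.normal, hQab, hNn, c.pgroup, c.hq, hqp, hsemi, P, hAP, hPσ,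
    (Coprime.commutator_commutator_eq hPQ hcopPQ (Or.inr hQsolv)).ge, fun hab => ?_, fun hnab => ?_⟩
  · have hPA : L ⊓ normalizer ((P : Subgroup G) : Set G) ≤ normalizer (A : Set G) :=
      inf_le_right.trans (d.omega_abelian hAP hab)
    have hQA : Q ⊓ centralizer (A : Set G) = C₀ := hfixed A hAP hPA (hDP.trans (d.omega_abelian hAP hab))
      fun h => hnotM fun x hx => d.ctx.hCA (h hx)
    refine le_bot_iff.1 ?_
    rw [← hNC0, ← hQA]
    exact le_inf (inf_le_inf_right _ hNQ) inf_le_left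
  · obtain ⟨a, ha, b, hb, hab⟩ : ∃ a ∈ (P : Subgroup G), ∃ b ∈ (P : Subgroup G), a * b ≠ b * a := by
      by_contra h
      push Not at h
      exact hnab ⟨⟨fun a b => Subtype.ext (h a a.2 b b.2)⟩⟩
    set P₂ := ⁅(P : Subgroup G), (P : Subgroup G)⁆ with hP₂
    have hP₂le : P₂ ≤ (P : Subgroup G) := Subgroup.commutator_le.2 fun x hx y hy => by
      rw [commutatorElement_def]; exact mul_mem (mul_mem (mul_mem hx hy) (inv_mem hx)) (inv_mem hy)
    have hP₂ne : P₂ ≠ ⊥ := fun e => hab (by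
      have := commutator_mem_commutator ha hb
      rw [← hP₂, e, mem_bot, commutatorElement_eq_one_iff_mul_comm] at this
      exact this)
    haveI hPnil : Group.IsNilpotent (P : Subgroup G) := P.isPGroup'.isNilpotent
    have hnorm : (P₂.subgroupOf (P : Subgroup G)).Normal := (normal_subgroupOf_iff_le_normalizer hP₂le).2
      (OddLocal.Coprime.le_normalizer_commutator_self le_normalizer)
    have hne' : P₂.subgroupOf (P : Subgroup G) ≠ ⊥ := fun e => hP₂ne (by
      rw [← map_subgroupOf_eq_of_le hP₂le, e, Subgroup.map_bot])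
    obtain ⟨z, hz, hzo⟩ := KappaFixed.exists_order_eq (P.isPGroup'.to_subgroup _)
      (OddLocal.Coprime.inf_center_ne_bot hnorm hne')
    obtain ⟨hzP₂, hzc⟩ := mem_inf.1 hz
    have hzG : (z : G) ∈ (P : Subgroup G) := z.2
    have hzQ : (z : G) ∈ centralizer (Q : Set G) :=
      c.derived D hD (commutator_mono hPD hPD (mem_subgroupOf.1 hzP₂))
    refine ⟨z, hPσ hzG, by rw [Subgroup.orderOf_coe]; exact hzo, fun h hh => ?_⟩
    obtain ⟨x, hx, y, hy, rfl⟩ := hD.2.2.2 h hh
    have h1 : Commute (z : G) x := (mem_centralizer_iff.1 hzQ x hx).symm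
    have h2 : Commute (z : G) y := by
      haveI := hDnil
      obtain ⟨s, t, e, -, hs, ht, hsy, hty⟩ := SigmaParts.exists_parts {p} y
      rw [e]
      have hsD : s ∈ D := zpowers_le.2 hy hsy
      have htD : t ∈ D := zpowers_le.2 hy hty
      refine Commute.mul_right ?_ ?_
      · have hsP : s ∈ (P : Subgroup G) := by
          refine KappaDecomp.mem_of_normal_coprime hDP hPD hsD (Nat.coprime_of_dvd fun r hr h3 h4 => ?_)
          have : r = p := hs r hr h3
          subst this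
          exact P.not_dvd_index (h4.trans (relIndex_dvd_index_of_le hPD))
        exact (congrArg Subtype.val (mem_center_iff.1 hzc ⟨s, hsP⟩)).symm
      · refine CN.commute_of_mem hDnil (hPD hzG) htD ?_
        rw [Subgroup.orderOf_coe, hzo]
        exact hp.out.coprime_iff_not_dvd.2 fun h => ht p hp.out h rfl
    exact (h1.mul_right h2).eq

end Pair

end Cfsg.Agent.OddChar.TypeOne.Gap.Local
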