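import Cfsg.Agent.OddChar.TypeOne.Gap.Local.Pair
import Cfsg.Agent.OddChar.TypeOne.Gap.MMain
import Cfsg.Agent.OddChar.TypeOne.Gap.LSmall
import Cfsg.Agent.S1496

/-!
# The hypotheses on the side of `M` for a pair
-/

set_option autoImplicit false
set_option linter.unusedSectionVars false
set_option linter.style.haveILetI false

namespace Cfsg.Agent.OddChar.TypeOne.Gap.Local

open Cfsg Subgroup
open Cfsg.Agent.OddLocal Cfsg.Agent.OddLocal.Signalizer Cfsg.Agent.OddLocal.SigmaParts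

universe v

variable {G : Type v} [Group G] {M L A : Subgroup G} {p : ℕ} [hp : Fact p.Prime] {u : G}

section

variable [Finite G]

/-- `M_σ` inside `M`. -/
noncomputable abbrev coreIn (M : Subgroup G) : Subgroup M := (sigmaCore M).subgroupOf M

theorem coreIn_normal (M : Subgroup G) : (coreIn M).Normal :=
  (normal_subgroupOf_iff_le_normalizer (Sigma.sigmaCore_le M)).2 (Sigma.le_normalizer_sigmaCore M)

end

variable [Fintype G]

namespace Pair

variable (d : Pair p M L A u)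
include d

theorem coprime_E {e : G} (he : e ∈ L ⊓ M) :
    Nat.Coprime (orderOf e) (Nat.card (sigmaCore M)) :=
  Nat.coprime_of_dvd fun r hr h1 h2 => Compl.not_sigma d.hG d.hM d.compl hr
    (h1.trans (orderOf_dvd_natCard _ he)) (Transitivity.isPi_piCoreOf (sigma M) M r hr h2)

/-- An element of `M` with a fixed point on the core is conjugate to `c e` with `e` in the complement. -/
theorem split_fixed {m : G} (hm : m ∈ M) {y : G} (hy : y ∈ sigmaCore M) (hy1 : y ≠ 1)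
    (hmy : m * y = y * m) :
    ∃ e ∈ L ⊓ M, m * e⁻¹ ∈ sigmaCore M ∧
      (∃ y' ∈ sigmaCore M, y' ≠ 1 ∧ e * y' = y' * e) ∧
      ∃ x ∈ sigmaCore M, ∃ c ∈ sigmaCore M, c * e = e * c ∧ x * m * x⁻¹ = c * e := by
  obtain ⟨w, hw, e, he, rfl⟩ : ∃ w ∈ sigmaCore M, ∃ e ∈ L ⊓ M, m = w * e := by
    obtain ⟨e, he, w, hw, rfl⟩ := d.compl.2.2.2 m hm
    exact ⟨e * w * e⁻¹, (mem_normalizer_iff.mp
      (Sigma.le_normalizer_sigmaCore M (mem_inf.mp he).2) w).mp hw, e, he, by group⟩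
  obtain ⟨x, hx, c, hc, hce, hconj⟩ := S1496.result (sigmaCore M) e
    (Sigma.le_normalizer_sigmaCore M (mem_inf.mp he).2) (d.coprime_E he) w hw
  refine ⟨e, he, by rwa [mul_inv_cancel_right], ⟨x * y * x⁻¹, mul_mem (mul_mem hx hy) (inv_mem hx),
    fun h => hy1 (conj_eq_one_iff.mp h), ?_⟩, x, hx, c, hc, hce, hconj⟩
  have h1 : Commute (c * e) (x * y * x⁻¹) := by
    rw [← hconj]
    calc x * (w * e) * x⁻¹ * (x * y * x⁻¹) = x * (w * e * y) * x⁻¹ := by group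
      _ = x * (y * (w * e)) * x⁻¹ := by rw [hmy]
      _ = x * y * x⁻¹ * (x * (w * e) * x⁻¹) := by group
  obtain ⟨k, hk0, hk1⟩ := Nat.chineseRemainder (m := orderOf e) (n := Nat.card (sigmaCore M))
    (d.coprime_E he).symm 0 1
  have hpow : (c * e) ^ k = e := by
    rw [(show Commute c e from hce).mul_pow, show c ^ k = 1 from orderOf_dvd_iff_pow_eq_one.1
      ((orderOf_dvd_natCard _ hc).trans (Nat.modEq_zero_iff_dvd.1 hk0)), one_mul]
    conv_rhs => rw [← pow_one e]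
    exact pow_eq_pow_iff_modEq.2 hk1
  have h2 := h1.pow_left k
  rw [hpow] at h2
  exact h2.eq

theorem decomp : ∃ K U, IsSigmaDecomposition M K U ∧ K = ⊥ := by
  obtain ⟨K, U, hKU⟩ := Fcore.exists_decomp d.hG d.hM
  refine ⟨K, U, hKU, Subgroup.card_eq_one.mp (Nat.eq_one_iff_not_exists_prime_dvd.mpr fun r hr hd => ?_)⟩
  have := hKU.hall.2.1 r hr hd
  rw [d.kM] at this
  exact this

theorem fixSet_sub {a : G} (ha : a ∈ fixSet (coreIn M)) :
    a ∈ sigmaHat M ∧ a ≠ 1 ∧ a ∈ M := by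
  obtain ⟨m, hm1, rfl, y, hy, hy1, hmy⟩ := ha
  exact ⟨⟨m.2, y, mem_subgroupOf.1 hy, fun e => hy1 (Subtype.ext e), congrArg Subtype.val hmy⟩,
    fun e => hm1 (Subtype.ext e), m.2⟩

theorem mhyp [Fintype M] [Fintype L] {ψ : Fin 3 → G → ℂ}
    (hgen : ∀ i, Cfsg.IsGeneralizedCharacter G (ψ i))
    (horth : ∀ i j, Cfsg.classInner (ψ i) (ψ j) = if i = j then 1 else 0)
    (hτL : tau2 L = ∅) {R₁ : G → Subgroup G} (hR₁ : R₁ = supportR L) {S : Set G}
    (hS : S = hashSet ((sigmaCore L).subgroupOf L))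
    (hD : Cfsg.DadeHypothesis S L R₁) (f : Fin 3 → Fin 3 → L → ℂ)
    (hf : ∀ i j, Cfsg.IsClassFunction L (f i j))
    (hψ : ∀ i j, ψ i - ψ j = Cfsg.dadeIsometry S L R₁ (f i j)) :
    MHyp M (coreIn M) (supportR M) ψ := by
  classical
  haveI := coreIn_normal M
  subst hR₁ hS
  obtain ⟨K, U, hKU, hK⟩ := d.decomp
  have hA0 : ∀ a ∈ fixSet (coreIn M), a ∈ sigmaA0 M K ∧ a ≠ 1 := fun a ha =>
    ⟨⟨(d.fixSet_sub ha).1, fun ⟨k, hk, hk1, _⟩ => hk1 (by rwa [hK, mem_bot] at hk)⟩, (d.fixSet_sub ha).2.1⟩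
  have hcast : ∀ {a b : M}, ((a * b : M) : G) = a * b := fun {a b} => rfl
  have hsplit : ∀ m : M, (∃ w ∈ coreIn M, w ≠ 1 ∧ m * w = w * m) →
      ∃ e ∈ L ⊓ M, (m : G) * e⁻¹ ∈ sigmaCore M ∧
      (∃ y' ∈ sigmaCore M, y' ≠ 1 ∧ e * y' = y' * e) ∧
      ∃ x ∈ sigmaCore M, ∃ c ∈ sigmaCore M, c * e = e * c ∧ x * m * x⁻¹ = c * e :=
    fun m ⟨w, hw, hw1, hmw⟩ => d.split_fixed m.2 (mem_subgroupOf.1 hw)
      (fun e => hw1 (Subtype.ext e)) (congrArg Subtype.val hmw)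
  refine ⟨(d.hG.1).of_dvd_nat (card_subgroup_dvd_card M), inferInstance, ?_,
    DadeSets.dade d.hG d.hM hKU hA0 ?_, ?_, ?_, hgen, horth, ?_, ?_⟩
  · rw [show Nat.card (coreIn M) = Nat.card (sigmaCore M) from
      Nat.card_congr (subgroupOfEquivOfLe (Sigma.sigmaCore_le M)).toEquiv]
    refine Nat.coprime_of_dvd fun r hr h1 h2 => (Sigma.sigmaCore_hall d.hG d.hM).1.2.2 r hr
      (Transitivity.isPi_piCoreOf (sigma M) M r hr h1) h2
  · rintro m hm a ⟨a', ha1, rfl, y, hy, hy1, hay⟩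
    refine ⟨⟨m, hm⟩ * a' * ⟨m, hm⟩⁻¹, fun e => ha1 (conj_eq_one_iff.mp e), rfl,
      (⟨m, hm⟩ : M) * y * (⟨m, hm⟩ : M)⁻¹, Subgroup.Normal.conj_mem inferInstance y hy _,
      fun e => hy1 (conj_eq_one_iff.mp e), (Commute.conj_iff (⟨m, hm⟩ : M)).2 hay⟩
  · intro m hmW hm
    refine SupportR.supportR_of_le ?_
    by_contra hle
    exact hmW (mem_subgroupOf.2
      ((DadeSets.fusion_centralizer d.hG d.hM hKU (hA0 _ hm).1 (hA0 _ hm).2).2 hle))
  · intro x y hx hy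
    obtain ⟨A₀, hA₀E, hnA₀, hab, hA₀⟩ := (S1421.result d.hG M d.hM (L ⊓ M) d.compl
      fun e he he1 hτ => d.regular he he1 hτ).1
    obtain ⟨e, he, hxe, ⟨x', hx', hx'1, hex⟩, -⟩ := hsplit x hx
    obtain ⟨e', he', hye, ⟨y', hy', hy'1, hey⟩, -⟩ := hsplit y hy
    have h1 : e ∈ A₀ := hA₀ x' hx' hx'1 (mem_inf.2 ⟨he, mem_centralizer_singleton_iff.2 hex⟩)
    have h2 : e' ∈ A₀ := hA₀ y' hy' hy'1 (mem_inf.2 ⟨he', mem_centralizer_singleton_iff.2 hey⟩)
    have hc : e * e' * e⁻¹ * e'⁻¹ = 1 := by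
      haveI := hab
      rw [show e * e' = e' * e from congrArg Subtype.val (mul_comm' (⟨e, h1⟩ : A₀) ⟨e', h2⟩)]
      group
    set eM : M := ⟨e, (mem_inf.1 he).2⟩
    set eM' : M := ⟨e', (mem_inf.1 he').2⟩
    have q1 : QuotientGroup.mk' (coreIn M) x = QuotientGroup.mk' (coreIn M) eM := by
      rw [QuotientGroup.mk'_eq_mk', ]
      refine ⟨x⁻¹ * eM, ?_, by group⟩
      have : (coreIn M).Normal := inferInstance
      exact this.mem_comm (by simpa using inv_mem (show x * eM⁻¹ ∈ coreIn M from mem_subgroupOf.2 hxe))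
    have q2 : QuotientGroup.mk' (coreIn M) y = QuotientGroup.mk' (coreIn M) eM' := by
      rw [QuotientGroup.mk'_eq_mk', ]
      refine ⟨y⁻¹ * eM', ?_, by group⟩
      have : (coreIn M).Normal := inferInstance
      exact this.mem_comm (by simpa using inv_mem (show y * eM'⁻¹ ∈ coreIn M from mem_subgroupOf.2 hye))
    refine (QuotientGroup.eq_one_iff _).1 ?_
    change QuotientGroup.mk' (coreIn M) (x * y * x⁻¹ * y⁻¹) = 1
    rw [map_mul, map_mul, map_mul, _root_.map_inv, _root_.map_inv, q1, q2, ← _root_.map_inv, ← _root_.map_inv, ← map_mul,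
      ← map_mul, ← map_mul, show eM * eM' * eM⁻¹ * eM'⁻¹ = 1 from Subtype.ext hc, map_one]
  · intro i j w hw hw1 r hr
    rw [← sub_eq_zero, ← Pi.sub_apply, hψ i j]
    refine Dade.apply_eq_zero fun a ha x s hs he => ?_
    obtain ⟨h, hh1, rfl⟩ := ha
    have hdisj := SupportR.tilde_disjoint d.hG d.hM d.hL fun g hg => d.sig.hne g⁻¹ (by
      rw [hg, Transfer.Fusion.map_conj_inv_cancel])
    refine Set.eq_empty_iff_forall_notMem.1 hdisj ((w : G) * r)
      ⟨⟨w, ⟨mem_subgroupOf.1 hw, fun e => hw1 (Subtype.ext e)⟩, r, hr, 1, by simp⟩,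
      ⟨((h : L) : G), ⟨mem_subgroupOf.1 h.2, fun e => hh1 (Subtype.ext (Subtype.ext e))⟩, s, hs,
        x⁻¹, ?_⟩⟩
    rw [← he]; group
  · intro i j m m' hmW hm hm' hmm'
    obtain ⟨e, he, hme, ⟨y', hy', hy'1, hey⟩, x, hx, c, hc, hce, hconj⟩ :=
      d.split_fixed m.2 (y := _) (d.fixSet_sub hm).1.2.choose_spec.1
        (d.fixSet_sub hm).1.2.choose_spec.2.1 (d.fixSet_sub hm).1.2.choose_spec.2.2
    obtain ⟨e', he', hme', -, x', hx', c', hc', hce', hconj'⟩ :=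
      d.split_fixed m'.2 (y := _) (d.fixSet_sub hm').1.2.choose_spec.1
        (d.fixSet_sub hm').1.2.choose_spec.2.1 (d.fixSet_sub hm').1.2.choose_spec.2.2
    have hee : e' = e := by
      have h1 : e' * e⁻¹ ∈ sigmaCore M := by
        have hmm : (m' : G) * (m : G)⁻¹ ∈ sigmaCore M := mem_subgroupOf.1 hmm'
        rw [show e' * e⁻¹ = ((m' : G) * e'⁻¹)⁻¹ * ((m' : G) * (m : G)⁻¹) * ((m : G) * e⁻¹) by group]
        exact mul_mem (mul_mem (inv_mem hme') hmm) hme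
      have h2 := d.compl.2.2.1.le (mem_inf.2 ⟨mul_mem he' (inv_mem he), h1⟩)
      rwa [mem_bot, mul_inv_eq_one] at h2
    subst hee
    have he1 : e' ≠ 1 := fun h0 => hmW (mem_subgroupOf.2 (by rwa [h0, inv_one, mul_one] at hme))
    obtain ⟨heσ, hsig⟩ := d.fixed_mem hτL he he1 hy' hy'1 hey
    have hval : ∀ (n : M) (x c : G), c ∈ sigmaCore M → c * e' = e' * c → x * n * x⁻¹ = c * e' →
        ψ i n - ψ j n = f i j ⟨e', (mem_inf.1 he).1⟩ := by
      intro n x c hc hce hconj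
      rw [← Pi.sub_apply, hψ i j]
      refine Dade.apply_eq hD (hf i j) (a := e')
        ⟨⟨⟨e', (mem_inf.1 he).1⟩, mem_subgroupOf.2 heσ⟩, fun e0 => he1 (congrArg (fun z : ↥((sigmaCore L).subgroupOf L) => ((z : L) : G)) e0), rfl⟩
        (u := c) ?_ (x := x) (by rw [hconj]; exact hce)
      rw [hsig.supportR_eq d.hG d.hL]
      exact mem_inf.2 ⟨hc, mem_centralizer_singleton_iff.2 hce⟩
    rw [hval m x c hc hce hconj, hval m' x' c' hc' hce' hconj']

end Pair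

end Cfsg.Agent.OddChar.TypeOne.Gap.Local
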