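import Cfsg.Agent.OddChar.TypeOne.Gap.Local.CaseFrob
import Cfsg.Agent.OddChar.TypeOne.Gap.Local.CaseNil
import Cfsg.Agent.OddChar.TypeOne.Gap.Local.CaseCore

/-!
# A maximal subgroup without `κ`-primes has no `τ₂`-primes
-/

set_option autoImplicit false

namespace Cfsg.Agent.OddChar.TypeOne.Gap

open Cfsg Subgroup
open Cfsg.Agent.OddLocal

theorem kappa_eq_empty {G : Type*} [Group G] [Finite G] {M K U : Subgroup G}
    (hKU : IsSigmaDecomposition M K U) (hK : K = ⊥) : kappa M = ∅ := by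
  by_contra h
  obtain ⟨r, hr⟩ := Set.nonempty_iff_ne_empty.mpr h
  exact hKU.hall.2.2 r hr.1 hr (by rw [hK, relIndex_bot_left]; exact hr.2.1)

theorem tau2_eq_empty {G : Type*} [Group G] [Finite G] (hG : IsMinSimpleOddOrder G) {M : Subgroup G}
    (hM : IsCoatom M) (hκ : kappa M = ∅) : tau2 M = ∅ := by
  classical
  haveI := Fintype.ofFinite G
  by_contra hne
  obtain ⟨p₀, hp₀⟩ := Set.nonempty_iff_ne_empty.mpr hne
  have hex : ∃ p : ℕ, ∃ N : Subgroup G, IsCoatom N ∧ kappa N = ∅ ∧ p ∈ tau2 N :=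
    ⟨p₀, M, hM, hκ, hp₀⟩
  obtain ⟨N, hN, hκN, hpN⟩ := Nat.find_spec hex
  haveI : Fact (Nat.find hex).Prime := ⟨hpN.1⟩
  obtain ⟨L, A, u, d⟩ := Local.exists_pair hG hN hκN hpN
  have hτL : tau2 L = ∅ := d.tau2L_empty fun q hq N' hN' hκN' hqN' =>
    Nat.find_min hex hq ⟨N', hN', hκN', hqN'⟩
  obtain ⟨K, U, hKU⟩ := Fcore.exists_decomp hG d.hL
  rcases eq_or_ne K ⊥ with hK | hK
  · exact d.absurd_frob hτL (kappa_eq_empty hKU hK)
  have hU := (d.K_or_U hKU).resolve_left hK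
  by_cases hnil : Group.IsNilpotent (sigmaCore L)
  · exact d.absurd_nil hτL hKU hK hU hnil
  · exact d.absurd_core hτL hKU hnil

end Cfsg.Agent.OddChar.TypeOne.Gap
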