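import Cfsg.Agent.OddChar.Coherence.FrobeniusKey
import Cfsg.Agent.Lib.CharTheory.Ito

/-!
# Degrees in a nilpotent group with abelian `p'`-part
-/

set_option autoImplicit false
set_option linter.unusedSectionVars false
set_option linter.style.haveILetI false

namespace Cfsg.Agent.OddChar.TypeOne.Gap.Local

open Cfsg.Agent.Characters Cfsg.Agent.OddChar Subgroup

universe v

variable {X : Type v} [Group X] [Finite X] [Group.IsNilpotent X] {p : ℕ} [hp : Fact p.Prime]

omit [Group.IsNilpotent X] in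
theorem le_center {P Q : Subgroup X} (hPn : P.Normal) (hQn : Q.Normal) (hinf : P ⊓ Q = ⊥)
    (hcard : Nat.card P * Nat.card Q = Nat.card X) (hab : IsMulCommutative Q) : Q ≤ center X := by
  intro q hq
  refine mem_center_iff.2 fun x => ?_
  obtain ⟨a, ha, b, hb, rfl⟩ := Coherence.Frobenius.exists_factors hinf hcard x
  have h1 : Commute a q := Subgroup.commute_of_normal_of_disjoint P Q hPn hQn (disjoint_iff.2 hinf) a q ha hq
  have h2 : Commute b q := congrArg Subtype.val (hab.is_comm.comm ⟨b, hb⟩ ⟨q, hq⟩)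
  exact (h1.mul_left h2).eq

/-- The index of the centre is a power of `p`, smaller than the `p`-part. -/
theorem center_index (hQ : ∀ Q : Subgroup X, ¬ p ∣ Nat.card Q → IsMulCommutative Q) (hpX : p ∣ Nat.card X) :
    ∃ j : ℕ, (center X).index = p ^ j ∧ p ^ (j + 1) ∣ Nat.card X := by
  obtain ⟨P, Q, hPn, hQn, hP, hpQ, hinf, hcard⟩ := Coherence.Frobenius.exists_decomposition (K := X) (p := p)
  have hQz := le_center hPn hQn hinf hcard (hQ Q hpQ)
  obtain ⟨n, hn⟩ := hP.exists_card_eq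
  have hQi : Q.index = p ^ n := by
    refine Nat.eq_of_mul_eq_mul_left (Nat.card_pos (α := Q)) ?_
    rw [Q.card_mul_index, ← hcard, hn, mul_comm]
  have hd : (center X).index ∣ p ^ n := hQi ▸ index_dvd_of_le hQz
  obtain ⟨j, hjn, hj⟩ := (Nat.dvd_prime_pow hp.out).1 hd
  refine ⟨j, hj, (pow_dvd_pow p (show j + 1 ≤ n from ?_)).trans (hn ▸ P.card_subgroup_dvd_card)⟩
  by_contra hlt
  have hjn' : j = n := by omega
  have hcard2 : Nat.card (center X) = Nat.card Q := by
    refine Nat.eq_of_mul_eq_mul_right (Nat.pos_of_ne_zero (index_ne_zero_of_finite (H := center X))) ?_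
    rw [(center X).card_mul_index, ← Q.card_mul_index, hQi, hj, hjn']
  have hn0 : n ≠ 0 := fun e => hpQ (by rw [hn, e, pow_zero, one_mul] at hcard; exact hcard ▸ hpX)
  have hP1 : P ≠ ⊥ := fun e => by
    rw [e, card_bot] at hn
    exact hn0 ((Nat.pow_eq_one.1 hn.symm).resolve_left hp.out.ne_one)
  have hne := OddLocal.Coprime.inf_center_ne_bot hPn hP1
  refine hne (le_bot_iff.1 ?_)
  rw [← Subgroup.eq_of_le_of_card_ge hQz hcard2.le, hinf]

/-- Degrees are powers of `p` with square dividing the order, and smaller than the `p`-part. -/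
theorem degree_pow (hQ : ∀ Q : Subgroup X, ¬ p ∣ Nat.card Q → IsMulCommutative Q) (hpX : p ∣ Nat.card X)
    {χ : X → ℂ} (hχ : Cfsg.IsIrrCharacter X χ) :
    ∃ a : ℕ, χ 1 = ((p ^ a : ℕ) : ℂ) ∧ p ^ (2 * a + 1) ∣ Nat.card X := by
  obtain ⟨j, hj, hdvd⟩ := center_index hQ hpX
  obtain ⟨d, hd, hdd⟩ := CharTheory.Ito.degree_dvd_index_abelian (center X)
    (fun a ha b _ => (mem_center_iff.1 ha b).symm) hχ
  rw [hj] at hdd
  obtain ⟨a, -, rfl⟩ := (Nat.dvd_prime_pow hp.out).1 hdd
  refine ⟨a, hd, (pow_dvd_pow p (Nat.succ_le_succ ?_)).trans hdvd⟩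
  have h1 := CN.degree_sq_le_center_index hχ hd
  rw [hj, ← pow_mul, mul_comm] at h1
  exact (Nat.pow_le_pow_iff_right hp.out.one_lt).1 h1

/-- With `p`-part of order `p ^ 3` the derived subgroup is central of order dividing `p`. -/
theorem commutator_cube (hQ : ∀ Q : Subgroup X, ¬ p ∣ Nat.card Q → IsMulCommutative Q)
    (h3 : p ^ 3 ∣ Nat.card X) (h4 : ¬ p ^ 4 ∣ Nat.card X) (hnab : ¬ IsMulCommutative X) :
    commutator X ≤ center X ∧ Nat.card (commutator X) ∣ p := by
  have hpX : p ∣ Nat.card X := (dvd_pow_self p (by norm_num)).trans h3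
  obtain ⟨j, hj, hdvd⟩ := center_index hQ hpX
  have hj2 : j ≤ 2 := by
    by_contra h
    exact h4 ((pow_dvd_pow p (show 4 ≤ j + 1 by omega)).trans hdvd)
  have hcyc : ¬ IsCyclic (X ⧸ center X) := fun _ => hnab ⟨⟨fun a b =>
    commutative_of_cyclic_center_quotient (QuotientGroup.mk' (center X)) (by simp) a b⟩⟩
  have hj' : j = 2 := by
    by_contra hne
    refine hcyc ?_
    rcases (show j = 0 ∨ j = 1 by omega) with rfl | rfl
    · haveI : Subsingleton (X ⧸ center X) := (Nat.card_eq_one_iff_unique.1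
        (by rw [← index_eq_card, hj, pow_zero])).1
      infer_instance
    · exact isCyclic_of_prime_card (p := p) (by rw [← index_eq_card, hj, pow_one])
  subst hj'
  have hle : commutator X ≤ center X :=
    Subgroup.Normal.quotient_commutative_iff_commutator_le.1
      ⟨⟨IsPGroup.commutative_of_card_eq_prime_sq (p := p) (by rw [← index_eq_card, hj])⟩⟩
  obtain ⟨P, Q, hPn, hQn, hP, hpQ, hinf, hcard⟩ := Coherence.Frobenius.exists_decomposition (K := X) (p := p)
  obtain ⟨n, hn⟩ := hP.exists_card_eq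
  have hn3 : n = 3 := by
    have hcop : Nat.Coprime (p ^ 3) (Nat.card Q) :=
      Nat.Coprime.pow_left _ (hp.out.coprime_iff_not_dvd.2 hpQ)
    have h1 : p ^ 3 ∣ p ^ n := hn ▸ hcop.dvd_of_dvd_mul_right (hcard ▸ h3)
    have h2 := (Nat.pow_dvd_pow_iff_le_right hp.out.one_lt).1 h1
    by_contra hne
    exact h4 ((pow_dvd_pow p (show 4 ≤ n by omega)).trans (hn ▸ P.card_subgroup_dvd_card))
  refine ⟨hle, ?_⟩
  have hcz : Nat.card (center X) = p * Nat.card Q := by
    refine Nat.eq_of_mul_eq_mul_right (Nat.pos_of_ne_zero (index_ne_zero_of_finite (H := center X))) ?_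
    rw [(center X).card_mul_index, ← hcard, hn, hn3, hj]; ring
  have hP' : commutator X ≤ P := by
    refine Subgroup.Normal.quotient_commutative_iff_commutator_le.1 ⟨⟨fun a b => ?_⟩⟩
    induction a using QuotientGroup.induction_on with | H a =>
    induction b using QuotientGroup.induction_on with | H b =>
    rw [← QuotientGroup.mk_mul, ← QuotientGroup.mk_mul]
    obtain ⟨a₁, ha₁, a₂, ha₂, rfl⟩ := Coherence.Frobenius.exists_factors hinf hcard a
    obtain ⟨b₁, hb₁, b₂, hb₂, rfl⟩ := Coherence.Frobenius.exists_factors hinf hcard b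
    have hmod : ∀ c₁ ∈ P, ∀ c₂ : X, ((c₁ * c₂ : X) : X ⧸ P) = (c₂ : X ⧸ P) := fun c₁ hc₁ c₂ => by
      rw [QuotientGroup.mk_mul, (QuotientGroup.eq_one_iff c₁).2 hc₁, one_mul]
    rw [QuotientGroup.mk_mul (N := P) (a₁ * a₂) (b₁ * b₂), QuotientGroup.mk_mul (N := P) (b₁ * b₂) (a₁ * a₂),
      hmod a₁ ha₁, hmod b₁ hb₁, ← QuotientGroup.mk_mul, ← QuotientGroup.mk_mul]
    exact congrArg _ (congrArg Subtype.val ((hQ Q hpQ).is_comm.comm ⟨a₂, ha₂⟩ ⟨b₂, hb₂⟩))
  have h1 : Nat.card (commutator X) ∣ p ^ 3 := hn3 ▸ hn ▸ card_dvd_of_le hP'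
  have h2 : Nat.card (commutator X) ∣ p * Nat.card Q := hcz ▸ card_dvd_of_le hle
  refine Nat.Coprime.dvd_of_dvd_mul_right ?_ h2
  exact (Nat.Coprime.pow_left _ (hp.out.coprime_iff_not_dvd.2 hpQ)).coprime_dvd_left h1

end Cfsg.Agent.OddChar.TypeOne.Gap.Local
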