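import Cfsg.Agent.OddChar.TypeOne.Gap.Local.NilSetup
import Cfsg.Agent.OddChar.TypeOne.Gap.Local.Family
import Cfsg.Agent.S1513

/-!
# `L` with nilpotent core and a cyclic complement: the free characters
-/

set_option autoImplicit false
set_option linter.unusedSectionVars false
set_option linter.style.haveILetI false

namespace Cfsg.Agent.OddChar.TypeOne.Gap.Local

open Cfsg Subgroup
open Cfsg.Agent.OddLocal Cfsg.Agent.Characters Cfsg.Agent.OddChar

variable {G : Type*} [Group G] [Fintype G] {L A K : Subgroup G} {p : ℕ} [hp : Fact p.Prime]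

/-- A character of `L_σ` fixed by every element of `K`. -/
def KFixed (L K : Subgroup G) (θ : ↥(coreIn L) → ℂ) : Prop :=
  ∀ x ∈ K.subgroupOf L, (fun k : coreIn L => θ ⟨x * k * x⁻¹, (coreIn_normal L).conj_mem (k : L) k.2 x⟩) = θ

namespace NilData

variable (n : NilData p L A K)
include n

theorem K_le : K ≤ L := n.compl.1

theorem card_core : Nat.card ↥(coreIn L) = Nat.card (sigmaCore L) :=
  Nat.card_congr (subgroupOfEquivOfLe (Sigma.sigmaCore_le L)).toEquiv

theorem index_eq : (coreIn L).index = Nat.card K := by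
  have h1 := (coreIn L).card_mul_index
  rw [n.card_core, ← Compl.card_mul n.compl, mul_comm (Nat.card K)] at h1
  exact Nat.eq_of_mul_eq_mul_left Nat.card_pos h1

theorem coprime (hG : IsMinSimpleOddOrder G) (hL : IsCoatom L) :
    Nat.Coprime (Nat.card K) (Nat.card (sigmaCore L)) := SigmaMeet.coprime_card hG hL n.compl

theorem nilX : Group.IsNilpotent ↥(coreIn L) := Cores.isNilpotent_subgroupOf n.nil L

theorem dvd_card : p ∣ Nat.card ↥(coreIn L) := by
  rw [n.card_core, ← n.card_star]
  exact card_dvd_of_le inf_le_left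

/-- A fixed linear character is principal. -/
theorem fixed_linear (hG : IsMinSimpleOddOrder G) (hL : IsCoatom L) {θ : ↥(coreIn L) → ℂ}
    (hθ : Cfsg.IsIrrCharacter ↥(coreIn L) θ) (h1 : θ 1 = 1) (hfix : KFixed L K θ) : θ = fun _ => 1 := by
  haveI := coreIn_normal L
  set μ := linearOfDegreeOne (isCharacter_of_isIrr hθ) h1 with hμ
  have hμθ : ∀ g, (μ g : ℂ) = θ g := fun g => linearOfDegreeOne_apply (isCharacter_of_isIrr hθ) h1 g
  obtain ⟨k, hk, hk1⟩ := (bot_or_exists_ne_one K).resolve_left n.ne_bot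
  set kL : L := ⟨k, n.K_le hk⟩
  set r := orderOf kL with hr
  let σ : MulAut (coreIn L) := MulAut.conjNormal kL
  have hσ : ∀ x : (coreIn L), ((σ x : (coreIn L)) : L) = kL * x * kL⁻¹ := fun x => MulAut.conjNormal_apply kL x
  have hμσ : ∀ x : (coreIn L), μ (σ x) = μ x := fun x => Units.ext (by
    rw [hμθ, hμθ]
    have := congrFun (hfix kL (mem_subgroupOf.2 hk)) x
    refine Eq.trans (congrArg θ (Subtype.ext (hσ x))) this)
  have hker : ∀ x : (coreIn L), x ∈ commutator (coreIn L) → μ x = 1 := fun x hx =>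
    MonoidHom.mem_ker.1 (Abelianization.commutator_subset_ker μ hx)
  set D := commutator (coreIn L) with hD
  funext h
  -- the norm of `h`
  let f : (coreIn L) →* (coreIn L) ⧸ D := QuotientGroup.mk' D
  letI : CommGroup ((coreIn L) ⧸ D) := Abelianization.commGroup (coreIn L)
  set N : (coreIn L) := ((List.range r).map fun i => (σ ^ i) h).prod with hN
  have hfN : f (σ N) = f N := by
    have h2 : ∀ m : ℕ, f ((List.range m).map fun i => (σ ^ i) h).prod =
        ∏ i ∈ Finset.range m, f ((σ ^ i) h) := fun m => by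
      induction m with
      | zero => simp
      | succ m ih => rw [List.range_succ, List.map_append, List.prod_append, _root_.map_mul, ih,
          Finset.prod_range_succ]; simp
    have h3 : σ N = ((List.range r).map fun i => (σ ^ (i + 1)) h).prod := by
      rw [hN, map_list_prod, List.map_map]
      congr 1
      refine List.map_congr_left fun i _ => ?_
      simp [pow_succ', MulAut.mul_apply]
    have h4 : ∀ m : ℕ, f ((List.range m).map fun i => (σ ^ (i + 1)) h).prod =
        ∏ i ∈ Finset.range m, f ((σ ^ (i + 1)) h) := fun m => by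
      induction m with
      | zero => simp
      | succ m ih => rw [List.range_succ, List.map_append, List.prod_append, _root_.map_mul, ih,
          Finset.prod_range_succ]; simp
    rw [h3, h4, hN, h2]
    have e1 := Finset.prod_range_succ (fun i => f ((σ ^ i) h)) r
    rw [Finset.prod_range_succ', show (σ ^ r) h = (σ ^ 0) h by
      rw [hr, ← map_pow, pow_orderOf_eq_one, map_one, pow_zero]] at e1
    exact mul_right_cancel e1
  have hNfix : N ∈ D := by
    have hc : (σ N)⁻¹ * N ∈ D := QuotientGroup.eq.1 hfN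
    set D' : Subgroup L := D.map (coreIn L).subtype with hD'
    have hDn : kL ∈ normalizer (D' : Set L) := by
      refine Transfer.Fusion.map_conj_eq_self_iff.1 ?_
      rw [hD', map_map]
      have hch : D.map σ.toMonoidHom = D := Subgroup.characteristic_iff_map_eq.1 inferInstance _
      conv_rhs => rw [← hch, map_map]
      congr 1
    have hcop : Nat.Coprime (orderOf kL) (Nat.card D') := by
      refine ((n.coprime hG hL).coprime_dvd_left ?_).coprime_dvd_right ?_
      · rw [← Subgroup.orderOf_coe]; exact orderOf_dvd_natCard _ hk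
      · rw [hD', card_map_of_injective (coreIn L).subtype_injective, ← n.card_core]
        exact D.card_subgroup_dvd_card
    have hmem : (N : L) * kL * (N : L)⁻¹ * kL⁻¹ ∈ D' := by
      have hc' : N * (σ N)⁻¹ ∈ D := (inferInstance : D.Normal).mem_comm hc
      have e : (N : L) * kL * (N : L)⁻¹ * kL⁻¹ = ((N * (σ N)⁻¹ : (coreIn L)) : L) := by
        push_cast
        rw [hσ]; group
      rw [e]; exact mem_map_of_mem _ hc'
    obtain ⟨x, hx, c, hc, hck, hconj⟩ := S1496.result D' kL hDn hcop _ hmem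
    rw [show (N : L) * kL * (N : L)⁻¹ * kL⁻¹ * kL = (N : L) * kL * (N : L)⁻¹ by group] at hconj
    obtain ⟨y, hy, rfl⟩ := hx
    obtain ⟨z, hz, rfl⟩ := hc
    set g : (coreIn L) := y * N with hg
    have hconj' : (g : L) * kL * (g : L)⁻¹ = (z : L) * kL := by
      rw [← Subgroup.coe_subtype, ← hconj, hg]; push_cast [Subgroup.coe_subtype]; group
    have hz1 : (z : L) = 1 := by
      have h5 : orderOf ((z : L) * kL) = orderOf kL := by
        rw [← hconj']; exact TypeTwo.orderOf_conj _ _
      have h6 : ((z : L) * kL) ^ r = 1 := by rw [hr, ← h5]; exact pow_orderOf_eq_one _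
      rw [(show Commute (z : L) kL from hck).mul_pow, hr, pow_orderOf_eq_one, mul_one] at h6
      refine orderOf_eq_one_iff.1 (Nat.eq_one_of_dvd_coprimes hcop (orderOf_dvd_of_pow_eq_one h6)
        (orderOf_dvd_natCard D' (mem_map_of_mem _ hz)))
    rw [hz1, one_mul, mul_inv_eq_iff_eq_mul] at hconj'
    have hgS : ((g : L) : G) ∈ PType.star L K := by
      rw [← n.fixed k hk hk1]
      exact mem_inf.2 ⟨mem_subgroupOf.1 g.2, mem_centralizer_singleton_iff.2 (congrArg Subtype.val hconj')⟩
    have hgD : g ∈ D := by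
      have h7 := n.star_le hgS
      have h8 : (D.map (coreIn L).subtype).map L.subtype = ⁅sigmaCore L, sigmaCore L⁆ := by
        rw [hD, _root_.commutator_def, map_commutator, map_commutator, ← MonoidHom.range_eq_map,
          range_subtype, subgroupOf_map_subtype, inf_eq_left.2 (Sigma.sigmaCore_le L)]
      rw [← h8] at h7
      obtain ⟨_, ⟨w, hw, rfl⟩, e⟩ := h7
      rwa [show g = w from (Subtype.ext (Subtype.ext e)).symm]
    rw [hg] at hgD
    exact (mul_mem_cancel_left hy).1 hgD
  have hμN : μ N = μ h ^ r := by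
    have hpow : ∀ i : ℕ, μ ((σ ^ i) h) = μ h := fun i => by
      induction i with
      | zero => simp
      | succ i ih => rw [pow_succ', MulAut.mul_apply, hμσ, ih]
    rw [hN, map_list_prod, List.map_map, List.prod_eq_pow_card _ (μ h) (by
      intro x hx
      obtain ⟨i, -, rfl⟩ := List.mem_map.1 hx
      exact hpow i)]
    simp
  have h1' : μ h ^ r = 1 := by rw [← hμN]; exact hker N hNfix
  have h2' : μ h ^ Nat.card (coreIn L) = 1 := by rw [← map_pow, pow_card_eq_one', map_one]
  have hcopr : Nat.Coprime r (Nat.card (coreIn L)) := by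
    refine ((n.coprime hG hL).coprime_dvd_left ?_).coprime_dvd_right (n.card_core).dvd
    rw [hr, ← Subgroup.orderOf_coe]; exact orderOf_dvd_natCard _ hk
  have := pow_gcd_eq_one.2 ⟨h1', h2'⟩
  rw [hcopr.gcd_eq_one, pow_one] at this
  rw [← hμθ, this, Units.val_one]

/-- The free characters induce irreducibly; there are at most `p` others. -/
theorem free (hG : IsMinSimpleOddOrder G) (hL : IsCoatom L) [Fintype L] :
    (∀ θ : ↥(coreIn L) → ℂ, Cfsg.IsIrrCharacter ↥(coreIn L) θ → ¬ KFixed L K θ →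
      Cfsg.IsIrrCharacter L (Cfsg.indFun (coreIn L) θ)) ∧
    Nat.card {θ : Cfsg.IrrCharacter ↥(coreIn L) // KFixed L K θ} = p ∧
    (∀ θ : ↥(coreIn L) → ℂ, Cfsg.IsIrrCharacter ↥(coreIn L) θ → KFixed L K θ →
      ¬ Cfsg.IsIrrCharacter L (Cfsg.indFun (coreIn L) θ)) := by
  classical
  haveI := coreIn_normal L
  set W₁ := K.subgroupOf L with hW₁
  set W₂ := (PType.star L K).subgroupOf L with hW₂
  have hSL : PType.star L K ≤ L := inf_le_left.trans (Sigma.sigmaCore_le L)
  have hK1 : W₁ ≠ ⊥ := fun e => n.ne_bot (by rw [← map_subgroupOf_eq_of_le n.K_le, show K.subgroupOf L = ⊥ from e, Subgroup.map_bot])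
  have hinf : coreIn L ⊓ W₁ = ⊥ := eq_bot_iff.2 fun x hx => by
    have h := n.compl.2.2.1.le (mem_inf.2 ⟨mem_subgroupOf.1 (mem_inf.1 hx).2, mem_subgroupOf.1 (mem_inf.1 hx).1⟩)
    exact mem_bot.2 (Subtype.ext (mem_bot.1 h))
  have hsup : coreIn L ⊔ W₁ = ⊤ := eq_top_iff.2 fun x _ => by
    obtain ⟨k, hk, h, hh, e⟩ := n.compl.2.2.2 x x.2
    rw [show x = (⟨k, n.K_le hk⟩ : L) * ⟨h, Sigma.sigmaCore_le L hh⟩ from Subtype.ext e]
    exact mul_mem (mem_sup_right (mem_subgroupOf.2 hk)) (mem_sup_left (mem_subgroupOf.2 hh))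
  have hcyc : IsCyclic W₁ := by
    haveI := n.cyclic
    exact isCyclic_of_injective (subgroupOfEquivOfLe n.K_le).toMonoidHom
      (subgroupOfEquivOfLe n.K_le).injective
  have hcardW₁ : Nat.card W₁ = Nat.card K := Nat.card_congr (subgroupOfEquivOfLe n.K_le).toEquiv
  have hHall : Nat.Coprime (Nat.card W₁) W₁.index := by
    have h1 := W₁.card_mul_index
    rw [hcardW₁, ← Compl.card_mul n.compl] at h1
    rw [hcardW₁, Nat.eq_of_mul_eq_mul_left Nat.card_pos h1]
    exact n.coprime hG hL
  have hcardW₂ : Nat.card W₂ = p := by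
    rw [hW₂, Nat.card_congr (subgroupOfEquivOfLe hSL).toEquiv, n.card_star]
  haveI hW₂c : IsCyclic W₂ := isCyclic_of_prime_card (p := p) hcardW₂
  have hW₂ne : W₂ ≠ ⊥ := fun e => hp.out.ne_one (by rw [← hcardW₂, e, card_bot])
  have hW₂le : W₂ ≤ coreIn L := fun x hx => mem_subgroupOf.2 (mem_inf.1 (mem_subgroupOf.1 hx)).1
  have hC : ∀ x ∈ W₁, x ≠ 1 → coreIn L ⊓ centralizer ({x} : Set L) = W₂ := fun x hx hx1 => by
    ext y
    rw [hW₂, mem_subgroupOf, ← n.fixed x (mem_subgroupOf.1 hx) (fun e => hx1 (Subtype.ext e)), mem_inf,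
      mem_inf, mem_subgroupOf, mem_centralizer_singleton_iff, mem_centralizer_singleton_iff]
    exact and_congr_right fun _ => ⟨fun e => congrArg Subtype.val e, fun e => Subtype.ext e⟩
  have hodd : Odd (Nat.card ↥(W₁ ⊔ W₂)) := ((hG.1).of_dvd_nat (card_subgroup_dvd_card L)).of_dvd_nat
    (card_subgroup_dvd_card _)
  obtain ⟨h1, h2, h3⟩ := S1513.result (coreIn L) W₁ W₂ hinf hsup hK1 hcyc hHall hW₂ne hW₂c hW₂le hC hodd
  refine ⟨fun θ hθ hf => h1 θ hθ ?_, (h2.trans hcardW₂), fun θ hθ hf hI => ?_⟩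
  · simp only [KFixed] at hf
    push Not at hf
    exact hf
  · obtain ⟨C, hC1, hC2, hC3⟩ := h3 θ hθ hf
    have h4 := classInner_isIrr_self hI
    rw [hC3, classInner_sum_left] at h4
    simp only [classInner_sum_right] at h4
    rw [Finset.sum_congr rfl fun μ hμ => Finset.sum_eq_single_of_mem (f := fun ν => Cfsg.classInner μ ν) μ hμ
      fun ν hν hne => classInner_isIrr_ne (hC2 μ hμ) (hC2 ν hν) (Ne.symm hne),
      Finset.sum_congr rfl fun μ hμ => classInner_isIrr_self (hC2 μ hμ), Finset.sum_const, nsmul_one,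
      hC1, hcardW₁] at h4
    have h5 : Nat.card K = 1 := by exact_mod_cast h4
    exact n.ne_bot (card_eq_one.1 h5)

end NilData

end Cfsg.Agent.OddChar.TypeOne.Gap.Local
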