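import Cfsg.Agent.OddChar.TypeOne.Gap.Local.Arith
import Cfsg.Agent.OddChar.TypeOne.Gap.Local.NilChar

/-!
# `L` with nilpotent core and a cyclic complement: the structure
-/

set_option autoImplicit false
set_option linter.unusedSectionVars false
set_option linter.style.haveILetI false

namespace Cfsg.Agent.OddChar.TypeOne.Gap.Local

open Cfsg Subgroup
open Cfsg.Agent.OddLocal Cfsg.Agent.OddLocal.Signalizer Cfsg.Agent.OddLocal.SigmaParts

variable {G : Type*} [Group G] [Fintype G] {M L A K : Subgroup G} {p : ℕ} [hp : Fact p.Prime] {u : G}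

/-- The structure of `L` with nilpotent core and cyclic complement `K`. -/
structure NilData (p : ℕ) (L A K : Subgroup G) : Prop where
  cyclic : IsCyclic K
  compl : IsComplIn K (sigmaCore L) L
  ne_bot : K ≠ ⊥
  fixed : ∀ k ∈ K, k ≠ 1 → sigmaCore L ⊓ centralizer ({k} : Set G) = PType.star L K
  card_star : Nat.card (PType.star L K) = p
  star_le : PType.star L K ≤ ⁅sigmaCore L, sigmaCore L⁆
  nil : Group.IsNilpotent (sigmaCore L)
  hQ : ∀ Q : Subgroup ↥(coreIn L), ¬ p ∣ Nat.card Q → IsMulCommutative Q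
  nab : ¬ IsMulCommutative ↥(coreIn L)
  not_le : ∃ P : Sylow p G, A ≤ (P : Subgroup G) ∧ (P : Subgroup G) ≤ sigmaCore L ∧
    ¬ IsMulCommutative (P : Subgroup G)
  index : (coreIn L).index ∣ p - 1 ∨
    ((coreIn L).index ∣ p + 1 ∧ p ^ 3 ∣ Nat.card ↥(coreIn L) ∧ ¬ p ^ 4 ∣ Nat.card ↥(coreIn L))

theorem Pair.nil_setup {M L A K U : Subgroup G} {u : G} (d : Pair p M L A u)
    (hKU : IsSigmaDecomposition L K U) (hK : K ≠ ⊥) (hU : U = ⊥)
    (hnil : Group.IsNilpotent (sigmaCore L)) : NilData p L A K := by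
  haveI := coreIn_normal L
  have hup : (orderOf u).Prime := by rw [d.orderOf_u]; exact hp.out
  have hnot := d.sig.not_le d.hL
  obtain ⟨N, P, c⟩ := NonTI.exists_nbr d.hG d.hL hnil d.u_mem hup hnot
  have hd := KappaDecomp.data_of d.hG d.hL hKU hK
  have hE : IsComplIn K (sigmaCore L) L := by
    have := KappaDecomp.isCompl hKU
    rwa [hU, bot_sup_eq] at this
  have hS1 := PType.star_ne_bot d.hG d.hL hKU.hall hK
  have hSle : PType.star L K ≤ ⁅sigmaCore L, sigmaCore L⁆ :=
    PType.star_le_commutator_core d.hG d.hL hKU hU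
  rw [d.orderOf_u] at c
  obtain ⟨S, hS⟩ := c.sylow
  have hncx : ¬ ∀ a ∈ P, Commute a u := fun h => by
    have hc := c.core_comm h
    refine hS1 (le_bot_iff.mp (hSle.trans (commutator_le.mpr fun a ha b hb => mem_bot.mpr ?_)))
    exact commutatorElement_eq_one_iff_mul_comm.mpr
      (congrArg Subtype.val (hc.is_comm.comm ⟨a, ha⟩ ⟨b, hb⟩))
  have hnab : ¬ IsMulCommutative P := fun h =>
    hncx fun a ha => congrArg Subtype.val (h.is_comm.comm ⟨a, ha⟩ ⟨u, c.x_mem⟩)
  have hSP : PType.star L K ≤ P := hSle.trans (c.commutator_le_P hnab)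
  have hSc : Nat.card (PType.star L K) = p := by
    obtain ⟨T, h⟩ := PType.exists_pair d.hG d.hL hKU.hall hK
    have hq : (Nat.card (PType.star L K)).Prime :=
      (h.p2.resolve_left fun h1 => (PType.notP1_iff d.hG d.hL hKU).mp h1.1 hU).2
    obtain ⟨n, hn⟩ := (c.pgroup.to_le hSP).exists_card_eq
    rw [hn] at hq ⊢
    rw [Nat.Prime.eq_one_of_pow hq, pow_one]
  have hAP : A ≤ P := c.mem_P d.AL d.ctx.hA.isPGroup
  have hSP' : A ≤ (S : Subgroup G) ∧ (S : Subgroup G) ≤ sigmaCore L ∧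
      ¬ IsMulCommutative (S : Subgroup G) := hS.symm ▸ ⟨hAP, c.hPσ, hnab⟩
  obtain ⟨D, hDσ, hDc, hmax⟩ := c.exists_cyclic hnab
  have hHcard : Nat.card ↥(coreIn L) = Nat.card (sigmaCore L) :=
    Nat.card_congr (subgroupOfEquivOfLe (Sigma.sigmaCore_le L)).toEquiv
  have hPcard : Nat.card P = p ^ (Nat.card G).factorization p := hS ▸ S.card_eq_multiplicity
  refine ⟨hKU.cyclic, hE, hK, fun k hk hk1 => hd.fixed k hk hk1, hSc, hSle, hnil, fun Q hQ => ?_,
    fun h => hnab ⟨⟨fun a b => ?_⟩⟩, ⟨S, hSP'⟩, ?_⟩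
  · set Q' := Q.map (L.subtype.comp (coreIn L).subtype)
    have hQ' : Q' ≤ D := hmax _ (fun x hx => by
        obtain ⟨q, -, rfl⟩ := hx
        exact mem_subgroupOf.1 q.2)
      (by rw [card_map_of_injective (show Function.Injective (L.subtype.comp (coreIn L).subtype) from L.subtype_injective.comp (coreIn L).subtype_injective)]; exact hQ)
    refine ⟨⟨fun a b => ?_⟩⟩
    let := IsCyclic.commGroup (α := D)
    have e := congrArg Subtype.val
      (mul_comm (⟨((a : coreIn L) : L), hQ' ⟨a, a.2, rfl⟩⟩ : D) ⟨((b : coreIn L) : L), hQ' ⟨b, b.2, rfl⟩⟩)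
    exact Subtype.ext (Subtype.ext (Subtype.ext e))
  · have := congrArg (fun z : coreIn L => ((z : L) : G)) (h.is_comm.comm
      ⟨⟨a, Sigma.sigmaCore_le L (c.hPσ a.2)⟩, mem_subgroupOf.2 (c.hPσ a.2)⟩
      ⟨⟨b, Sigma.sigmaCore_le L (c.hPσ b.2)⟩, mem_subgroupOf.2 (c.hPσ b.2)⟩)
    exact Subtype.ext this
  · have hindex : (coreIn L).index = Nat.card K := by
      have h1 := (coreIn L).card_mul_index
      rw [hHcard, ← Compl.card_mul hE, mul_comm (Nat.card K)] at h1
      exact Nat.eq_of_mul_eq_mul_left Nat.card_pos h1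
    obtain ⟨r, hr, hrd, hcyc, halt⟩ := NonTI.alternatives d.hG d.hL hKU hK hU hnil d.u_mem hup hnot
    have hrp : r = p := by
      by_contra hne
      have := Fact.mk hr
      haveI : (P.subgroupOf (sigmaCore L)).Normal :=
        (normal_subgroupOf_iff_le_normalizer c.hPσ).2 ((Sigma.sigmaCore_le L).trans c.normal)
      have hle : (P.subgroupOf (sigmaCore L)) ≤ pPrimeCore r (sigmaCore L) := by
        refine PLocal.Cores.le_pPrimeCore ?_
        rw [Nat.card_congr (subgroupOfEquivOfLe c.hPσ).toEquiv, hPcard]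
        exact Nat.Coprime.pow_left _ ((Nat.coprime_primes hp.out hr).2 fun e => hne e.symm)
      haveI := hcyc
      haveI := isCyclic_of_injective (Subgroup.inclusion hle) (inclusion_injective _)
      haveI : IsCyclic P := isCyclic_of_surjective _ (subgroupOfEquivOfLe c.hPσ).surjective
      let := IsCyclic.commGroup (α := P)
      exact hnab ⟨⟨fun a b => mul_comm a b⟩⟩
    subst hrp
    rw [hindex]
    refine halt.imp id fun ⟨h3, he⟩ => ⟨he, ?_, fun h4 => ?_⟩
    · rw [hHcard, ← h3]; exact card_subgroup_dvd_card _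
    · haveI : (P.subgroupOf (sigmaCore L)).Normal :=
        (normal_subgroupOf_iff_le_normalizer c.hPσ).2 ((Sigma.sigmaCore_le L).trans c.normal)
      have hle : (P.subgroupOf (sigmaCore L)) ≤ pCore r (sigmaCore L) :=
        PLocal.Cores.le_pCore (c.pgroup.comap_subtype)
      have h1 := (card_dvd_of_le hle)
      rw [Nat.card_congr (subgroupOfEquivOfLe c.hPσ).toEquiv, hPcard, h3] at h1
      have h2 : r ^ 4 ∣ Nat.card G := (hHcard ▸ h4).trans (card_subgroup_dvd_card _)
      have h5 := (Nat.pow_dvd_pow_iff_le_right hr.one_lt).1 h1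
      have h6 := (hr.pow_dvd_iff_le_factorization Nat.card_pos.ne').1 h2
      omega

end Cfsg.Agent.OddChar.TypeOne.Gap.Local
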