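import Cfsg.Agent.OddLocal.Signalizer
import Cfsg.Agent.OddLocal.DadeSets
import Cfsg.Agent.OddLocal.SigDisjoint
import Cfsg.Agent.OddLocal.LineAut
import Cfsg.Agent.OddLocal.KappaFixed
import Cfsg.Agent.OddLocal.FittingTI
import Cfsg.Agent.S1372
import Cfsg.Agent.S1421
import Cfsg.Agent.S1432

/-!
# A maximal subgroup without `κ`-primes against the maximal subgroup at one of its `τ₂`-primes
-/

set_option autoImplicit false
set_option linter.unusedSectionVars false
set_option linter.style.haveILetI false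

namespace Cfsg.Agent.OddChar.TypeOne.Gap.Local

open Cfsg Subgroup
open Cfsg.Agent.OddLocal Cfsg.Agent.OddLocal.Signalizer Cfsg.Agent.OddLocal.SigmaParts

variable {G : Type*} [Group G] [Finite G] {M L A : Subgroup G} {p : ℕ} [hp : Fact p.Prime] {u : G}

/-- The data attached to a `τ₂`-prime of a maximal subgroup with no `κ`-primes. -/
structure Pair (p : ℕ) [Fact p.Prime] (M L A : Subgroup G) (u : G) : Prop where
  ctx : TauTwo.Ctx p A M
  kM : kappa M = ∅
  hu : u ∈ A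
  hu1 : u ≠ 1
  uW : ¬ sigmaCore M ⊓ centralizer ({u} : Set G) ≤ ⁅sigmaCore M, sigmaCore M⁆
  hL : IsCoatom L
  AL : A ≤ sigmaCore L
  sig : Sig L M u

theorem exists_pair (hG : IsMinSimpleOddOrder G) (hM : IsCoatom M) (hκ : kappa M = ∅)
    (hτ : p ∈ tau2 M) : ∃ (L A : Subgroup G) (u : G), Pair p M L A u := by
  obtain ⟨A, hAM, hAe, hAc⟩ := Unique.exists_elementary_of_not_pRankLE hτ.2.2.2
  have h := TauTwo.Ctx.mk' hG hM hτ hAM hAe hAc
  have hW : ¬ sigmaCore M ≤ ⁅sigmaCore M, sigmaCore M⁆ := (Coprime.commutator_lt_of_isSolvable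
    (Transitivity.isSolvable_of_ne_top hG fun e => hM.1 (top_le_iff.mp (e ▸ Sigma.sigmaCore_le M)))
    (Sigma.sigmaCore_ne_bot hG hM)).not_ge
  obtain ⟨u, hu, hu1, huW⟩ := h.hA.exists_fixed (hAM.trans (Sigma.le_normalizer_sigmaCore M))
    h.coprime hW
  obtain ⟨y, hy, hyW⟩ := SetLike.not_le_iff_exists.mp huW
  obtain ⟨hyσ, hyu⟩ := mem_inf.mp hy
  have hy1 : y ≠ 1 := fun e => hyW (e ▸ one_mem _)
  have huo : orderOf u = p := Components.Hyperplane.orderOf_eq hAe hu hu1
  have hpu : ∀ r : ℕ, r.Prime → r ∣ orderOf u → r = p := fun r hr hd =>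
    (Nat.prime_dvd_prime_iff_eq hr hp.out).mp (huo ▸ hd)
  rcases S1432.result hG M hM y hyσ hy1 u (mem_inf.mpr ⟨hAM hu, mem_centralizer_singleton_iff.mpr
    (mem_centralizer_singleton_iff.mp hyu).symm⟩) hu1 (fun r hr hd => hpu r hr hd ▸ h.hσ) with
    ⟨hk, -⟩ | ⟨-, ⟨L₀, hL₀, hσ⟩, hCM, huniq⟩
  · have := hk p hp.out (huo ▸ dvd_rfl)
    rw [hκ] at this
    exact absurd this (Set.notMem_empty p)
  have hpL : p ∈ sigma L₀ := hσ p hp.out (huo ▸ dvd_rfl)
  obtain ⟨g, hg⟩ := S1425.result hG L₀ hL₀ A h.hA.ne_bot fun r hr hd => by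
    rw [(Nat.prime_dvd_prime_iff_eq hr hp.out).mp (hr.dvd_of_dvd_pow (hAc ▸ hd))]
    exact hpL
  set L := L₀.map (MulAut.conj g⁻¹).toMonoidHom with hLdef
  have hL : IsCoatom L := Unique.isCoatom_map_conj hL₀ g⁻¹
  have hAL : A ≤ sigmaCore L := by
    rw [hLdef, sigmaCore_map]
    intro a ha
    have h1 := hg ⟨a, ha, rfl⟩
    exact mem_conj_iff.mpr (by simpa using h1)
  have hnot : ¬ centralizer ({u} : Set G) ≤ L := fun hle => by
    have e := huniq L hL hle
    exact h.hσ (Transitivity.isPi_piCoreOf (sigma M) M p hp.out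
      (h.hA.dvd_card.trans (card_dvd_of_le (e ▸ hAL))))
  obtain ⟨N, hN⟩ := exists_sig hG hL (hAL hu) hu1 hnot
  have e := huniq N hN.hN hN.hC
  subst e
  exact ⟨L, A, u, h, hκ, hu, hu1, huW, hL, hAL, hN⟩

namespace Pair

variable (d : Pair p M L A u)
include d

theorem hG : IsMinSimpleOddOrder G := d.ctx.hG

theorem hM : IsCoatom M := d.ctx.hM

theorem compl : IsComplIn (L ⊓ M) (sigmaCore M) M := d.sig.compl

theorem A_le : A ≤ L ⊓ M := le_inf (d.AL.trans (Sigma.sigmaCore_le L)) d.ctx.hAM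

theorem p_sigma : p ∈ sigma L :=
  Transitivity.isPi_piCoreOf (sigma L) L p hp.out (d.ctx.hA.dvd_card.trans (card_dvd_of_le d.AL))

theorem orderOf_u : orderOf u = p := Components.Hyperplane.orderOf_eq d.ctx.hA.el d.hu d.hu1

theorem u_mem : u ∈ sigmaCore L := d.AL d.hu

theorem centralizer_le : centralizer ({u} : Set G) ≤ M := d.sig.hC

/-- `τ₁`- and `τ₃`-elements of the complement act regularly. -/
theorem regular {e : G} (he : e ∈ L ⊓ M) (he1 : e ≠ 1)
    (hτ : ∀ r : ℕ, r.Prime → r ∣ orderOf e → r ∈ tau1 M ∪ tau3 M) :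
    sigmaCore M ⊓ centralizer ({e} : Set G) = ⊥ := by
  by_contra hne
  obtain ⟨y, hy, hy1⟩ := (bot_or_exists_ne_one _).resolve_left hne
  obtain ⟨n, hn⟩ := KappaStructure.exists_prime_power he1
  have := Fact.mk hn
  have hrd := orderOf_pow_dvd (x := e) n
  have hrank : PRankLE (orderOf (e ^ n)) 1 M ∧ orderOf (e ^ n) ∉ sigma M := by
    rcases hτ _ hn hrd with h | h
    exacts [⟨h.2.2.2.2, h.2.1⟩, ⟨h.2.2.2, h.2.1⟩]
  have hc : Commute e y := (mem_centralizer_singleton_iff.mp (mem_inf.mp hy).2).symm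
  have := KappaStructure.mem_kappa d.hG (pow_mem (mem_inf.mp he).2 n) rfl hrank.2 hrank.1
    (mem_inf.mp hy).1 hy1 (hc.pow_left n).eq
  rw [d.kM] at this
  exact this

/-- An element of the complement with fixed points on `M_σ` is a `τ₂`-element. -/
theorem tau2_of_fixed {x : G} (hx : x ∈ L ⊓ M) (hx1 : x ≠ 1) {y : G} (hy : y ∈ sigmaCore M)
    (hy1 : y ≠ 1) (hxy : x * y = y * x) :
    (∀ r : ℕ, r.Prime → r ∣ orderOf x → r ∈ tau2 M) ∧ centralizer ({x} : Set G) ≤ M ∧
      ∀ N : Subgroup G, IsCoatom N → centralizer ({x} : Set G) ≤ N → N = M := by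
  rcases S1432.result d.hG M d.hM y hy hy1 x (mem_inf.mpr ⟨(mem_inf.mp hx).2,
    mem_centralizer_singleton_iff.mpr hxy⟩) hx1 (fun r hr hd =>
      Compl.not_sigma d.hG d.hM d.compl hr (hd.trans (orderOf_dvd_natCard _ hx))) with
    ⟨hk, -⟩ | ⟨hτ, -, hC⟩
  · obtain ⟨r, hr, hd⟩ := Nat.exists_prime_and_dvd fun e => hx1 (orderOf_eq_one_iff.mp e)
    have := hk r hr hd
    rw [d.kM] at this
    exact absurd this (Set.notMem_empty r)
  · exact ⟨hτ, hC⟩

/-- When `τ₂(L)` is empty those elements lie in `L_σ`. -/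
theorem fixed_mem (hτL : tau2 L = ∅) {x : G} (hx : x ∈ L ⊓ M) (hx1 : x ≠ 1) {y : G}
    (hy : y ∈ sigmaCore M) (hy1 : y ≠ 1) (hxy : x * y = y * x) :
    x ∈ sigmaCore L ∧ Sig L M x := by
  obtain ⟨hτ, hC, huniq⟩ := d.tau2_of_fixed hx hx1 hy hy1 hxy
  have hxσ : x ∈ sigmaCore L := by
    refine (DadeSets.mem_core_iff d.hG d.hL (mem_inf.mp hx).1).mp fun r hr hd => ?_
    by_contra hrL
    have := Fact.mk hr
    obtain ⟨B, hBE, h'⟩ := SigmaCompl.exists_ctx d.hG d.hM d.compl (hτ r hr hd)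
    have : r ∈ tau2 L := ⟨hr, hrL, SigmaCompl.rank_le d.hG d.hL hr hrL,
      Unique.not_pRankLE_of_elementary (hBE.trans inf_le_left) h'.hA.el h'.hA.card.ge⟩
    rw [hτL] at this
    exact this
  refine ⟨hxσ, ?_⟩
  have hnot : ¬ centralizer ({x} : Set G) ≤ L := fun hle => by
    have e := huniq L d.hL hle
    exact d.sig.hne 1 (by rw [Transfer.Fusion.map_conj_one]; exact e.symm)
  obtain ⟨N, hN⟩ := exists_sig d.hG d.hL hxσ hx1 hnot
  rwa [← huniq N hN.hN hN.hC]

/-- The three shapes of `L`. -/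
theorem K_or_U {K U : Subgroup G} (hKU : IsSigmaDecomposition L K U) : K = ⊥ ∨ U = ⊥ := by
  by_contra h
  push Not at h
  obtain ⟨-, hTI, hle⟩ := S1372.result d.hG L d.hL K U hKU h.1 h.2
  refine d.sig.not_le d.hL fun c hc => ?_
  have huF : u ∈ fittingOf L := hle d.u_mem
  by_contra hcL
  refine d.hu1 (hTI c ?_ u huF ?_)
  · intro hcn
    refine hcL ?_
    have hne : fittingOf L ≠ ⊥ := fun e => d.hu1 (by rw [e, mem_bot] at huF; exact huF)
    have heq : normalizer (fittingOf L : Set G) = L := by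
      refine le_antisymm ?_ (FittingTI.le_normalizer_fittingOf L)
      by_contra hlt
      have htop := d.hL.2 _ (lt_of_le_not_ge (FittingTI.le_normalizer_fittingOf L) hlt)
      haveI := normalizer_eq_top_iff.1 htop
      haveI := d.hG.2.1
      rcases IsSimpleGroup.eq_bot_or_eq_top_of_normal (fittingOf L) inferInstance with e | e
      · exact hne e
      · exact d.hL.1 (top_le_iff.1 (e ▸ map_subtype_le _))
    rwa [heq] at hcn
  · rw [mem_centralizer_singleton_iff.mp hc, mul_inv_cancel_right]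
    exact huF

/-- `τ₂(L)` is empty, provided no smaller prime is a `τ₂`-prime without `κ`. -/
theorem tau2L_empty
    (hmin : ∀ q : ℕ, q < p → ∀ N : Subgroup G, IsCoatom N → kappa N = ∅ → q ∉ tau2 N) :
    tau2 L = ∅ := by
  obtain ⟨K, U, hKU⟩ := Fcore.exists_decomp d.hG d.hL
  by_contra hne
  obtain ⟨q, hq⟩ := Set.nonempty_iff_ne_empty.mpr hne
  have := Fact.mk hq.1
  rcases eq_or_ne K ⊥ with hK | hK
  swap
  · have hU := (d.K_or_U hKU).resolve_left hK
    have hqL : q ∣ Nat.card L := by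
      by_contra h
      exact hq.2.2.2 (Sigma.pRankLE_of_not_dvd h)
    by_cases hκ : q ∈ kappa L
    · exact hq.2.2.2 (KappaStructure.rank_of_kappa hκ)
    · have h1 := KappaDecomp.dvd_of_not hKU hq.1 hqL hq.2.1 hκ
      rw [hU, card_bot] at h1
      exact hq.1.ne_one (Nat.dvd_one.mp h1)
  have hκL : kappa L = ∅ := by
    by_contra h
    obtain ⟨r, hr⟩ := Set.nonempty_iff_ne_empty.mpr h
    exact hKU.hall.2.2 r hr.1 hr (by rw [hK, relIndex_bot_left]; exact hr.2.1)
  have hpq : p < q := lt_of_le_of_ne (not_lt.mp fun h => hmin q h L d.hL hκL hq)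
    fun e => hq.2.1 (e ▸ d.p_sigma)
  obtain ⟨B, hBL, hBe, hBc⟩ := Unique.exists_elementary_of_not_pRankLE hq.2.2.2
  have h' := TauTwo.Ctx.mk' d.hG d.hL hq hBL hBe hBc
  set H := sigmaCore L with hH
  have hHn : Group.IsNilpotent H := h'.sigmaCore_nilpotent
  -- the central elements of order dividing `p`
  let Z : Subgroup G :=
    { carrier := {z | z ∈ H ∧ z ∈ centralizer (H : Set G) ∧ z ^ p = 1}
      one_mem' := ⟨one_mem _, one_mem _, one_pow _⟩
      mul_mem' := fun {a b} ha hb => ⟨mul_mem ha.1 hb.1, mul_mem ha.2.1 hb.2.1, by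
        rw [(show Commute a b from (mem_centralizer_iff.mp ha.2.1 b hb.1).symm).mul_pow, ha.2.2,
          hb.2.2, one_mul]⟩
      inv_mem' := fun {a} ha => ⟨inv_mem ha.1, inv_mem ha.2.1, by rw [inv_pow, ha.2.2, inv_one]⟩ }
  have hZ1 : Z ≠ ⊥ := by
    haveI := hHn
    obtain ⟨S⟩ := (inferInstance : Nonempty (Sylow p H))
    have hS1 : (S : Subgroup H) ≠ ⊥ := S.ne_bot_of_dvd_card
      (d.ctx.hA.dvd_card.trans (card_dvd_of_le d.AL))
    have hSn : (S : Subgroup H).Normal := S.normal_of_normalizerCondition Group.normalizerCondition_of_isNilpotent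
    have hne' := OddLocal.Coprime.inf_center_ne_bot hSn hS1
    obtain ⟨z, hz, hzo⟩ := KappaFixed.exists_order_eq (S.isPGroup'.to_le inf_le_left) hne'
    intro e
    have hzZ : (z : G) ∈ Z := ⟨z.2, mem_centralizer_iff.mpr fun w hw =>
      congrArg Subtype.val (mem_center_iff.mp (mem_inf.mp hz).2 ⟨w, hw⟩),
      by rw [← SubmonoidClass.coe_pow, show z ^ p = 1 from hzo ▸ pow_orderOf_eq_one z, OneMemClass.coe_one]⟩
    rw [e, mem_bot] at hzZ
    exact hp.out.ne_one (by rw [← hzo, (show z = 1 from Subtype.ext hzZ), orderOf_one])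
  have hZA : Z ≤ A := fun z hz => d.ctx.hA.omega z
    (mem_centralizer_iff.mpr fun a ha => mem_centralizer_iff.mp hz.2.1 a (d.AL ha)) hz.2.2
  have hBZ : B ≤ normalizer (Z : Set G) := by
    intro b hb
    refine PType.mem_normalizer_of_stable (M := L) (fun m hm z hz => ?_) (hBL hb)
    have hn := mem_normalizer_iff.mp (Sigma.le_normalizer_sigmaCore L hm)
    refine ⟨(hn z).mp hz.1, mem_centralizer_iff.mpr fun w hw => ?_,
      by rw [conj_pow, hz.2.2, mul_one, mul_inv_cancel]⟩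
    have hw' : m⁻¹ * w * m ∈ H :=
      (mem_normalizer_iff''.mp (Sigma.le_normalizer_sigmaCore L hm) w).mp hw
    calc w * (m * z * m⁻¹) = m * ((m⁻¹ * w * m) * z) * m⁻¹ := by group
      _ = m * (z * (m⁻¹ * w * m)) * m⁻¹ := by rw [mem_centralizer_iff.mp hz.2.1 _ hw']
      _ = m * z * m⁻¹ * w := by group
  have hcent : ∀ b ∈ B, b ∈ centralizer (Z : Set G) := by
    intro b hb
    have hbq : IsPGroup q (zpowers b) :=
      (Components.Hyperplane.isPGroup hBe).to_le (zpowers_le.mpr hb)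
    rcases eq_or_ne Z A with hZA' | hZA'
    · rw [hZA'] at hBZ ⊢
      exact SigmaCompl.centralizes_of_lt d.hG hpq d.ctx.hA hbq (hBZ hb)
    · by_contra hbc
      have hb1 : b ≠ 1 := fun e => hbc (e ▸ one_mem _)
      have hbo := Components.Hyperplane.orderOf_eq hBe hb hb1
      have hdvd := LineAut.card_dvd_pred (K := zpowers b) (d.ctx.hA.card_eq_of_lt hZA hZ1 hZA')
        ((zpowers_le.mpr hb).trans hBZ) fun k hk hkc => by
          by_contra hk1
          refine hbc ?_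
          have := (ZGroupCore.zpowers_eq_of_prime (A := zpowers b)
            (by rw [Nat.card_zpowers, hbo]; exact hq.1) hk hk1).ge (mem_zpowers b)
          exact (zpowers_le.mpr hkc) this
      rw [Nat.card_zpowers, hbo] at hdvd
      have := Nat.le_of_dvd (by have := hp.out.two_le; omega) hdvd
      omega
  refine hZ1 (le_bot_iff.mp ?_)
  rw [← h'.inf_centralizer]
  exact fun z hz => mem_inf.mpr ⟨hz.1, mem_centralizer_iff.mpr fun b hb =>
    (mem_centralizer_iff.mp (hcent b hb) z hz).symm⟩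

/-- A element of `A` acting regularly on `M_σ`. -/
theorem exists_regular : ∃ a ∈ A, a ≠ 1 ∧ sigmaCore M ⊓ centralizer ({a} : Set G) = ⊥ := by
  obtain ⟨a, ha, hak, hfix⟩ := d.ctx.exists_fpf d.ctx.good_sigma (k := ⊥)
    fun e => d.ctx.hA.ne_bot (le_bot_iff.mp e)
  exact ⟨a, ha, fun e => hak (e ▸ one_mem _), hfix⟩

end Pair

end Cfsg.Agent.OddChar.TypeOne.Gap.Local
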